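import Cfsg.Agent.Lib.UFourThreeLocal.Setup
import Mathlib.GroupTheory.PGroup

/-!
# The product of the two components and the group it contains as the two-core
-/

set_option autoImplicit false
set_option maxRecDepth 10000

namespace Cfsg.Lib.UFourThreeLocal

open Subgroup

/-- A valid code of a pair. -/
def okP (x : ℕ) : Bool := Nat.blt x 576 && Nat.blt (x / 24 % 8) 4

/-- A code of an element of the two-core. -/
def okQ (x : ℕ) : Bool := okP x && Nat.blt (x / 24) 8 && Nat.blt (x % 24) 8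

theorem canon_eq {p q : ℕ} (hp : p < 24) (hq : q < 24) :
    okP (canon p q) = true ∧ ((canon p q / 24 = p ∧ canon p q % 24 = q) ∨
      (canon p q / 24 = sMul p 4 ∧ canon p q % 24 = sMul q 4)) := by
  revert hq; revert q; revert hp; revert p
  decide +kernel

theorem sMul_lt {a b : ℕ} (ha : a < 24) (hb : b < 24) : sMul a b < 24 := (matOf_mul a ha b hb).1

theorem sInv_spec : ∀ a < 24, sInv a < 24 ∧ sMul a (sInv a) = 0 := by decide +kernel

theorem sTau_hom : ∀ a < 24, sTau a < 24 ∧ ∀ b < 24, sTau (sMul a b) = sMul (sTau a) (sTau b) := by decide +kernel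

theorem okP_bounds {x : ℕ} (h : okP x = true) : x < 576 ∧ x / 24 < 24 ∧ x % 24 < 24 ∧ x / 24 % 8 < 4 := by
  rw [okP, Bool.and_eq_true, Nat.blt_eq, Nat.blt_eq] at h
  omega

/-- The valid codes of pairs as a list. -/
def eltsP : List ℕ := (List.range 576).filter okP

theorem mem_eltsP {x : ℕ} : x ∈ eltsP ↔ okP x = true := by
  rw [eltsP, List.mem_filter, List.mem_range]
  exact ⟨fun h => h.2, fun h => ⟨(okP_bounds h).1, h⟩⟩

/-- The codes of the two-core as a list. -/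
def eltsQ : List ℕ := (List.range 576).filter okQ

theorem mem_eltsQ {x : ℕ} : x ∈ eltsQ ↔ okQ x = true := by
  rw [eltsQ, List.mem_filter, List.mem_range]
  refine ⟨fun h => h.2, fun h => ⟨?_, h⟩⟩
  rw [okQ, Bool.and_eq_true, Bool.and_eq_true] at h
  exact (okP_bounds h.1.1).1

namespace Comp

variable {G : Type*} [Group G] {z : G} (K : Comp z)

/-- The element of a pair. -/
def phi (x : ℕ) : G := K.u₁ (x / 24) * K.u₂ (x % 24)

/-- Membership in the two-core. -/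
def InQ (x : G) : Prop := ∃ p < 8, ∃ q < 8, x = K.u₁ p * K.u₂ q

include K in
theorem z_sq : z * z = 1 := by
  have h := K.mul₁ (a := 4) (b := 4) (by norm_num) (by norm_num)
  rw [show sMul 4 4 = 0 from rfl, K.zero₁, K.four₁] at h
  exact h.symm

include K in
theorem z_ne : z ≠ 1 := by
  intro h
  rcases K.sep (a := 4) (b := 0) (by norm_num) (by norm_num) (by rw [K.four₁, K.zero₂, h, one_mul]) with ⟨h, -⟩ | ⟨-, h⟩ <;>
    omega

include K in
theorem z_inv : z⁻¹ = z := inv_eq_of_mul_eq_one_right K.z_sq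

theorem neg {p q : ℕ} (hp : p < 24) (hq : q < 24) : K.u₁ (sMul p 4) * K.u₂ (sMul q 4) = K.u₁ p * K.u₂ q := by
  rw [K.mul₁ hp (by norm_num), K.mul₂ hq (by norm_num), K.four₁, K.four₂]
  calc K.u₁ p * z * (K.u₂ q * z) = K.u₁ p * (z * K.u₂ q) * z := by group
    _ = K.u₁ p * K.u₂ q * (z * z) := by rw [← (K.cent₂ hq).eq]; group
    _ = _ := by rw [K.z_sq, mul_one]

theorem phi_canon {p q : ℕ} (hp : p < 24) (hq : q < 24) : K.phi (canon p q) = K.u₁ p * K.u₂ q := by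
  obtain ⟨-, ⟨h1, h2⟩ | ⟨h1, h2⟩⟩ := canon_eq hp hq <;> rw [phi, h1, h2]
  exact K.neg hp hq

theorem phi_zero : K.phi 0 = 1 := by rw [phi, Nat.zero_div, Nat.zero_mod, K.zero₁, K.zero₂, one_mul]

theorem phi_four : K.phi 4 = z := by
  rw [phi, show 4 / 24 = 0 from rfl, show 4 % 24 = 4 from rfl, K.zero₁, one_mul, K.four₂]

theorem phi_mul {x y : ℕ} (hx : okP x = true) (hy : okP y = true) :
    okP (pMul x y) = true ∧ K.phi (pMul x y) = K.phi x * K.phi y := by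
  obtain ⟨-, h1, h2, -⟩ := okP_bounds hx
  obtain ⟨-, h3, h4, -⟩ := okP_bounds hy
  refine ⟨(canon_eq (sMul_lt h1 h3) (sMul_lt h2 h4)).1, ?_⟩
  rw [pMul, K.phi_canon (sMul_lt h1 h3) (sMul_lt h2 h4), K.mul₁ h1 h3, K.mul₂ h2 h4, phi, phi]
  calc K.u₁ (x / 24) * K.u₁ (y / 24) * (K.u₂ (x % 24) * K.u₂ (y % 24))
      = K.u₁ (x / 24) * (K.u₁ (y / 24) * K.u₂ (x % 24)) * K.u₂ (y % 24) := by group
    _ = _ := by rw [(K.commute h3 h2).eq]; group

theorem phi_inv {x : ℕ} (hx : okP x = true) : okP (pInv x) = true ∧ K.phi (pInv x) = (K.phi x)⁻¹ := by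
  obtain ⟨-, h1, h2, -⟩ := okP_bounds hx
  obtain ⟨i1, j1⟩ := sInv_spec _ h1
  obtain ⟨i2, j2⟩ := sInv_spec _ h2
  refine ⟨(canon_eq i1 i2).1, ?_⟩
  have e1 : K.u₁ (sInv (x / 24)) = (K.u₁ (x / 24))⁻¹ :=
    eq_inv_of_mul_eq_one_right (by rw [← K.mul₁ h1 i1, j1, K.zero₁])
  have e2 : K.u₂ (sInv (x % 24)) = (K.u₂ (x % 24))⁻¹ :=
    eq_inv_of_mul_eq_one_right (by rw [← K.mul₂ h2 i2, j2, K.zero₂])
  rw [pInv, K.phi_canon i1 i2, e1, e2, phi, mul_inv_rev]
  exact ((K.commute h1 h2).inv_inv).eq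

theorem phi_inj {x y : ℕ} (hx : okP x = true) (hy : okP y = true) (h : K.phi x = K.phi y) : x = y := by
  obtain ⟨-, h1, h2, h5⟩ := okP_bounds hx
  obtain ⟨-, h3, h4, h6⟩ := okP_bounds hy
  obtain ⟨i1, -⟩ := sInv_spec _ h1
  obtain ⟨i2, -⟩ := sInv_spec _ h2
  have e : K.u₁ (sMul (sInv (x / 24)) (y / 24)) * K.u₂ (sMul (sInv (x % 24)) (y % 24)) = 1 := by
    have e1 : K.u₁ (sInv (x / 24)) = (K.u₁ (x / 24))⁻¹ :=
      eq_inv_of_mul_eq_one_right (by rw [← K.mul₁ h1 i1, (sInv_spec _ h1).2, K.zero₁])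
    have e2 : K.u₂ (sInv (x % 24)) = (K.u₂ (x % 24))⁻¹ :=
      eq_inv_of_mul_eq_one_right (by rw [← K.mul₂ h2 i2, (sInv_spec _ h2).2, K.zero₂])
    rw [K.mul₁ i1 h3, K.mul₂ i2 h4, e1, e2]
    calc (K.u₁ (x / 24))⁻¹ * K.u₁ (y / 24) * ((K.u₂ (x % 24))⁻¹ * K.u₂ (y % 24))
        = (K.u₁ (x / 24))⁻¹ * (K.u₁ (y / 24) * (K.u₂ (x % 24))⁻¹) * K.u₂ (y % 24) := by group
      _ = (K.phi x)⁻¹ * K.phi y := by
        rw [((K.commute h3 h2).inv_right).eq, phi, phi, mul_inv_rev,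
          ← ((K.commute h1 h2).inv_inv).eq]; group
      _ = 1 := by rw [h, inv_mul_cancel]
  have k0 : ∀ a < 24, ∀ b < 24, sMul (sInv a) b = 0 → a = b := by decide +kernel
  have k4 : ∀ a < 24, ∀ b < 24, sMul (sInv a) b = 4 → a % 8 < 4 → b % 8 < 4 → False := by decide +kernel
  rcases K.sep (sMul_lt i1 h3) (sMul_lt i2 h4) e with ⟨a, b⟩ | ⟨a, b⟩
  · have := k0 _ h1 _ h3 a; have := k0 _ h2 _ h4 b; omega
  · exact (k4 _ h1 _ h3 a h5 h6).elim

theorem phi_cent {x : ℕ} (hx : okP x = true) : Commute (K.phi x) z :=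
  (K.cent₁ (okP_bounds hx).2.1).mul_left (K.cent₂ (okP_bounds hx).2.2.1)

theorem mem_K {p q : ℕ} (hp : p < 24) (hq : q < 24) : ∃ x, okP x = true ∧ K.phi x = K.u₁ p * K.u₂ q :=
  ⟨_, (canon_eq hp hq).1, K.phi_canon hp hq⟩

theorem norm_phi {c : G} {x : ℕ} (hc : Commute c z) (hx : okP x = true) :
    ∃ y, okP y = true ∧ K.phi y = c * K.phi x * c⁻¹ := by
  obtain ⟨p, hp, q, hq, h⟩ := K.norm hc (okP_bounds hx).2.1 (okP_bounds hx).2.2.1
  obtain ⟨y, hy, e⟩ := K.mem_K hp hq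
  exact ⟨y, hy, by rw [e, phi, h]⟩

theorem inQ_iff {x : G} : K.InQ x ↔ ∃ q, okQ q = true ∧ K.phi q = x := by
  constructor
  · rintro ⟨p, hp, q, hq, rfl⟩
    have h : ∀ p < 8, ∀ q < 8, okQ (canon p q) = true := by decide +kernel
    exact ⟨_, h p hp q hq, K.phi_canon (by omega) (by omega)⟩
  · rintro ⟨q, hq, rfl⟩
    rw [okQ, Bool.and_eq_true, Bool.and_eq_true, Nat.blt_eq, Nat.blt_eq] at hq
    exact ⟨_, hq.1.2, _, hq.2, rfl⟩

theorem okQ_P {q : ℕ} (h : okQ q = true) : okP q = true := by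
  rw [okQ, Bool.and_eq_true, Bool.and_eq_true] at h; exact h.1.1

/-- An element of the product of fourth power one lies in the two-core. -/
theorem inQ_of_pow {x : ℕ} (hx : okP x = true) (h : K.phi x ^ 4 = 1) : okQ x = true := by
  obtain ⟨hm, he⟩ := K.phi_mul hx hx
  obtain ⟨hn, hf⟩ := K.phi_mul hm hm
  have e : pMul (pMul x x) (pMul x x) = 0 := K.phi_inj hn (by decide) (by
    rw [hf, he, K.phi_zero, ← h]; simp only [pow_succ, pow_zero, one_mul, mul_assoc])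
  have key : (eltsP.all fun a => !Nat.beq (pMul (pMul a a) (pMul a a)) 0 || okQ a) = true := by decide +kernel
  simpa [e] using List.all_eq_true.1 key x (mem_eltsP.2 hx)

theorem phi_pow_four {q : ℕ} (hq : okQ q = true) : K.phi q ^ 4 = 1 := by
  have key : (eltsQ.all fun a => Nat.beq (pMul (pMul a a) (pMul a a)) 0) = true := by decide +kernel
  have e := Nat.eq_of_beq_eq_true (List.all_eq_true.1 key q (mem_eltsQ.2 hq))
  obtain ⟨hm, he⟩ := K.phi_mul (okQ_P hq) (okQ_P hq)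
  obtain ⟨-, hf⟩ := K.phi_mul hm hm
  rw [e, K.phi_zero, he] at hf
  rw [hf]; simp only [pow_succ, pow_zero, one_mul, mul_assoc]

/-- The two-core is normal in the centraliser. -/
theorem norm_inQ {c x : G} (hc : Commute c z) (hx : K.InQ x) : K.InQ (c * x * c⁻¹) := by
  obtain ⟨q, hq, rfl⟩ := K.inQ_iff.1 hx
  obtain ⟨y, hy, e⟩ := K.norm_phi hc (okQ_P hq)
  refine K.inQ_iff.2 ⟨y, K.inQ_of_pow hy ?_, e⟩
  rw [e, conj_pow, K.phi_pow_four hq]
  group

/-- The product as a subgroup of the centraliser. -/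
def sub : Subgroup ↥(centralizer ({z} : Set G)) where
  carrier := {c | ∃ x, okP x = true ∧ K.phi x = c}
  one_mem' := ⟨0, by decide, K.phi_zero⟩
  mul_mem' := by
    rintro a b ⟨x, hx, ha⟩ ⟨y, hy, hb⟩
    exact ⟨_, (K.phi_mul hx hy).1, by rw [(K.phi_mul hx hy).2, ha, hb, coe_mul]⟩
  inv_mem' := by
    rintro a ⟨x, hx, ha⟩
    exact ⟨_, (K.phi_inv hx).1, by rw [(K.phi_inv hx).2, ha, coe_inv]⟩

theorem mem_sub {c : ↥(centralizer ({z} : Set G))} : c ∈ K.sub ↔ ∃ x, okP x = true ∧ K.phi x = c := Iff.rfl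

theorem card_sub : Nat.card ↥K.sub = 288 := by
  classical
  let f : {x : ℕ // x ∈ eltsP} → ↥K.sub := fun x =>
    ⟨⟨K.phi x, mem_centralizer_singleton_iff.2 (K.phi_cent (mem_eltsP.1 x.2)).eq⟩, x, mem_eltsP.1 x.2, rfl⟩
  have hf : Function.Bijective f := by
    refine ⟨fun a b h => Subtype.ext (K.phi_inj (mem_eltsP.1 a.2) (mem_eltsP.1 b.2) ?_), fun c => ?_⟩
    · exact congrArg (fun c : ↥K.sub => ((c : ↥(centralizer ({z} : Set G))) : G)) h
    · obtain ⟨x, hx, he⟩ := c.2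
      exact ⟨⟨x, mem_eltsP.2 hx⟩, Subtype.ext (Subtype.ext he)⟩
  rw [← Nat.card_eq_of_bijective f hf,
    Nat.card_congr (Equiv.subtypeEquivRight fun x => (List.mem_toFinset (l := eltsP) (a := x)).symm),
    Nat.card_eq_finsetCard]
  exact (by decide +kernel : eltsP.toFinset.card = 288)

/-- Commutators of elements of the centraliser lie in the product. -/
theorem commutator_mem [Finite G] {a b : G} (ha : Commute a z) (hb : Commute b z) :
    ∃ x, okP x = true ∧ K.phi x = a * b * a⁻¹ * b⁻¹ := by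
  have : Fact (Nat.Prime 2) := ⟨Nat.prime_two⟩
  have hn : K.sub.Normal := ⟨fun k ⟨x, hx, hk⟩ c => by
    obtain ⟨y, hy, e⟩ := K.norm_phi (mem_centralizer_singleton_iff.1 c.2) hx
    exact ⟨y, hy, by rw [e, hk, coe_mul, coe_mul, coe_inv]⟩⟩
  have h4 : Nat.card (↥(centralizer ({z} : Set G)) ⧸ K.sub) = 2 ^ 2 := by
    have := card_eq_card_quotient_mul_card_subgroup K.sub
    rw [K.card, K.card_sub] at this
    omega
  let a' : ↥(centralizer ({z} : Set G)) := ⟨a, mem_centralizer_singleton_iff.2 ha.eq⟩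
  let b' : ↥(centralizer ({z} : Set G)) := ⟨b, mem_centralizer_singleton_iff.2 hb.eq⟩
  have := IsPGroup.isMulCommutative_of_card_eq_prime_sq h4
  refine (K.mem_sub (c := a' * b' * a'⁻¹ * b'⁻¹)).1 ?_
  rw [← QuotientGroup.eq_one_iff]
  simp only [QuotientGroup.mk_mul, QuotientGroup.mk_inv]
  rw [mul_comm' (a' : ↥(centralizer ({z} : Set G)) ⧸ K.sub) b']
  group

end Comp

end Cfsg.Lib.UFourThreeLocal
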