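import Cfsg.Agent.Lib.UFourThreeLocal.Relations
import Cfsg.Agent.Lib.UFourThreeRecog.Frame

/-!
# The generators of a group with the centraliser of the model
-/

set_option autoImplicit false
set_option maxRecDepth 10000
set_option linter.unusedSectionVars false

namespace Cfsg.Lib.UFourThreeLocal

open Subgroup UFourThreeRecog

attribute [local irreducible] elts mulH conjH invH okH pow16 pow3 pow9 commH eltsS sylS eCodes

namespace Loc

variable {G : Type*} [Group G] [Finite G] {z : G} (L : Loc z)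

theorem ok_gens {h : ℕ} (hh : h ∈ [1, 4, 8, 24, 48, 192, 576, 1152]) : okH h = true := by
  simp only [List.mem_cons, List.not_mem_nil, or_false] at hh
  rcases hh with rfl | rfl | rfl | rfl | rfl | rfl | rfl | rfl <;> with_unfolding_all decide

theorem gen_facts : conjH 192 24 = 48 ∧ conjH 576 24 = 1 ∧ conjH 576 192 = 8 ∧ mulH 48 48 = 4 ∧
    mulH 24 24 = 4 ∧ mulH 1 1 = 4 ∧ conjH 192 48 = mulH 24 48 ∧ conjH 48 24 = invH 24 ∧
    conjH 576 1152 = invH 1152 ∧ conjH 1152 192 = invH 192 ∧ conjH 1152 24 = invH 24 ∧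
    commH 192 8 = true ∧ commH 192 1 = true ∧ commH 24 1 = true := by
  with_unfolding_all decide +kernel

/-- The part of the centraliser generated by four elements is everything. -/
theorem cent_eq_closure : centralizer ({z} : Set G) =
    closure {L.ψ 24, L.ψ 192, L.ψ 576, L.ψ 1152} := by
  set K := closure {L.ψ 24, L.ψ 192, L.ψ 576, L.ψ 1152} with hK
  refine le_antisymm (fun c hc => ?_) ((closure_le _).2 ?_)
  · have hcz : Commute c z := mem_centralizer_singleton_iff.1 hc
    let P : List ℕ → Prop := fun l => ∀ h ∈ l, okH h = true ∧ L.ψ h ∈ K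
    have hprod : ∀ {l m : List ℕ}, P l → P m → P (prodH l m) := by
      intro l m hl hm h hh
      simp only [prodH, List.mem_flatMap, List.mem_map] at hh
      obtain ⟨a, ha, b, hb, rfl⟩ := hh
      exact ⟨L.ok (hl a ha).1 (hm b hb).1, by rw [L.mul (hl a ha).1 (hm b hb).1]; exact mul_mem (hl a ha).2 (hm b hb).2⟩
    have g1 : ∀ {h : ℕ}, h ∈ [24, 192, 576, 1152] → okH h = true ∧ L.ψ h ∈ K := fun {h} hh => by
      simp only [List.mem_cons, List.not_mem_nil, or_false] at hh
      exact ⟨ok_gens (by simp only [List.mem_cons, List.not_mem_nil, or_false]; omega),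
        subset_closure (by rcases hh with rfl | rfl | rfl | rfl <;> simp)⟩
    have m2 : ∀ {a b : ℕ}, okH a = true ∧ L.ψ a ∈ K → okH b = true ∧ L.ψ b ∈ K →
        okH (mulH a b) = true ∧ L.ψ (mulH a b) ∈ K := fun ha hb =>
      ⟨L.ok ha.1 hb.1, by rw [L.mul ha.1 hb.1]; exact mul_mem ha.2 hb.2⟩
    have c2 : ∀ {a b : ℕ}, okH a = true ∧ L.ψ a ∈ K → okH b = true ∧ L.ψ b ∈ K →
        okH (conjH a b) = true ∧ L.ψ (conjH a b) ∈ K := fun ha hb =>
      ⟨(L.conj ha.1 hb.1).1, by rw [(L.conj ha.1 hb.1).2]; exact mul_mem (mul_mem ha.2 hb.2) (inv_mem ha.2)⟩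
    have h0 : okH 0 = true ∧ L.ψ 0 ∈ K := ⟨by with_unfolding_all decide, by rw [L.psi_zero]; exact one_mem _⟩
    have h24 := g1 (h := 24) (by decide)
    have h192 := g1 (h := 192) (by decide)
    have h576 := g1 (h := 576) (by decide)
    have h1152 := g1 (h := 1152) (by decide)
    have hP : P genP := by
      refine hprod (hprod ?_ ?_) ?_
      · intro h hh
        simp only [List.mem_cons, List.not_mem_nil, or_false] at hh
        rcases hh with rfl | rfl | rfl | rfl
        exacts [h0, h24, m2 h24 h24, m2 (m2 h24 h24) h24]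
      · intro h hh
        simp only [List.mem_cons, List.not_mem_nil, or_false] at hh
        rcases hh with rfl | rfl
        exacts [h0, c2 h192 h24]
      · intro h hh
        simp only [List.mem_cons, List.not_mem_nil, or_false] at hh
        rcases hh with rfl | rfl | rfl
        · exact h0
        · exact h192
        · rw [← show mulH 192 192 = 384 by with_unfolding_all decide]; exact m2 h192 h192
    have hconj : P (genP.map (conjH 576)) := fun h hh => by
      obtain ⟨a, ha, rfl⟩ := List.mem_map.1 hh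
      exact c2 h576 (hP a ha)
    have hT : P (prodH [0, 576, 1152, mulH 576 1152] [0, 4]) := by
      refine hprod ?_ ?_
      · intro h hh
        simp only [List.mem_cons, List.not_mem_nil, or_false] at hh
        rcases hh with rfl | rfl | rfl | rfl
        exacts [h0, h576, h1152, m2 h576 h1152]
      · intro h hh
        simp only [List.mem_cons, List.not_mem_nil, or_false] at hh
        rcases hh with rfl | rfl
        · exact h0
        · rw [← show mulH 24 24 = 4 from gen_facts.2.2.2.2.1]; exact m2 h24 h24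
    have hc' := L.code_ok hcz
    obtain ⟨ht, hp⟩ := okH_bounds hc'
    obtain ⟨-, hp1, hp2, hp3⟩ := okP_bounds hp
    have kk := gen_parts
    simp only [Bool.and_eq_true, List.all_eq_true, List.mem_range, Bool.or_eq_true, Bool.not_eq_true',
      ← Bool.not_eq_true, Nat.blt_eq, List.elem_eq_mem, decide_eq_true_eq] at kk
    have a1 := hP _ ((kk.1.1 _ hp1).resolve_left (not_not.2 hp3))
    have a2 := hconj _ (kk.1.2 _ hp2)
    have a3 := hT _ (kk.2 (576 * (L.code hcz / 576))
      (by simp only [List.mem_cons, List.not_mem_nil, or_false]; omega))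
    have k := elts_spec gen_check hc'
    simp only [Nat.beq_eq] at k
    rw [← L.psi_code hcz, ← k]
    exact (m2 (m2 a1 a2) a3).2
  · intro c hc
    simp only [Set.mem_insert_iff, Set.mem_singleton_iff] at hc
    rcases hc with e | e | e | e <;> rw [e] <;>
      exact mem_centralizer_singleton_iff.2 (L.cent (ok_gens (by decide)))

theorem s_mul_conj {h k : ℕ} (hh : okH h = true) (e : conjH 576 h = k) :
    L.ψ 576 * L.ψ h * L.ψ 576 = L.ψ k := by
  rw [← L.conj_eq (ok_const (by decide)) hh e, inv_eq_of_mul_eq_one_right L.s_sq]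

theorem psi_pow_four {h : ℕ} (hh : okH h = true) (e : mulH h h = 4) : L.ψ h ^ 4 = 1 := by
  rw [show (4 : ℕ) = 2 * 2 from rfl, pow_mul, pow_two, pow_two, L.mul_eq hh hh e, L.z_eq, L.z_sq]

/-- The frame of an axis. -/
def frame {l : G} (X : Axis L l) : Frame G where
  i := L.ψ 24
  a := L.ψ 192
  s := L.ψ 576
  m := L.ψ 1152
  l := l
  i_four := L.psi_pow_four (ok_gens (by decide)) gen_facts.2.2.2.2.1
  a_three := (L.tCodes_facts (by decide)).1
  s_sq := L.s_sq
  l_three := X.cube
  j_sq := by
    rw [L.conj_eq (ok_gens (by decide)) (ok_gens (by decide)) gen_facts.1,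
      L.mul_eq (ok_gens (h := 48) (by decide)) (ok_gens (by decide)) gen_facts.2.2.2.1,
      L.mul_eq (ok_gens (h := 24) (by decide)) (ok_gens (by decide)) gen_facts.2.2.2.2.1]
  a_j := by
    rw [L.conj_eq (ok_gens (by decide)) (ok_gens (by decide)) gen_facts.1,
      L.conj_eq (ok_gens (by decide)) (ok_gens (by decide)) gen_facts.2.2.2.2.2.2.1,
      L.mul (ok_gens (by decide)) (ok_gens (by decide))]
  j_i := by
    rw [L.conj_eq (ok_gens (by decide)) (ok_gens (by decide)) gen_facts.1,
      L.conj_eq (ok_gens (by decide)) (ok_gens (by decide)) gen_facts.2.2.2.2.2.2.2.1,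
      (L.inv (ok_gens (by decide))).2]
  comm_a_a₂ := by
    rw [L.s_mul_conj (ok_gens (by decide)) gen_facts.2.2.1]
    exact (L.psi_comm (ok_gens (by decide)) (ok_gens (by decide))).2 gen_facts.2.2.2.2.2.2.2.2.2.2.2.1
  comm_a_i₂ := by
    rw [L.s_mul_conj (ok_gens (by decide)) gen_facts.2.1]
    exact (L.psi_comm (ok_gens (by decide)) (ok_gens (by decide))).2 gen_facts.2.2.2.2.2.2.2.2.2.2.2.2.1
  comm_i_i₂ := by
    rw [L.s_mul_conj (ok_gens (by decide)) gen_facts.2.1]
    exact (L.psi_comm (ok_gens (by decide)) (ok_gens (by decide))).2 gen_facts.2.2.2.2.2.2.2.2.2.2.2.2.2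
  i₂_sq := by
    rw [L.s_mul_conj (ok_gens (by decide)) gen_facts.2.1,
      L.mul_eq (ok_gens (h := 1) (by decide)) (ok_gens (by decide)) gen_facts.2.2.2.2.2.1,
      L.mul_eq (ok_gens (h := 24) (by decide)) (ok_gens (by decide)) gen_facts.2.2.2.2.1]
  m_sq := by
    rw [L.m_sq, L.mul_eq (ok_gens (h := 24) (by decide)) (ok_gens (by decide)) gen_facts.2.2.2.2.1, L.z_eq]
  s_m := by
    rw [L.s_mul_conj (ok_gens (by decide)) gen_facts.2.2.2.2.2.2.2.2.1, (L.inv (ok_gens (by decide))).2]
  m_a := by
    rw [L.conj_eq (ok_gens (by decide)) (ok_gens (by decide)) gen_facts.2.2.2.2.2.2.2.2.2.1,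
      (L.inv (ok_gens (by decide))).2]
  m_i := by
    rw [L.conj_eq (ok_gens (by decide)) (ok_gens (by decide)) gen_facts.2.2.2.2.2.2.2.2.2.2.1,
      (L.inv (ok_gens (by decide))).2]
  comm_l_a := X.comm_T (L.psi_mem_tSub (by decide))
  comm_l_a₂ := by
    rw [L.s_mul_conj (ok_gens (by decide)) gen_facts.2.2.1]
    exact X.comm_T (L.psi_mem_tSub (by decide))
  z_l := by
    rw [L.mul_eq (ok_gens (h := 24) (by decide)) (ok_gens (by decide)) gen_facts.2.2.2.2.1, L.z_eq]
    exact X.inv_z
  comm_s_l := X.comm_s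
  comm_l_l₂ := X.comm_two
  l_x := by
    rw [L.s_mul_conj (ok_gens (by decide)) gen_facts.2.1]
    exact (X.relations _ rfl).1
  comm_l_x₂ := by
    rw [L.s_mul_conj (ok_gens (by decide)) gen_facts.2.1]
    exact X.cross_comm.1
  a₂_x := by
    rw [L.s_mul_conj (ok_gens (by decide)) gen_facts.2.1, L.s_mul_conj (ok_gens (by decide)) gen_facts.2.2.1]
    exact (X.relations _ rfl).2

theorem frame_z {l : G} (X : Axis L l) : (L.frame X).z = z := by
  change L.ψ 24 * L.ψ 24 = z
  rw [L.mul_eq (ok_gens (h := 24) (by decide)) (ok_gens (by decide)) gen_facts.2.2.2.2.1, L.z_eq]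

theorem frame_A {l : G} (X : Axis L l) : (L.frame X).A = L.ySub := by
  rw [X.ySub_eq_closure]
  change closure {L.ψ 192, L.ψ 576 * L.ψ 192 * L.ψ 576, l, L.ψ 1152 * l * (L.ψ 1152)⁻¹} = _
  rw [L.s_mul_conj (ok_gens (by decide)) gen_facts.2.2.1]

include L in
/-- A group with the coordinates of the centraliser has the generators of the model. -/
theorem exists_frame : ∃ F : Frame G, F.Facts := by
  obtain ⟨l, X⟩ := L.exists_axis
  refine ⟨L.frame X, ⟨?_, ?_, ?_, ?_, ?_⟩⟩
  · rw [L.frame_z X]; exact L.order_z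
  · rw [L.frame_A X]; exact X.card_ySub
  · rw [L.frame_A X]; exact X.centralizer_eq
  · rw [L.frame_z X, L.card_cent]; norm_num
  · rw [L.frame_z X]; exact L.cent_eq_closure

end Loc

end Cfsg.Lib.UFourThreeLocal
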