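import Cfsg.Agent.Lib.UFourThreeLocal.Model
import Cfsg.Agent.Lib.Core.Layer
import Cfsg.Agent.Lib.Core.Cores
import Cfsg.Prelude.Def_Classical

/-!
# The hypotheses of U₄(3) type in coordinates
-/

set_option autoImplicit false
set_option maxRecDepth 10000

namespace Cfsg.Lib.UFourThreeLocal

open Cfsg Subgroup

/-- The matrices of the codes. -/
def matTab : List (Fin 4 → ZMod 3) :=
  [![1, 0, 0, 1], ![0, 2, 1, 0], ![1, 1, 1, 2], ![2, 1, 1, 1], ![2, 0, 0, 2], ![0, 1, 2, 0], ![2, 2, 2, 1],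
    ![1, 2, 2, 2], ![1, 1, 0, 1], ![0, 2, 1, 1], ![1, 2, 1, 0], ![2, 0, 1, 2], ![2, 2, 0, 2], ![0, 1, 2, 2],
    ![2, 1, 2, 0], ![1, 0, 2, 1], ![1, 2, 0, 1], ![0, 2, 1, 2], ![1, 0, 1, 1], ![2, 2, 1, 0], ![2, 1, 0, 2],
    ![0, 1, 2, 1], ![2, 0, 2, 2], ![1, 1, 2, 0]]

/-- The matrix of a code. -/
def matOf (n : ℕ) : Matrix (Fin 2) (Fin 2) (ZMod 3) :=
  !![(matTab.getD n ![1, 0, 0, 1]) 0, (matTab.getD n ![1, 0, 0, 1]) 1;
    (matTab.getD n ![1, 0, 0, 1]) 2, (matTab.getD n ![1, 0, 0, 1]) 3]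

theorem matOf_mul : ∀ a < 24, ∀ b < 24, sMul a b < 24 ∧ matOf (sMul a b) = matOf a * matOf b := by decide +kernel

theorem matOf_inj : ∀ a < 24, ∀ b < 24, matOf a = matOf b → a = b := by decide +kernel

theorem matOf_surj : ∀ a b c d : ZMod 3, a * d - b * c = 1 → ∃ n < 24, matOf n = !![a, b; c, d] := by decide +kernel

theorem matOf_det (n : ℕ) : (matOf n).det = 1 := by
  by_cases h : n < 24
  · revert h; revert n; decide +kernel
  · rw [matOf, List.getD_eq_default _ _ (by simp [matTab]; omega)]; simp [Matrix.det_fin_two]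

/-- A code as an element of SL(2, 3). -/
def slOf (n : ℕ) : Matrix.SpecialLinearGroup (Fin 2) (ZMod 3) := ⟨matOf n, matOf_det n⟩

theorem slOf_mul {a b : ℕ} (ha : a < 24) (hb : b < 24) : slOf (sMul a b) = slOf a * slOf b :=
  Subtype.ext (matOf_mul a ha b hb).2

theorem slOf_inj {a b : ℕ} (ha : a < 24) (hb : b < 24) (h : slOf a = slOf b) : a = b :=
  matOf_inj a ha b hb (congrArg Subtype.val h)

theorem slOf_surj (x : Matrix.SpecialLinearGroup (Fin 2) (ZMod 3)) : ∃ n < 24, slOf n = x := by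
  obtain ⟨n, hn, h⟩ := matOf_surj (x.1 0 0) (x.1 0 1) (x.1 1 0) (x.1 1 1)
    ((Matrix.det_fin_two x.1).symm.trans x.2)
  exact ⟨n, hn, Subtype.ext (h.trans (Matrix.eta_fin_two x.1).symm)⟩

theorem slOf_zero : slOf 0 = 1 := Subtype.ext (by decide +kernel : matOf 0 = 1)

/-- Every code is a product of three codes of order dividing three. -/
theorem three_products : ((List.range 24).all fun n => (List.range 24).any fun a => (List.range 24).any fun b =>
    Nat.beq (sMul a (sMul a a)) 0 && Nat.beq (sMul b (sMul b b)) 0 && (List.range 24).any fun c =>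
      Nat.beq (sMul c (sMul c c)) 0 && Nat.beq (sMul (sMul a b) c) n) = true := by decide +kernel

/-- The two components and their product in coordinates. -/
structure Comp {G : Type*} [Group G] (z : G) where
  /-- The first component. -/
  u₁ : ℕ → G
  /-- The second component. -/
  u₂ : ℕ → G
  mul₁ : ∀ {a b : ℕ}, a < 24 → b < 24 → u₁ (sMul a b) = u₁ a * u₁ b
  mul₂ : ∀ {a b : ℕ}, a < 24 → b < 24 → u₂ (sMul a b) = u₂ a * u₂ b
  zero₁ : u₁ 0 = 1
  zero₂ : u₂ 0 = 1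
  four₁ : u₁ 4 = z
  four₂ : u₂ 4 = z
  commute : ∀ {a b : ℕ}, a < 24 → b < 24 → Commute (u₁ a) (u₂ b)
  sep : ∀ {a b : ℕ}, a < 24 → b < 24 → u₁ a * u₂ b = 1 → (a = 0 ∧ b = 0) ∨ (a = 4 ∧ b = 4)
  cent₁ : ∀ {a : ℕ}, a < 24 → Commute (u₁ a) z
  cent₂ : ∀ {b : ℕ}, b < 24 → Commute (u₂ b) z
  norm : ∀ {c : G} {a b : ℕ}, Commute c z → a < 24 → b < 24 →
    ∃ p < 24, ∃ q < 24, c * (u₁ a * u₂ b) * c⁻¹ = u₁ p * u₂ q
  odd : ∀ {c : G}, Commute c z → Odd (orderOf c) → ∃ p < 24, ∃ q < 24, c = u₁ p * u₂ q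
  self : ∀ {c : G}, Commute c z → (∀ p < 8, ∀ q < 8, Commute c (u₁ p * u₂ q)) → c = 1 ∨ c = z
  card : Nat.card ↥(centralizer ({z} : Set G)) = 1152
  fused : ∃ g : G, (∃ p < 8, ∃ q < 8, g * z * g⁻¹ = u₁ p * u₂ q) ∧ g * z * g⁻¹ ≠ z
  inter : ∀ g : G, (∃ p < 8, ∃ q < 8, g * z * g⁻¹ = u₁ p * u₂ q) → g * z * g⁻¹ ≠ z →
    {x : G | (∃ p < 8, ∃ q < 8, x = u₁ p * u₂ q) ∧ ∃ p < 8, ∃ q < 8, x = g * (u₁ p * u₂ q) * g⁻¹}.ncard = 4

section

variable {G : Type*} [Group G] [Finite G] {z : G}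

/-- The hypotheses of U₄(3) type give the coordinates. -/
theorem exists_comp (hz : orderOf z = 2)
    (H₁ H₂ : Subgroup (centralizer ({z} : Set G)))
    (hK : H₁ ⊔ H₂ = closure {x : centralizer ({z} : Set G) | Odd (orderOf x)})
    (hn₁ : (H₁.subgroupOf (H₁ ⊔ H₂)).Normal) (hn₂ : (H₂.subgroupOf (H₁ ⊔ H₂)).Normal)
    (e₁ : H₁ ≃* Matrix.SpecialLinearGroup (Fin 2) (ZMod 3)) (e₂ : H₂ ≃* Matrix.SpecialLinearGroup (Fin 2) (ZMod 3))
    (hmeet : (H₁ ⊓ H₂).map (Subgroup.subtype (centralizer ({z} : Set G))) = zpowers z)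
    (Q : Subgroup (centralizer ({z} : Set G))) [Q.Normal]
    (hQ : Q = (Cfsg.pCore 2 ↥(H₁ ⊔ H₂)).map (Subgroup.subtype (H₁ ⊔ H₂)))
    (hF : Cfsg.generalizedFittingSubgroup (centralizer ({z} : Set G)) = Q)
    (hnwc : ∃ g : G, (∃ hq : g * z * g⁻¹ ∈ centralizer ({z} : Set G),
      (⟨g * z * g⁻¹, hq⟩ : centralizer ({z} : Set G)) ∈ Q) ∧ g * z * g⁻¹ ≠ z)
    (hH : Nat.card ↥(centralizer ({z} : Set G)) = 2 ^ 7 * 3 ^ 2)
    (hQQg : ∀ g : G, g * z * g⁻¹ ∈ Q.map (Subgroup.subtype (centralizer ({z} : Set G))) → g * z * g⁻¹ ≠ z →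
      Nat.card ↥((Q.map (Subgroup.subtype (centralizer ({z} : Set G)))) ⊓
        (Q.map (Subgroup.subtype (centralizer ({z} : Set G)))).map (MulAut.conj g).toMonoidHom) = 4) :
    Nonempty (Comp z) := by
  have : Fact (Nat.Prime 2) := ⟨Nat.prime_two⟩
  have hzC : z ∈ (centralizer ({z} : Set G)) := mem_centralizer_singleton_iff.2 rfl
  let zC : ↥(centralizer ({z} : Set G)) := ⟨z, hzC⟩
  have hz1 : z ≠ 1 := fun h => by rw [h, orderOf_one] at hz; omega
  have hzc : ∀ c : ↥(centralizer ({z} : Set G)), Commute c zC := fun c => Subtype.ext (mem_centralizer_singleton_iff.1 c.2)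
  -- elements of the meet
  have hmz : ∀ c : ↥(centralizer ({z} : Set G)), c ∈ H₁ → c ∈ H₂ → c = 1 ∨ c = zC := by
    intro c h1 h2
    have h3 : (c : G) ∈ zpowers z := hmeet ▸ mem_map_of_mem _ ⟨h1, h2⟩
    rw [mem_zpowers_iff] at h3
    obtain ⟨k, hk⟩ := h3
    rw [← zpow_mod_orderOf, hz] at hk
    simp only [Nat.cast_ofNat] at hk
    rcases Int.emod_two_eq_zero_or_one k with e | e <;> rw [e] at hk
    · exact Or.inl (Subtype.ext (by simpa using hk.symm))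
    · exact Or.inr (Subtype.ext (hk.symm.trans (zpow_one z)))
  have hzmeet : zC ∈ H₁ ∧ zC ∈ H₂ := by
    obtain ⟨c, hc, hcz⟩ := mem_map.1 (hmeet.symm ▸ mem_zpowers z : z ∈ (H₁ ⊓ H₂).map (Subgroup.subtype (centralizer ({z} : Set G))))
    obtain rfl : c = zC := Subtype.ext hcz
    exact hc
  let f₁ : ℕ → ↥(centralizer ({z} : Set G)) := fun n => if n < 24 then (e₁.symm (slOf n) : ↥(centralizer ({z} : Set G))) else 1
  let f₂ : ℕ → ↥(centralizer ({z} : Set G)) := fun n => if n < 24 then (e₂.symm (slOf n) : ↥(centralizer ({z} : Set G))) else 1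
  have hmul₁ : ∀ {a b : ℕ}, a < 24 → b < 24 → f₁ (sMul a b) = f₁ a * f₁ b := by
    intro a b ha hb
    simp only [f₁, if_pos ha, if_pos hb, if_pos (matOf_mul a ha b hb).1, slOf_mul ha hb, map_mul, coe_mul]
  have hmul₂ : ∀ {a b : ℕ}, a < 24 → b < 24 → f₂ (sMul a b) = f₂ a * f₂ b := by
    intro a b ha hb
    simp only [f₂, if_pos ha, if_pos hb, if_pos (matOf_mul a ha b hb).1, slOf_mul ha hb, map_mul, coe_mul]
  have hzero₁ : f₁ 0 = 1 := by simp [f₁, slOf_zero]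
  have hzero₂ : f₂ 0 = 1 := by simp [f₂, slOf_zero]
  have hm₁ : ∀ n, f₁ n ∈ H₁ := fun n => by
    simp only [f₁]; split; exacts [SetLike.coe_mem _, one_mem _]
  have hm₂ : ∀ n, f₂ n ∈ H₂ := fun n => by
    simp only [f₂]; split; exacts [SetLike.coe_mem _, one_mem _]
  have hinj₁ : ∀ {a b : ℕ}, a < 24 → b < 24 → f₁ a = f₁ b → a = b := by
    intro a b ha hb h
    simp only [f₁, if_pos ha, if_pos hb] at h
    exact slOf_inj ha hb (e₁.symm.injective (Subtype.ext h))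
  have hinj₂ : ∀ {a b : ℕ}, a < 24 → b < 24 → f₂ a = f₂ b → a = b := by
    intro a b ha hb h
    simp only [f₂, if_pos ha, if_pos hb] at h
    exact slOf_inj ha hb (e₂.symm.injective (Subtype.ext h))
  have hsur₁ : ∀ c ∈ H₁, ∃ n < 24, f₁ n = c := by
    intro c hc
    obtain ⟨n, hn, h⟩ := slOf_surj (e₁ ⟨c, hc⟩)
    exact ⟨n, hn, by simp [f₁, hn, h]⟩
  have hsur₂ : ∀ c ∈ H₂, ∃ n < 24, f₂ n = c := by
    intro c hc
    obtain ⟨n, hn, h⟩ := slOf_surj (e₂ ⟨c, hc⟩)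
    exact ⟨n, hn, by simp [f₂, hn, h]⟩
  -- the central involution is the code four
  have hfour : ∀ (f : ℕ → ↥(centralizer ({z} : Set G))), f 0 = 1 → (∀ {a b : ℕ}, a < 24 → b < 24 → f (sMul a b) = f a * f b) →
      (∀ {a b : ℕ}, a < 24 → b < 24 → f a = f b → a = b) → (∃ n < 24, f n = zC) → f 4 = zC := by
    intro f h0 hm hi ⟨n, hn, h⟩
    have h2 : sMul n n = 0 := hi (matOf_mul n hn n hn).1 (by norm_num) (by
      rw [hm hn hn, h, h0]
      exact Subtype.ext (show z * z = 1 by rw [← pow_two, ← hz, pow_orderOf_eq_one]))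
    have hn0 : n ≠ 0 := fun e => by
      rw [e, h0] at h; exact hz1 (congrArg Subtype.val h).symm
    obtain rfl : n = 4 := (by decide +kernel : ∀ m < 24, sMul m m = 0 → m ≠ 0 → m = 4) n hn h2 hn0
    exact h
  have h4₁ := hfour f₁ hzero₁ hmul₁ hinj₁ (hsur₁ zC hzmeet.1)
  have h4₂ := hfour f₂ hzero₂ hmul₂ hinj₂ (hsur₂ zC hzmeet.2)
  -- the components commute
  have hcom3 : ∀ a < 24, sMul a (sMul a a) = 0 → ∀ y ∈ H₂, Commute (f₁ a) y := by
    intro a ha h3 y hy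
    have hx3 : f₁ a * (f₁ a * f₁ a) = 1 := by
      rw [← hmul₁ ha ha, ← hmul₁ ha (matOf_mul a ha a ha).1, h3, hzero₁]
    set x := f₁ a
    have hxK : x ∈ H₁ ⊔ H₂ := mem_sup_left (hm₁ a)
    have hyK : y ∈ H₁ ⊔ H₂ := mem_sup_right hy
    have hk1 : x * y * x⁻¹ * y⁻¹ ∈ H₁ := by
      have := hn₁.conj_mem ⟨x⁻¹, inv_mem hxK⟩ (show _ ∈ H₁ from inv_mem (hm₁ a)) ⟨y, hyK⟩
      rw [mem_subgroupOf] at this
      rw [show x * y * x⁻¹ * y⁻¹ = x * (y * x⁻¹ * y⁻¹) by group]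
      exact mul_mem (hm₁ a) (by simpa using this)
    have hk2 : x * y * x⁻¹ * y⁻¹ ∈ H₂ := by
      have := hn₂.conj_mem ⟨y, hyK⟩ (show _ ∈ H₂ from hy) ⟨x, hxK⟩
      rw [mem_subgroupOf] at this
      exact mul_mem (by simpa using this) (inv_mem hy)
    rcases hmz _ hk1 hk2 with h | h
    · exact commute_iff_eq _ _ |>.2 (mul_inv_eq_iff_eq_mul.1 (mul_inv_eq_one.1 h))
    · exfalso
      have e : x * y * x⁻¹ = zC * y := mul_inv_eq_iff_eq_mul.1 h
      have hzz : zC * zC = 1 := Subtype.ext (show z * z = 1 by rw [← pow_two, ← hz, pow_orderOf_eq_one])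
      have e2 : x * zC = zC * x := hzc x
      have : y = zC * y := by
        calc y = x * (x * x) * y * (x * (x * x))⁻¹ := by rw [hx3]; group
          _ = x * (x * (x * y * x⁻¹) * x⁻¹) * x⁻¹ := by group
          _ = x * (x * (zC * y) * x⁻¹) * x⁻¹ := by rw [e]
          _ = x * (x * zC * y * x⁻¹) * x⁻¹ := by group
          _ = x * (zC * (x * y * x⁻¹)) * x⁻¹ := by rw [e2]; group
          _ = x * (zC * (zC * y)) * x⁻¹ := by rw [e]
          _ = x * y * x⁻¹ := by rw [← mul_assoc zC zC, hzz, one_mul]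
          _ = zC * y := e
      have h1 : zC = 1 := mul_eq_right.1 this.symm
      exact hz1 (congrArg Subtype.val h1)
  have hcom : ∀ {a b : ℕ}, a < 24 → b < 24 → Commute (f₁ a) (f₂ b) := by
    intro a b ha hb
    have h := List.all_eq_true.1 three_products a (List.mem_range.2 ha)
    simp only [List.any_eq_true, List.mem_range, Bool.and_eq_true, Nat.beq_eq] at h
    obtain ⟨p, hp, q, hq, ⟨h3p, h3q⟩, r, hr, h3r, rfl⟩ := h
    rw [hmul₁ (matOf_mul p hp q hq).1 hr, hmul₁ hp hq]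
    exact ((hcom3 p hp h3p _ (hm₂ b)).mul_left (hcom3 q hq h3q _ (hm₂ b))).mul_left (hcom3 r hr h3r _ (hm₂ b))
  have hKmem : ∀ k : ↥(centralizer ({z} : Set G)), k ∈ H₁ ⊔ H₂ → ∃ p < 24, ∃ q < 24, k = f₁ p * f₂ q := by
    intro k hk
    rw [Subgroup.sup_eq_closure] at hk
    induction hk using Subgroup.closure_induction with
    | mem x hx =>
      rcases hx with hx | hx
      · obtain ⟨n, hn, rfl⟩ := hsur₁ x hx; exact ⟨n, hn, 0, by norm_num, by rw [hzero₂, mul_one]⟩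
      · obtain ⟨n, hn, rfl⟩ := hsur₂ x hx; exact ⟨0, by norm_num, n, hn, by rw [hzero₁, one_mul]⟩
    | one => exact ⟨0, by norm_num, 0, by norm_num, by rw [hzero₁, hzero₂, one_mul]⟩
    | mul x y _ _ hx hy =>
      obtain ⟨p, hp, q, hq, rfl⟩ := hx
      obtain ⟨p', hp', q', hq', rfl⟩ := hy
      refine ⟨_, (matOf_mul p hp p' hp').1, _, (matOf_mul q hq q' hq').1, ?_⟩
      rw [hmul₁ hp hp', hmul₂ hq hq']
      calc f₁ p * f₂ q * (f₁ p' * f₂ q') = f₁ p * (f₂ q * f₁ p') * f₂ q' := by group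
        _ = _ := by rw [← (hcom hp' hq).eq]; group
    | inv x _ hx =>
      obtain ⟨p, hp, q, hq, rfl⟩ := hx
      obtain ⟨p', hp', hpp⟩ := hsur₁ _ (inv_mem (hm₁ p))
      obtain ⟨q', hq', hqq⟩ := hsur₂ _ (inv_mem (hm₂ q))
      exact ⟨p', hp', q', hq', by rw [hpp, hqq, (hcom hp hq).eq, mul_inv_rev]⟩
  have hin : ∀ p q, f₁ p * f₂ q ∈ H₁ ⊔ H₂ := fun p q =>
    mul_mem (mem_sup_left (hm₁ p)) (mem_sup_right (hm₂ q))
  have hsep : ∀ {a b : ℕ}, a < 24 → b < 24 → f₁ a * f₂ b = 1 → (a = 0 ∧ b = 0) ∨ (a = 4 ∧ b = 4) := by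
    intro a b ha hb h
    have e : f₁ a = (f₂ b)⁻¹ := eq_inv_of_mul_eq_one_left h
    rcases hmz _ (hm₁ a) (e ▸ inv_mem (hm₂ b)) with h1 | h1
    · refine Or.inl ⟨hinj₁ ha (by norm_num) (h1.trans hzero₁.symm), hinj₂ hb (by norm_num) ?_⟩
      rw [hzero₂]; rw [h1, one_mul] at h; exact h
    · refine Or.inr ⟨hinj₁ ha (by norm_num) (h1.trans h4₁.symm), hinj₂ hb (by norm_num) ?_⟩
      rw [h4₂, ← inv_inv (f₂ b), ← e, h1]
      exact Subtype.ext (show z⁻¹ = z by rw [inv_eq_iff_mul_eq_one, ← pow_two, ← hz, pow_orderOf_eq_one])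
  -- the core
  have hQin : ∀ c ∈ Q, ∃ p < 8, ∃ q < 8, c = f₁ p * f₂ q := by
    intro c hc
    rw [hQ] at hc
    obtain ⟨k, hk, rfl⟩ := mem_map.1 hc
    obtain ⟨p, hp, q, hq, hpq⟩ := hKmem k k.2
    obtain ⟨j, hj⟩ := (Cfsg.Lib.Core.pCore_isPGroup 2 ↥(H₁ ⊔ H₂)) ⟨k, hk⟩
    replace hj : (k : ↥(centralizer ({z} : Set G))) ^ 2 ^ j = 1 := congrArg (fun x : ↥(Cfsg.pCore 2 ↥(H₁ ⊔ H₂)) => ((x : ↥(H₁ ⊔ H₂)) : ↥(centralizer ({z} : Set G)))) hj
    have key : ∀ j : ℕ, ∀ p q, p < 24 → q < 24 → (f₁ p * f₂ q) ^ 2 ^ j = 1 → p < 8 ∧ q < 8 := by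
      intro j
      induction j with
      | zero =>
        intro p q hp hq h
        rw [pow_zero, pow_one] at h
        rcases hsep hp hq h with ⟨rfl, rfl⟩ | ⟨rfl, rfl⟩ <;> norm_num
      | succ j ih =>
        intro p q hp hq h
        rw [pow_succ', pow_mul] at h
        have e : (f₁ p * f₂ q) ^ 2 = f₁ (sMul p p) * f₂ (sMul q q) := by
          rw [(hcom hp hq).mul_pow, pow_two, pow_two, ← hmul₁ hp hp, ← hmul₂ hq hq]
        rw [e] at h
        obtain ⟨h1, h2⟩ := ih _ _ (matOf_mul p hp p hp).1 (matOf_mul q hq q hq).1 h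
        have h8 : ∀ n < 24, sMul n n < 8 → n < 8 := by decide +kernel
        exact ⟨h8 p hp h1, h8 q hq h2⟩
    rw [hpq] at hj
    obtain ⟨h1, h2⟩ := key j p q hp hq hj
    exact ⟨p, h1, q, h2, hpq⟩
  have h8sub : ∀ a < 8, ∀ b < 8, sMul a b < 8 := by decide +kernel
  let S : Subgroup (↥(H₁ ⊔ H₂)) :=
    { carrier := {k | ∃ p < 8, ∃ q < 8, (k : ↥(centralizer ({z} : Set G))) = f₁ p * f₂ q}
      one_mem' := ⟨0, by norm_num, 0, by norm_num, by rw [hzero₁, hzero₂, one_mul, coe_one]⟩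
      mul_mem' := by
        rintro x y ⟨p, hp, q, hq, hx⟩ ⟨p', hp', q', hq', hy⟩
        refine ⟨_, h8sub p hp p' hp', _, h8sub q hq q' hq', ?_⟩
        rw [coe_mul, hx, hy, hmul₁ (by omega) (by omega), hmul₂ (by omega) (by omega)]
        calc f₁ p * f₂ q * (f₁ p' * f₂ q') = f₁ p * (f₂ q * f₁ p') * f₂ q' := by group
          _ = _ := by rw [← (hcom (by omega : p' < 24) (by omega : q < 24)).eq]; group
      inv_mem' := by
        rintro x ⟨p, hp, q, hq, hx⟩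
        have hi : ∀ a < 8, sInv a < 8 ∧ sMul a (sInv a) = 0 := by decide +kernel
        obtain ⟨hp1, hp2⟩ := hi p hp
        obtain ⟨hq1, hq2⟩ := hi q hq
        refine ⟨sInv p, hp1, sInv q, hq1, ?_⟩
        rw [coe_inv, hx, inv_eq_iff_mul_eq_one]
        calc f₁ p * f₂ q * (f₁ (sInv p) * f₂ (sInv q))
            = f₁ p * (f₂ q * f₁ (sInv p)) * f₂ (sInv q) := by group
          _ = (f₁ p * f₁ (sInv p)) * (f₂ q * f₂ (sInv q)) := by
            rw [← (hcom (by omega : sInv p < 24) (by omega : q < 24)).eq]; group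
          _ = 1 := by
            rw [← hmul₁ (by omega) (by omega), ← hmul₂ (by omega) (by omega), hp2, hq2, hzero₁, hzero₂, one_mul] }
  have hSn : S.Normal := ⟨by
    rintro k ⟨p, hp, q, hq, hk⟩ c
    obtain ⟨p', hp', q', hq', hc⟩ := hKmem c c.2
    have hi : ∀ a < 24, sInv a < 24 ∧ sMul a (sInv a) = 0 := by decide +kernel
    have hcj : ∀ a < 24, ∀ b < 8, sMul (sMul a b) (sInv a) < 8 := by decide +kernel
    refine ⟨_, hcj p' hp' p hp, _, hcj q' hq' q hq, ?_⟩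
    have i1 : f₁ (sInv p') = (f₁ p')⁻¹ := eq_inv_of_mul_eq_one_right (by
      rw [← hmul₁ hp' (hi p' hp').1, (hi p' hp').2, hzero₁])
    have i2 : f₂ (sInv q') = (f₂ q')⁻¹ := eq_inv_of_mul_eq_one_right (by
      rw [← hmul₂ hq' (hi q' hq').1, (hi q' hq').2, hzero₂])
    rw [coe_mul, coe_mul, coe_inv, hk, hc, hmul₁ (matOf_mul p' hp' p (by omega)).1 (hi p' hp').1, hmul₁ hp' (by omega),
      hmul₂ (matOf_mul q' hq' q (by omega)).1 (hi q' hq').1, hmul₂ hq' (by omega), i1, i2]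
    calc f₁ p' * f₂ q' * (f₁ p * f₂ q) * (f₁ p' * f₂ q')⁻¹
        = f₁ p' * (f₂ q' * f₁ p) * (f₂ q * (f₂ q')⁻¹) * (f₁ p')⁻¹ := by group
      _ = f₁ p' * f₁ p * ((f₂ q' * f₂ q * (f₂ q')⁻¹) * (f₁ p')⁻¹) := by
        rw [← (hcom (by omega : p < 24) hq').eq]; group
      _ = f₁ p' * f₁ p * (f₁ p')⁻¹ * (f₂ q' * f₂ q * (f₂ q')⁻¹) := by
        rw [show Commute (f₂ q' * f₂ q * (f₂ q')⁻¹) (f₁ p')⁻¹ from
          (((hcom hp' hq').symm.mul_left (hcom hp' (by omega : q < 24)).symm).mul_left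
            (hcom hp' hq').symm.inv_left).inv_right]; group⟩
  have hSp : IsPGroup 2 ↥S := by
    rintro ⟨k, p, hp, q, hq, hk⟩
    refine ⟨2, Subtype.ext (Subtype.ext ?_)⟩
    have h4 : ∀ a < 8, sMul (sMul a a) (sMul a a) = 0 := by decide +kernel
    have e1 : ∀ (f : ℕ → ↥(centralizer ({z} : Set G))), f 0 = 1 → (∀ {a b : ℕ}, a < 24 → b < 24 → f (sMul a b) = f a * f b) →
        ∀ a < 8, f a ^ 4 = 1 := by
      intro f h0 hm a ha
      rw [show f a ^ 4 = f a * f a * (f a * f a) by rw [← pow_two, ← pow_two, ← pow_mul], ← hm (by omega) (by omega),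
        ← hm (by have := h8sub a ha a ha; omega) (by have := h8sub a ha a ha; omega), h4 a ha, h0]
    show (k : ↥(centralizer ({z} : Set G))) ^ (2 ^ 2) = 1
    rw [hk, (hcom (by omega) (by omega)).mul_pow]
    norm_num
    rw [e1 f₁ hzero₁ hmul₁ p hp, e1 f₂ hzero₂ hmul₂ q hq, one_mul]
  have hQmem : ∀ p < 8, ∀ q < 8, f₁ p * f₂ q ∈ Q := by
    intro p hp q hq
    rw [hQ]
    exact mem_map.2 ⟨⟨_, hin p q⟩, Cfsg.Lib.Core.le_pCore' hSn hSp (x := ⟨_, hin p q⟩) ⟨p, hp, q, hq, rfl⟩, rfl⟩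
  have hQset : ∀ x : G, x ∈ Q.map (Subgroup.subtype (centralizer ({z} : Set G))) ↔ ∃ p < 8, ∃ q < 8, x = (f₁ p : G) * f₂ q := by
    intro x
    constructor
    · intro hx
      obtain ⟨c, hc, rfl⟩ := mem_map.1 hx
      obtain ⟨p, hp, q, hq, rfl⟩ := hQin c hc
      exact ⟨p, hp, q, hq, rfl⟩
    · rintro ⟨p, hp, q, hq, rfl⟩
      exact mem_map.2 ⟨_, hQmem p hp q hq, rfl⟩
  refine ⟨{
    u₁ := fun n => f₁ n
    u₂ := fun n => f₂ n
    mul₁ := fun ha hb => by rw [hmul₁ ha hb, coe_mul]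
    mul₂ := fun ha hb => by rw [hmul₂ ha hb, coe_mul]
    zero₁ := by rw [hzero₁, coe_one]
    zero₂ := by rw [hzero₂, coe_one]
    four₁ := by rw [h4₁]
    four₂ := by rw [h4₂]
    commute := fun ha hb => congrArg Subtype.val (hcom ha hb)
    sep := fun ha hb h => hsep ha hb (Subtype.ext h)
    cent₁ := fun {a} _ => mem_centralizer_singleton_iff.1 (f₁ a).2
    cent₂ := fun {b} _ => mem_centralizer_singleton_iff.1 (f₂ b).2
    norm := ?_
    odd := ?_
    self := ?_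
    card := by rw [hH]; norm_num
    fused := ?_
    inter := ?_ }⟩
  · intro c a b hc ha hb
    let c' : ↥(centralizer ({z} : Set G)) := ⟨c, mem_centralizer_singleton_iff.2 hc⟩
    have hKn : (H₁ ⊔ H₂).Normal := by
      refine ⟨fun k hk d => ?_⟩
      rw [hK] at hk ⊢
      induction hk using Subgroup.closure_induction with
      | mem x hx =>
        refine subset_closure ?_
        show Odd (orderOf (d * x * d⁻¹))
        rwa [show d * x * d⁻¹ = MulAut.conj d x from rfl, MulEquiv.orderOf_eq]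
      | one => simp
      | mul x y _ _ hx hy => rw [show d * (x * y) * d⁻¹ = (d * x * d⁻¹) * (d * y * d⁻¹) by group]; exact mul_mem hx hy
      | inv x _ hx => rw [show d * x⁻¹ * d⁻¹ = (d * x * d⁻¹)⁻¹ by group]; exact inv_mem hx
    obtain ⟨p, hp, q, hq, h⟩ := hKmem _ (hKn.conj_mem _ (hin a b) c')
    exact ⟨p, hp, q, hq, congrArg Subtype.val h⟩
  · intro c hc ho
    obtain ⟨p, hp, q, hq, h⟩ := hKmem ⟨c, mem_centralizer_singleton_iff.2 hc⟩
      (hK ▸ subset_closure (show Odd (orderOf (⟨c, _⟩ : ↥(centralizer ({z} : Set G)))) by rwa [← Subgroup.orderOf_coe]))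
    exact ⟨p, hp, q, hq, congrArg Subtype.val h⟩
  · intro c hc hall
    let c' : ↥(centralizer ({z} : Set G)) := ⟨c, mem_centralizer_singleton_iff.2 hc⟩
    have hc' : c' ∈ centralizer ((Cfsg.generalizedFittingSubgroup ↥(centralizer ({z} : Set G)) : Subgroup ↥(centralizer ({z} : Set G))) : Set ↥(centralizer ({z} : Set G))) := by
      rw [hF]
      intro x hx
      obtain ⟨p, hp, q, hq, rfl⟩ := hQin x hx
      exact Subtype.ext (hall p hp q hq).eq.symm
    have hcQ := Cfsg.Lib.Core.centralizer_generalizedFitting_le hc'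
    rw [hF] at hcQ
    obtain ⟨p, hp, q, hq, hpq⟩ := hQin c' hcQ
    have hcomm : ∀ a < 8, sMul p a = sMul a p ∧ sMul q a = sMul a q := by
      intro a ha
      constructor
      · have h := hall a ha 0 (by norm_num)
        have h' : Commute c' (f₁ a) := Subtype.ext (by simpa [hzero₂] using h.eq)
        rw [hpq] at h'
        have h2 : Commute (f₁ p) (f₁ a) := by
          have := h'.mul_left ((hcom (by omega : a < 24) (by omega : q < 24)).inv_right.symm)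
          rwa [mul_inv_cancel_right] at this
        exact hinj₁ (matOf_mul p (by omega) a (by omega)).1 (matOf_mul a (by omega) p (by omega)).1
          (by rw [hmul₁ (by omega) (by omega), hmul₁ (by omega) (by omega), h2.eq])
      · have h := hall 0 (by norm_num) a ha
        have h' : Commute c' (f₂ a) := Subtype.ext (by simpa [hzero₁] using h.eq)
        rw [hpq, (hcom (by omega) (by omega)).eq] at h'
        have h2 : Commute (f₂ q) (f₂ a) := by
          have := h'.mul_left ((hcom (by omega : p < 24) (by omega : a < 24)).inv_left)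
          rwa [mul_inv_cancel_right] at this
        exact hinj₂ (matOf_mul q (by omega) a (by omega)).1 (matOf_mul a (by omega) q (by omega)).1
          (by rw [hmul₂ (by omega) (by omega), hmul₂ (by omega) (by omega), h2.eq])
    have hcen : ∀ n < 8, (∀ a < 8, sMul n a = sMul a n) → n = 0 ∨ n = 4 := by decide +kernel
    have hzz : z * z = 1 := by rw [← pow_two, ← hz, pow_orderOf_eq_one]
    have h := congrArg Subtype.val hpq
    rcases hcen p hp fun a ha => (hcomm a ha).1 with rfl | rfl <;>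
      rcases hcen q hq fun a ha => (hcomm a ha).2 with rfl | rfl
    · left; rw [hzero₁, hzero₂] at h; exact h.trans (by simp)
    · right; rw [hzero₁, h4₂] at h; exact h.trans (by simp [zC])
    · right; rw [h4₁, hzero₂] at h; exact h.trans (by simp [zC])
    · left; rw [h4₁, h4₂] at h; exact h.trans (by simp [zC, hzz])
  · obtain ⟨g, ⟨hq, hgQ⟩, hne⟩ := hnwc
    exact ⟨g, (hQset _).1 (mem_map.2 ⟨_, hgQ, rfl⟩), hne⟩
  · intro g hg hne
    rw [← hQQg g ((hQset _).2 hg) hne, ← Nat.card_coe_set_eq]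
    refine Nat.card_congr (Equiv.subtypeEquivRight fun x => ?_)
    simp only [Set.mem_ofPred_eq, mem_inf, hQset, mem_map, MulEquiv.coe_toMonoidHom, MulAut.conj_apply]
    constructor
    · rintro ⟨h, p, hp, q, hq, e⟩
      exact ⟨h, _, ⟨p, hp, q, hq, rfl⟩, e.symm⟩
    · rintro ⟨h, y, ⟨p, hp, q, hq, rfl⟩, e⟩
      exact ⟨h, p, hp, q, hq, e.symm⟩

end

end Cfsg.Lib.UFourThreeLocal
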