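import Cfsg.Agent.Lib.UFourThreeLocal.Pairs

/-!
# The action of the centraliser on the two-core
-/

set_option autoImplicit false
set_option maxRecDepth 10000

namespace Cfsg.Lib.UFourThreeLocal

open Subgroup

/-- A power of the outer automorphism. -/
def tw (b : Bool) (n : ℕ) : ℕ := if b then sTau n else n

/-- The action of a type on a code of the two-core. -/
def typeAct (a b₁ b₂ : Bool) (x q : ℕ) : ℕ :=
  let p := tw b₁ (q / 24)
  let r := tw b₂ (q % 24)
  pMul (pMul x (if a then canon r p else canon p r)) (pInv x)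

/-- The conjugation by a code of SL(2, 3). -/
def sConj (k n : ℕ) : ℕ := sMul (sMul k n) (sInv k)

set_option synthInstance.maxSize 4096 in
theorem quat_pairs : ∀ n < 8, ∀ m < 8, sMul n m ≠ sMul m n →
    ∃ b : Bool, ∃ k < 24, n = sConj k (tw b 1) ∧ m = sConj k (tw b 2) := by decide +kernel

set_option synthInstance.maxSize 4096 in
theorem no_four : ∀ n < 8, ∀ m < 8, ∀ n' < 8, ∀ m' < 8, sMul n m ≠ sMul m n → sMul n' m' ≠ sMul m' n' →
    sMul n n' = sMul n' n → sMul n m' = sMul m' n → sMul m n' = sMul n' m → sMul m m' = sMul m' m → False := by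
  decide +kernel

theorem side_code : (eltsQ.all fun q => !Nat.beq (pMul q q) 4 ||
    (Nat.beq (q % 24) 0 || Nat.beq (q % 24) 4 || Nat.beq (q / 24) 0)) = true := by decide +kernel

namespace Comp

variable {G : Type*} [Group G] {z : G} (K : Comp z)

/-- One of the two components. -/
def uu (a : Bool) (n : ℕ) : G := if a then K.u₂ n else K.u₁ n

theorem uu_mul (a : Bool) {m n : ℕ} (hm : m < 24) (hn : n < 24) : K.uu a (sMul m n) = K.uu a m * K.uu a n := by
  cases a <;> simp only [uu, ↓reduceIte, Bool.false_eq_true]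
  exacts [K.mul₁ hm hn, K.mul₂ hm hn]

theorem uu_zero (a : Bool) : K.uu a 0 = 1 := by cases a <;> simp [uu, K.zero₁, K.zero₂]

theorem uu_four (a : Bool) : K.uu a 4 = z := by cases a <;> simp [uu, K.four₁, K.four₂]

theorem uu_inj (a : Bool) {m n : ℕ} (hm : m < 24) (hn : n < 24) (h : K.uu a m = K.uu a n) : m = n := by
  obtain ⟨i1, i2⟩ := sInv_spec _ hm
  have e : K.uu a (sMul (sInv m) n) = 1 := by
    rw [K.uu_mul a i1 hn, eq_inv_of_mul_eq_one_right
      (a := K.uu a m) (b := K.uu a (sInv m)) (by rw [← K.uu_mul a hm i1, i2, K.uu_zero]), h, inv_mul_cancel]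
  have k0 : ∀ a < 24, ∀ b < 24, sMul (sInv a) b = 0 → a = b := by decide +kernel
  refine k0 m hm n hn ?_
  cases a <;> simp only [uu, ↓reduceIte, Bool.false_eq_true] at e
  · rcases K.sep (sMul_lt i1 hn) (b := 0) (by norm_num) (by rw [e, K.zero₂, one_mul]) with ⟨h, -⟩ | ⟨-, h⟩
    exacts [h, absurd h (by norm_num)]
  · rcases K.sep (a := 0) (by norm_num) (sMul_lt i1 hn) (by rw [e, K.zero₁, one_mul]) with ⟨-, h⟩ | ⟨h, -⟩
    exacts [h, absurd h (by norm_num)]

theorem uu_comm (a : Bool) {m n : ℕ} (hm : m < 24) (hn : n < 24) : Commute (K.uu a m) (K.uu (!a) n) := by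
  cases a <;> simp only [uu, ↓reduceIte, Bool.false_eq_true, Bool.not_false, Bool.not_true]
  exacts [K.commute hm hn, (K.commute hn hm).symm]

theorem uu_cent (a : Bool) {m : ℕ} (hm : m < 24) : Commute (K.uu a m) z := by
  cases a <;> simp only [uu, ↓reduceIte, Bool.false_eq_true]
  exacts [K.cent₁ hm, K.cent₂ hm]

theorem uu_conj (a : Bool) {k n : ℕ} (hk : k < 24) (hn : n < 24) :
    K.uu a (sConj k n) = K.uu a k * K.uu a n * (K.uu a k)⁻¹ := by
  obtain ⟨i1, i2⟩ := sInv_spec _ hk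
  rw [sConj, K.uu_mul a (sMul_lt hk hn) i1, K.uu_mul a hk hn,
    eq_inv_of_mul_eq_one_right (a := K.uu a k) (b := K.uu a (sInv k)) (by rw [← K.uu_mul a hk i1, i2, K.uu_zero])]

/-- An element of order four in a component goes into a component. -/
theorem image_side {c : G} (hc : Commute c z) (a : Bool) {n : ℕ} (hn : n < 8) (h : sMul n n = 4) :
    ∃ a' : Bool, ∃ m < 8, c * K.uu a n * c⁻¹ = K.uu a' m := by
  have hq : K.InQ (K.uu a n) := by
    cases a <;> simp only [uu, ↓reduceIte, Bool.false_eq_true]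
    · exact ⟨n, hn, 0, by norm_num, by rw [K.zero₂, mul_one]⟩
    · exact ⟨0, by norm_num, n, hn, by rw [K.zero₁, one_mul]⟩
  obtain ⟨q, hq, he⟩ := K.inQ_iff.1 (K.norm_inQ hc hq)
  have hq4 : pMul q q = 4 := by
    obtain ⟨hm, hme⟩ := K.phi_mul (okQ_P hq) (okQ_P hq)
    refine K.phi_inj hm (by decide) ?_
    rw [hme, he, K.phi_four, show c * K.uu a n * c⁻¹ * (c * K.uu a n * c⁻¹) = c * (K.uu a n * K.uu a n) * c⁻¹ by group,
      ← K.uu_mul a (by omega) (by omega), h, K.uu_four, hc.eq, mul_inv_cancel_right]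
  have hb := okQ_P hq
  obtain ⟨-, h1, h2, -⟩ := okP_bounds hb
  rw [okQ, Bool.and_eq_true, Bool.and_eq_true, Nat.blt_eq, Nat.blt_eq] at hq
  have hs := List.all_eq_true.1 side_code q (mem_eltsQ.2 (by simp [okQ, hq.1.1, hq.1.2, hq.2]))
  simp only [hq4, Nat.beq_refl, Bool.not_true, Bool.false_or, Bool.or_eq_true, Nat.beq_eq] at hs
  have h4 : ∀ p < 8, sMul p 4 < 8 := by decide +kernel
  rcases hs with (e | e) | e
  · exact ⟨false, _, hq.1.2, by rw [← he, phi, e, K.zero₂, mul_one]; rfl⟩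
  · exact ⟨false, _, h4 _ hq.1.2, by rw [← he, phi, e, K.four₂, K.uu_mul false h1 (by norm_num), K.uu_four]; rfl⟩
  · exact ⟨true, _, hq.2, by rw [← he, phi, e, K.zero₁, one_mul]; rfl⟩

/-- The element has a type. -/
def HasType (a b₁ b₂ : Bool) (x : ℕ) (c : G) : Prop :=
  okP x = true ∧ ∀ q, okQ q = true → c * K.phi q * c⁻¹ = K.phi (typeAct a b₁ b₂ x q)

theorem exists_type {c : G} (hc : Commute c z) : ∃ a b₁ b₂ x, K.HasType a b₁ b₂ x c := by
  have ho : sMul 1 1 = 4 ∧ sMul 2 2 = 4 ∧ sMul 1 2 ≠ sMul 2 1 := by decide +kernel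
  obtain ⟨a, n, hn, h1⟩ := K.image_side hc false (n := 1) (by norm_num) ho.1
  obtain ⟨a', m, hm, h2⟩ := K.image_side hc false (n := 2) (by norm_num) ho.2.1
  obtain ⟨d, n', hn', h3⟩ := K.image_side hc true (n := 1) (by norm_num) ho.1
  obtain ⟨d', m', hm', h4⟩ := K.image_side hc true (n := 2) (by norm_num) ho.2.1
  have hcj : ∀ {u v : G}, Commute (c * u * c⁻¹) (c * v * c⁻¹) ↔ Commute u v := fun {u v} => Commute.conj_iff c
  have hnc : ∀ (t : Bool), ¬ Commute (K.uu t 1) (K.uu t 2) := fun t h => ho.2.2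
    (K.uu_inj t (sMul_lt (by norm_num) (by norm_num)) (sMul_lt (by norm_num) (by norm_num))
      (by rw [K.uu_mul t (by norm_num) (by norm_num), K.uu_mul t (by norm_num) (by norm_num), h.eq]))
  have same : ∀ {t u u' : Bool} {p r : ℕ}, p < 8 → r < 8 → c * K.uu t 1 * c⁻¹ = K.uu u p →
      c * K.uu t 2 * c⁻¹ = K.uu u' r → u = u' := by
    intro t u u' p r hp hr e1 e2
    by_contra hne
    obtain rfl : u' = !u := by cases u <;> cases u' <;> simp_all
    exact hnc t (hcj.1 (by rw [e1, e2]; exact K.uu_comm u (by omega) (by omega)))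
  obtain rfl := same hn hm h1 h2
  obtain rfl := same hn' hm' h3 h4
  have hne : ∀ {t u : Bool} {p r : ℕ}, p < 8 → r < 8 → c * K.uu t 1 * c⁻¹ = K.uu u p →
      c * K.uu t 2 * c⁻¹ = K.uu u r → sMul p r ≠ sMul r p := by
    intro t u p r hp hr e1 e2 e
    refine hnc t (hcj.1 ?_)
    rw [e1, e2, commute_iff_eq, ← K.uu_mul u (by omega) (by omega), e, K.uu_mul u (by omega) (by omega)]
  obtain rfl : d = !a := by
    by_contra hd
    obtain rfl : d = a := by cases d <;> cases a <;> simp_all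
    have hcm : ∀ {i j p r : ℕ}, i < 24 → j < 24 → p < 8 → r < 8 → c * K.uu false i * c⁻¹ = K.uu d p →
        c * K.uu true j * c⁻¹ = K.uu d r → sMul p r = sMul r p := by
      intro i j p r hi hj hp hr e1 e2
      refine K.uu_inj d (sMul_lt (by omega) (by omega)) (sMul_lt (by omega) (by omega)) ?_
      rw [K.uu_mul d (by omega) (by omega), K.uu_mul d (by omega) (by omega), ← commute_iff_eq, ← e1, ← e2, hcj]
      exact K.uu_comm false hi hj
    exact no_four n hn m hm n' hn' m' hm' (hne hn hm h1 h2) (hne hn' hm' h3 h4)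
      (hcm (by norm_num) (by norm_num) hn hn' h1 h3) (hcm (by norm_num) (by norm_num) hn hm' h1 h4)
      (hcm (by norm_num) (by norm_num) hm hn' h2 h3) (hcm (by norm_num) (by norm_num) hm hm' h2 h4)
  obtain ⟨b₁, k₁, hk₁, rfl, rfl⟩ := quat_pairs n hn m hm (hne hn hm h1 h2)
  obtain ⟨b₂, k₂, hk₂, rfl, rfl⟩ := quat_pairs n' hn' m' hm' (hne hn' hm' h3 h4)
  have htw : ∀ b n, n < 24 → tw b n < 24 := fun b n hn => by
    cases b; exacts [hn, (sTau_hom n hn).1]
  have htm : ∀ b m n, m < 24 → n < 24 → tw b (sMul m n) = sMul (tw b m) (tw b n) := fun b m n hm hn => by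
    cases b; exacts [rfl, (sTau_hom m hm).2 n hn]
  have ext : ∀ (t u : Bool) (b : Bool) (k : ℕ), k < 24 → c * K.uu t 1 * c⁻¹ = K.uu u (sConj k (tw b 1)) →
      c * K.uu t 2 * c⁻¹ = K.uu u (sConj k (tw b 2)) →
      ∀ p < 8, c * K.uu t p * c⁻¹ = K.uu u k * K.uu u (tw b p) * (K.uu u k)⁻¹ := by
    intro t u b k hk e1 e2 p hp
    rw [K.uu_conj u hk (htw b 1 (by norm_num))] at e1
    rw [K.uu_conj u hk (htw b 2 (by norm_num))] at e2
    have closed : ∀ i j, i < 24 → j < 24 → c * K.uu t i * c⁻¹ = K.uu u k * K.uu u (tw b i) * (K.uu u k)⁻¹ →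
        c * K.uu t j * c⁻¹ = K.uu u k * K.uu u (tw b j) * (K.uu u k)⁻¹ →
        c * K.uu t (sMul i j) * c⁻¹ = K.uu u k * K.uu u (tw b (sMul i j)) * (K.uu u k)⁻¹ := by
      intro i j hi hj hi' hj'
      rw [htm b i j hi hj, K.uu_mul t hi hj, K.uu_mul u (htw b i hi) (htw b j hj),
        show c * (K.uu t i * K.uu t j) * c⁻¹ = (c * K.uu t i * c⁻¹) * (c * K.uu t j * c⁻¹) by group, hi', hj']
      group
    have g3 := closed 1 2 (by norm_num) (by norm_num) e1 e2
    have g4 := closed 1 1 (by norm_num) (by norm_num) e1 e1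
    rw [show sMul 1 2 = 3 from rfl] at g3
    rw [show sMul 1 1 = 4 from rfl] at g4
    have g0 := closed 4 4 (by norm_num) (by norm_num) g4 g4
    have g5 := closed 4 1 (by norm_num) (by norm_num) g4 e1
    have g6 := closed 4 2 (by norm_num) (by norm_num) g4 e2
    have g7 := closed 4 3 (by norm_num) (by norm_num) g4 g3
    interval_cases p
    exacts [g0, e1, e2, g3, g4, g5, g6, g7]
  have f1 := ext false a b₁ k₁ hk₁ h1 h2
  have f2 := ext true (!a) b₂ k₂ hk₂ h3 h4
  refine ⟨a, b₁, b₂, if a then canon k₂ k₁ else canon k₁ k₂, ?_, fun q hq => ?_⟩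
  · cases a <;> simp only [↓reduceIte, Bool.false_eq_true]
    exacts [(canon_eq hk₁ hk₂).1, (canon_eq hk₂ hk₁).1]
  rw [okQ, Bool.and_eq_true, Bool.and_eq_true, Nat.blt_eq, Nat.blt_eq] at hq
  obtain ⟨⟨hP, hp⟩, hr⟩ := hq
  have hp' := htw b₁ (q / 24) (by omega)
  have hr' := htw b₂ (q % 24) (by omega)
  have e : c * K.phi q * c⁻¹ = K.uu a k₁ * K.uu (!a) k₂ * (K.uu a (tw b₁ (q / 24)) * K.uu (!a) (tw b₂ (q % 24))) *
      (K.uu a k₁ * K.uu (!a) k₂)⁻¹ := by
    calc c * K.phi q * c⁻¹ = (c * K.uu false (q / 24) * c⁻¹) * (c * K.uu true (q % 24) * c⁻¹) := by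
          simp only [phi, uu, ↓reduceIte, Bool.false_eq_true]; group
      _ = _ := by
          rw [f1 _ hp, f2 _ hr]
          set A := K.uu a k₁
          set A' := K.uu a (tw b₁ (q / 24))
          set B := K.uu (!a) k₂
          set B' := K.uu (!a) (tw b₂ (q % 24))
          have c1 : Commute A B := K.uu_comm a hk₁ hk₂
          have c2 : Commute A' B := K.uu_comm a hp' hk₂
          have c3 : Commute A B' := K.uu_comm a hk₁ hr'
          calc A * A' * A⁻¹ * (B * B' * B⁻¹) = A * A' * (A⁻¹ * B) * B' * B⁻¹ := by group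
            _ = A * A' * B * (A⁻¹ * B') * B⁻¹ := by rw [(c1.inv_left).eq]; group
            _ = A * (A' * B) * B' * (A⁻¹ * B⁻¹) := by rw [(c3.inv_left).eq]; group
            _ = A * (B * A') * B' * (A⁻¹ * B⁻¹) := by rw [c2.eq]
            _ = A * B * (A' * B') * (A⁻¹ * B⁻¹) := by group
            _ = _ := by rw [(c1.inv_inv).eq, mul_inv_rev]
  rw [e, typeAct]
  have hx : okP (if a then canon k₂ k₁ else canon k₁ k₂) = true := by
    cases a <;> simp only [↓reduceIte, Bool.false_eq_true]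
    exacts [(canon_eq hk₁ hk₂).1, (canon_eq hk₂ hk₁).1]
  have hy : okP (if a then canon (tw b₂ (q % 24)) (tw b₁ (q / 24)) else canon (tw b₁ (q / 24)) (tw b₂ (q % 24))) = true := by
    cases a <;> simp only [↓reduceIte, Bool.false_eq_true]
    exacts [(canon_eq hp' hr').1, (canon_eq hr' hp').1]
  obtain ⟨hxy, exy⟩ := K.phi_mul hx hy
  obtain ⟨hi, ei⟩ := K.phi_inv hx
  rw [(K.phi_mul hxy hi).2, exy, ei]
  cases a
  · simp only [↓reduceIte, Bool.false_eq_true, Bool.not_false, K.phi_canon hk₁ hk₂, K.phi_canon hp' hr', uu]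
  · simp only [↓reduceIte, Bool.false_eq_true, Bool.not_true, K.phi_canon hk₂ hk₁, K.phi_canon hr' hp', uu,
      (K.commute hk₂ hk₁).eq, (K.commute hr' hp').eq]

/-- Two elements of the same type differ by an element of the product. -/
theorem same_type {a b₁ b₂ : Bool} {x x' : ℕ} {c c' : G} (hc : Commute c z) (hc' : Commute c' z)
    (h : K.HasType a b₁ b₂ x c) (h' : K.HasType a b₁ b₂ x' c') : ∃ y, okP y = true ∧ K.phi y = c' * c⁻¹ := by
  obtain ⟨hx, hA⟩ := h
  obtain ⟨hx', hA'⟩ := h'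
  let d := ((K.phi x)⁻¹ * c)⁻¹ * ((K.phi x')⁻¹ * c')
  have hd : Commute d z :=
    ((((K.phi_cent hx).inv_left).mul_left hc).inv_left).mul_left (((K.phi_cent hx').inv_left).mul_left hc')
  have key : ∀ p < 8, ∀ q < 8, Commute d (K.u₁ p * K.u₂ q) := by
    intro p hp q hq
    obtain ⟨r, hr, hre⟩ := K.inQ_iff.1 ⟨p, hp, q, hq, rfl⟩
    rw [← hre]
    have w : okP (if a then canon (tw b₂ (r % 24)) (tw b₁ (r / 24)) else canon (tw b₁ (r / 24)) (tw b₂ (r % 24))) = true := by
      have htw : ∀ b n, n < 24 → tw b n < 24 := fun b n hn => by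
        cases b; exacts [hn, (sTau_hom n hn).1]
      obtain ⟨-, g1, g2, -⟩ := okP_bounds (okQ_P hr)
      cases a <;> simp only [↓reduceIte, Bool.false_eq_true]
      exacts [(canon_eq (htw _ _ g1) (htw _ _ g2)).1, (canon_eq (htw _ _ g2) (htw _ _ g1)).1]
    have e : ∀ {x : ℕ} {c : G}, okP x = true → c * K.phi r * c⁻¹ = K.phi (typeAct a b₁ b₂ x r) →
        ((K.phi x)⁻¹ * c) * K.phi r * ((K.phi x)⁻¹ * c)⁻¹ =
          K.phi (if a then canon (tw b₂ (r % 24)) (tw b₁ (r / 24)) else canon (tw b₁ (r / 24)) (tw b₂ (r % 24))) := by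
      intro x c hx h
      rw [typeAct, (K.phi_mul (K.phi_mul hx w).1 (K.phi_inv hx).1).2, (K.phi_mul hx w).2, (K.phi_inv hx).2] at h
      calc (K.phi x)⁻¹ * c * K.phi r * ((K.phi x)⁻¹ * c)⁻¹ = (K.phi x)⁻¹ * (c * K.phi r * c⁻¹) * K.phi x := by group
        _ = _ := by rw [h]; group
    rw [commute_iff_eq, ← mul_inv_eq_iff_eq_mul]
    calc d * K.phi r * d⁻¹ = ((K.phi x)⁻¹ * c)⁻¹ *
          (((K.phi x')⁻¹ * c') * K.phi r * ((K.phi x')⁻¹ * c')⁻¹) * ((K.phi x)⁻¹ * c) := by simp only [d]; group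
      _ = K.phi r := by rw [e hx' (hA' r hr), ← e hx (hA r hr)]; group
  have hk : ∃ k, okP k = true ∧ K.phi k = d := by
    rcases K.self hd key with h | h
    · exact ⟨0, by decide, by rw [K.phi_zero, h]⟩
    · exact ⟨4, by decide, by rw [K.phi_four, h]⟩
  obtain ⟨k, hk, hke⟩ := hk
  obtain ⟨l, hl, hle⟩ := K.norm_phi (((K.phi_cent hx).inv_left).mul_left hc) hk
  obtain ⟨hi, hie⟩ := K.phi_inv hx
  obtain ⟨m, hm⟩ := K.phi_mul hx' hl
  obtain ⟨n, hn⟩ := K.phi_mul m hi
  refine ⟨_, n, ?_⟩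
  rw [hn, hm, hle, hke, hie]
  simp only [d]
  group

/-- An element of trivial type lies in the product. -/
theorem mem_of_type_zero {x : ℕ} {c : G} (hc : Commute c z) (h : K.HasType false false false x c) :
    ∃ y, okP y = true ∧ K.phi y = c := by
  have h1 : K.HasType false false false 0 (1 : G) := by
    refine ⟨by decide, fun q hq => ?_⟩
    have key : (eltsQ.all fun q => Nat.beq (typeAct false false false 0 q) q) = true := by decide +kernel
    rw [Nat.eq_of_beq_eq_true (List.all_eq_true.1 key q (mem_eltsQ.2 hq))]; group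
  obtain ⟨y, hy, e⟩ := K.same_type (Commute.one_left z) hc h1 h
  exact ⟨y, hy, by rw [e, inv_one, mul_one]⟩

end Comp

end Cfsg.Lib.UFourThreeLocal
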