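import Cfsg.Agent.Lib.UFourThreeLocal.NotSmall
import Mathlib.GroupTheory.NoncommCoprod

/-!
# The elementary abelian group of order 81
-/

set_option autoImplicit false
set_option maxRecDepth 10000
set_option linter.unusedSectionVars false

namespace Cfsg.Lib.UFourThreeLocal

open Subgroup

attribute [local irreducible] elts mulH conjH invH okH pow16 pow3 pow9 commH eltsS sylS eCodes

/-- The element `l` of the elementary abelian group, centralised by the swap and inverted by `z`. -/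
structure Axis {G : Type*} [Group G] {z : G} (L : Loc z) (l : G) : Prop where
  mem : l ∈ L.ySub
  cube : l ^ 3 = 1
  ne : l ≠ 1
  inv_z : z * l * z⁻¹ = l⁻¹
  comm_s : Commute (L.ψ 576) l
  comm_two : Commute l (L.ψ 1152 * l * (L.ψ 1152)⁻¹)
  cover : ∀ c : G, Commute c (L.ψ 200) → Commute c l → c ∈ L.ySub ∨ c * L.ψ 576 ∈ L.ySub
  span : ∀ y ∈ L.ySub, ∃ p ∈ closure {L.ψ 200, L.ψ 1152 * l * (L.ψ 1152)⁻¹},
    ∃ q ∈ closure {L.ψ 200, l}, ∃ t ∈ L.tSub, y = p * q * t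

namespace Loc

variable {G : Type*} [Group G] [Finite G] {z : G} (L : Loc z)

theorem m_ok : okH 1152 = true := by with_unfolding_all decide

theorem m_sq : L.ψ 1152 * L.ψ 1152 = z := by
  exact (L.mul_eq m_ok m_ok (show mulH 1152 1152 = 4 by with_unfolding_all decide +kernel)).trans L.z_eq

theorem m_s : L.ψ 1152 * L.ψ 576 * (L.ψ 1152)⁻¹ = z * L.ψ 576 := by
  rw [L.conj_eq m_ok (ok_const (by decide)) (show conjH 1152 576 = 580 by with_unfolding_all decide +kernel), L.zs_eq]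

theorem m_d : Commute (L.ψ 1152 * L.ψ 200 * (L.ψ 1152)⁻¹) (L.ψ 200) := by
  have k : commH (conjH 1152 200) 200 = true := by with_unfolding_all decide +kernel
  rw [← (L.conj m_ok (ok_const (by decide))).2]
  exact (L.psi_comm (L.conj m_ok (ok_const (by decide))).1 (ok_const (by decide))).2 k

theorem m_ySub {y : G} (hy : y ∈ L.ySub) : L.ψ 1152 * y * (L.ψ 1152)⁻¹ ∈ L.ySub := by
  have X := L.base_vertex (x := 200) (by simp)
  have k : (tCodes.all fun h => tCodes.elem (conjH (invH 1152) h)) = true := by with_unfolding_all decide +kernel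
  obtain ⟨ho, hc⟩ := (X.mem_Y y).1 hy
  refine (X.mem_Y _).2 ⟨by rwa [Invol.orderOf_conj_eq], fun t ht => ?_⟩
  refine (commute_iff_conj _ _ _).2 (hc _ ?_)
  obtain ⟨h, hh, rfl⟩ := ht
  have k' := List.all_eq_true.1 k h hh
  simp only [List.elem_eq_mem, decide_eq_true_eq] at k'
  refine ⟨_, k', ?_⟩
  rw [(L.conj (L.inv m_ok).1 (tCodes_ok hh)).2, (L.inv m_ok).2, inv_inv]

theorem edges : ∃ (g : G) (Tw Yw Ts : Subgroup G),
    Vertex (L.ψ 200) (L.ψ 576) Ts (L.ySub.map (MulAut.conj g).toMonoidHom) ∧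
    Vertex (L.ψ 200) (z * L.ψ 576) Tw Yw ∧ Ts ≤ L.ySub ∧ Tw ≤ L.ySub ∧
    Nat.card (L.ySub.map (MulAut.conj g).toMonoidHom : Subgroup G) = Nat.card L.ySub ∧
    L.tSub ≤ L.ySub.map (MulAut.conj g).toMonoidHom ∧ Tw ≤ L.ySub.map (MulAut.conj g).toMonoidHom := by
  obtain ⟨g, -, Xs⟩ := L.exists_vertex L.s_sq L.s_ne L.comm_d_s L.z_comm_s.symm L.s_ne_z
  obtain ⟨g', -, Xw⟩ := L.exists_vertex L.zs_sq L.zs_ne (L.comm_d_z.mul_right L.comm_d_s)
    ((Commute.refl z).mul_left L.z_comm_s.symm) L.zs_ne_z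
  set Ts := L.tSub.map (MulAut.conj g).toMonoidHom
  set Ys := L.ySub.map (MulAut.conj g).toMonoidHom
  set Tw := L.tSub.map (MulAut.conj g').toMonoidHom
  set Yw := L.ySub.map (MulAut.conj g').toMonoidHom
  have X := L.base_vertex (x := 200) (by simp)
  have hd := L.d_cube
  have hd1 := L.d_ne
  have hcs := (L.card_ySub_eq rfl rfl Xs).2
  have hcw := (L.card_ySub_eq rfl rfl Xw).2
  have hne : ∀ {u : G} {T' Y' : Subgroup G}, Vertex (L.ψ 200) u T' Y' → Nat.card Y' = Nat.card L.ySub → Y' ≠ T' :=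
    fun X' hc e => L.ySub_ne (eq_of_le_of_card_ge X.T_le (by rw [← hc, e, X'.card_T, X.card_T])).symm
  have Xw' : Vertex (L.ψ 200) (L.ψ 576 * z) Tw Yw := by rw [← L.z_comm_s.eq]; exact Xw
  have Xs' : Vertex (L.ψ 200) (z * L.ψ 576 * z) Ts Ys := by
    rw [show z * L.ψ 576 * z = L.ψ 576 by rw [L.z_comm_s.eq, mul_assoc, L.z_sq, mul_one]]; exact Xs
  have hsz : Commute (L.ψ 576) z := L.z_comm_s.symm
  have hzw : Commute z (z * L.ψ 576) := (Commute.refl z).mul_right L.z_comm_s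
  obtain ⟨h1, h2⟩ : Ts ≤ L.ySub ∧ Tw ≤ L.ySub := by
    rcases X.neighbour Xs Xw hsz hd hd1 (hne X rfl) with h | h
    · refine ⟨h, ?_⟩
      rcases Xw.neighbour X Xs' hzw hd hd1 (hne Xw hcw) with h' | h'
      · exact Vertex.le_symm Xw X h'
      · exact Xs.close X Xw' L.z_comm_s hd hd1 hcs.symm (Vertex.le_symm X Xs h) (Vertex.le_symm Xw Xs h')
    · refine ⟨?_, h⟩
      rcases Xs.neighbour X Xw' L.z_comm_s hd hd1 (hne Xs hcs) with h' | h'
      · exact Vertex.le_symm Xs X h'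
      · exact Xw.close X Xs' hzw hd hd1 hcw.symm (Vertex.le_symm X Xw h) (Vertex.le_symm Xs Xw h')
  exact ⟨g, Tw, Yw, Ts, Xs, Xw, h1, h2, hcs, Vertex.le_symm X Xs h1, X.close Xs Xw hsz hd hd1 hcs h1 h2⟩

include L in
theorem exists_axis : ∃ l, Axis L l := by
  obtain ⟨g, Tw, Yw, Ts, Xs, Xw, hs, hw, hcs, hTs, hTws⟩ := L.edges
  have X := L.base_vertex (x := 200) (by simp)
  have hd := L.d_cube
  have hd1 := L.d_ne
  obtain ⟨q, hq, hqd⟩ : ∃ q ∈ Ts, q ∉ zpowers (L.ψ 200) := by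
    by_contra h
    push Not at h
    have := Subgroup.card_le_of_le (fun q hq => h q hq : Ts ≤ zpowers (L.ψ 200))
    rw [Xs.card_T, Nat.card_zpowers] at this
    have := Nat.le_of_dvd (by norm_num) (orderOf_dvd_of_pow_eq_one hd)
    omega
  set l := q * (z * q⁻¹ * z⁻¹) with hl
  have hlTs : l ∈ Ts := mul_mem hq (Xs.conj_T L.comm_d_z L.z_comm_s (inv_mem hq)).1
  have hinv : z * l * z⁻¹ = l⁻¹ := by
    have hz : z⁻¹ = z := inv_eq_of_mul_eq_one_right L.z_sq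
    calc z * l * z⁻¹ = z * q * z * q⁻¹ * (z⁻¹ * z⁻¹) := by rw [hl]; group
      _ = z * q * z * q⁻¹ := by rw [hz, L.z_sq, mul_one]
      _ = z * q * z⁻¹ * q⁻¹ := by rw [hz]
      _ = l⁻¹ := by rw [hl]; group
  have hld : l ∉ zpowers (L.ψ 200) := fun h => by
    obtain ⟨k, hk⟩ := h
    have hcz : Commute l z := hk ▸ L.comm_d_z.zpow_left k
    rw [← hcz.eq, mul_inv_cancel_right] at hinv
    have h1 : l = 1 := orderOf_eq_one_iff.1 (by
      have h2 : orderOf l ∣ 2 := orderOf_dvd_of_pow_eq_one (by rw [pow_two]; exact eq_inv_iff_mul_eq_one.1 hinv)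
      have h3 : orderOf l ∣ 3 := orderOf_dvd_of_pow_eq_one ((Xs.mem_T l).1 hlTs).1
      exact Nat.eq_one_of_dvd_coprimes (by norm_num : Nat.Coprime 2 3) h2 h3)
    refine hqd (L.meet ((Xs.mem_T q).1 hq).1 ((Xs.mem_T q).1 hq).2.1 ?_ ((Xs.mem_T q).1 hq).2.2)
    have h' : z * q⁻¹ * z⁻¹ = q⁻¹ := eq_inv_of_mul_eq_one_right (hl ▸ h1)
    have hq' : Commute q⁻¹ z := (mul_inv_eq_iff_eq_mul.1 h').symm
    simpa using hq'.inv_left
  set l2 := L.ψ 1152 * l * (L.ψ 1152)⁻¹ with hl2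
  have hlY := hs hlTs
  have h2Y : l2 ∈ L.ySub := L.m_ySub hlY
  have h2d : Commute l2 (L.ψ 200) := ((X.mem_Y _).1 h2Y).2 _ (X.d_mem hd)
  have h2w : l2 ∈ Tw := by
    refine (Xw.mem_T _).2 ⟨by rw [hl2, conj_pow, ((Xs.mem_T l).1 hlTs).1]; group, h2d, ?_⟩
    rw [← L.m_s]
    exact (Commute.conj_iff _).2 ((Xs.mem_T l).1 hlTs).2.2
  have h2n : l2 ∉ zpowers (L.ψ 200) := fun h => by
    obtain ⟨k, hk⟩ := h
    have hc : Commute l2 z := hk ▸ L.comm_d_z.zpow_left k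
    have hm : Commute (L.ψ 1152) z := L.cent m_ok
    have hlz : Commute l z := (Commute.conj_iff (L.ψ 1152)).1 (by rwa [hm.eq, mul_inv_cancel_right, ← hl2])
    exact hld (L.meet ((Xs.mem_T l).1 hlTs).1 ((Xs.mem_T l).1 hlTs).2.1 hlz ((Xs.mem_T l).1 hlTs).2.2)
  refine ⟨l, hlY, ((Xs.mem_T l).1 hlTs).1, fun e => hld (e ▸ one_mem _), hinv,
    ((Xs.mem_T l).1 hlTs).2.2.symm, (((Xs.mem_Y _).1 (hTws h2w)).2 l hlTs).symm, fun c hcd hcl => ?_, fun y hy => ?_⟩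
  · have hK : Ts ≤ centralizer ({c} : Set G) := Xs.full hd hd1
      (mem_centralizer_singleton_iff.2 hcd.symm) hlTs (mem_centralizer_singleton_iff.2 hcl.symm) hld
    have hYe : L.ySub.map (MulAut.conj g).toMonoidHom = L.ySub := by
      refine (eq_of_le_of_card_ge (fun y hy => ?_) hcs.le).symm
      obtain ⟨p, hp, -, q', hq', -, t, ht, rfl⟩ := X.three Xs Xw L.z_comm_s.symm hd hy
      exact mul_mem (mul_mem (hTws hp) (Xs.T_le hq')) (hTs ht)
    have := Xs.cover c fun t ht => ((mem_centralizer_singleton_iff.1 (hK ht) : Commute t c)).symm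
    rwa [hYe] at this
  · obtain ⟨p, hp, -, q', hq', -, t, ht, rfl⟩ := X.three Xs Xw L.z_comm_s.symm hd hy
    exact ⟨p, Xw.full hd hd1 (subset_closure (by simp)) h2w (subset_closure (by simp [hl2])) h2n hp,
      q', Xs.full hd hd1 (subset_closure (by simp)) hlTs (subset_closure (by simp)) hld hq', t, ht, rfl⟩

end Loc

namespace Axis

variable {G : Type*} [Group G] [Finite G] {z : G} {L : Loc z} {l : G} (X : Axis L l)
include X

theorem two_mem : L.ψ 1152 * l * (L.ψ 1152)⁻¹ ∈ L.ySub := L.m_ySub X.mem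

theorem two_cube : (L.ψ 1152 * l * (L.ψ 1152)⁻¹) ^ 3 = 1 := by rw [conj_pow, X.cube]; group

theorem two_inv : z * (L.ψ 1152 * l * (L.ψ 1152)⁻¹) * z⁻¹ = (L.ψ 1152 * l * (L.ψ 1152)⁻¹)⁻¹ := by
  have hm : Commute (L.ψ 1152) z := L.cent Loc.m_ok
  rw [show z * (L.ψ 1152 * l * (L.ψ 1152)⁻¹) * z⁻¹ = (z * L.ψ 1152) * l * (z * L.ψ 1152)⁻¹ by group, ← hm.eq,
    show L.ψ 1152 * z * l * (L.ψ 1152 * z)⁻¹ = L.ψ 1152 * (z * l * z⁻¹) * (L.ψ 1152)⁻¹ by group, X.inv_z]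
  group

theorem two_m : L.ψ 1152 * (L.ψ 1152 * l * (L.ψ 1152)⁻¹) * (L.ψ 1152)⁻¹ = l⁻¹ := by
  rw [show L.ψ 1152 * (L.ψ 1152 * l * (L.ψ 1152)⁻¹) * (L.ψ 1152)⁻¹ =
    (L.ψ 1152 * L.ψ 1152) * l * (L.ψ 1152 * L.ψ 1152)⁻¹ by group, L.m_sq, X.inv_z]

theorem two_s : L.ψ 576 * (L.ψ 1152 * l * (L.ψ 1152)⁻¹) * (L.ψ 576)⁻¹ = (L.ψ 1152 * l * (L.ψ 1152)⁻¹)⁻¹ := by
  have hw : Commute (z * L.ψ 576) (L.ψ 1152 * l * (L.ψ 1152)⁻¹) := by
    rw [← L.m_s]; exact (Commute.conj_iff _).2 X.comm_s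
  have hz : z⁻¹ = z := inv_eq_of_mul_eq_one_right L.z_sq
  have : L.ψ 576 = z * (z * L.ψ 576) := by rw [← mul_assoc, L.z_sq, one_mul]
  nth_rewrite 1 2 [this]
  rw [show z * (z * L.ψ 576) * (L.ψ 1152 * l * (L.ψ 1152)⁻¹) * (z * (z * L.ψ 576))⁻¹ =
    z * ((z * L.ψ 576) * (L.ψ 1152 * l * (L.ψ 1152)⁻¹) * (z * L.ψ 576)⁻¹) * z⁻¹ by group, hw.eq,
    mul_inv_cancel_right, X.two_inv]

theorem eq_one_of_comm {k : ℕ} (h : Commute (l ^ k) z) : l ^ k = 1 := by
  have h1 : l ^ k = (l ^ k)⁻¹ := by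
    rw [← inv_pow, ← X.inv_z, conj_pow, ← h.eq, mul_inv_cancel_right]
  refine orderOf_eq_one_iff.1 (Nat.eq_one_of_dvd_coprimes (by norm_num : Nat.Coprime 2 3)
    (orderOf_dvd_of_pow_eq_one (by rw [pow_two]; exact eq_inv_iff_mul_eq_one.1 h1)) ?_)
  exact orderOf_dvd_of_pow_eq_one (by rw [← pow_mul, mul_comm, pow_mul, X.cube, one_pow])

theorem y_comm {p : G} (hp : p ∈ L.ySub) {q : G} (hq : q ∈ L.ySub) : Commute p q := by
  have B := L.base_vertex (x := 200) (by simp)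
  have hle : L.ySub ≤ centralizer ((L.ySub : Set G)) := by
    have hgen : ∀ (x : G), x ∈ L.ySub → Commute l x ∧ Commute (L.ψ 1152 * l * (L.ψ 1152)⁻¹) x →
        ∀ y ∈ L.ySub, Commute x y := by
      intro x hx ⟨h1, h2⟩ y hy
      obtain ⟨hxo, hxT⟩ := (B.mem_Y x).1 hx
      obtain ⟨p, hp, q, hq, t, ht, rfl⟩ := X.span y hy
      have hd := B.d_mem L.d_cube
      have hc : ∀ w : G, Commute w x → w ∈ centralizer ({x} : Set G) := fun w hw =>
        mem_centralizer_singleton_iff.2 hw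
      have hp' : p ∈ centralizer ({x} : Set G) := (closure_le _).2 (by
        rintro w (rfl | rfl)
        · exact hc _ (hxT _ hd).symm
        · exact hc _ h2) hp
      have hq' : q ∈ centralizer ({x} : Set G) := (closure_le _).2 (by
        rintro w (rfl | rfl)
        · exact hc _ (hxT _ hd).symm
        · exact hc _ h1) hq
      have e1 : Commute p x := mem_centralizer_singleton_iff.1 hp'
      have e2 : Commute q x := mem_centralizer_singleton_iff.1 hq'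
      exact (e1.symm.mul_right e2.symm).mul_right (hxT t ht)
    intro y hy
    rw [mem_centralizer_iff]
    intro x hx
    have hll : Commute l (L.ψ 1152 * l * (L.ψ 1152)⁻¹) := X.comm_two
    refine (hgen x hx ⟨?_, ?_⟩ y hy).eq
    · exact (hgen l X.mem ⟨Commute.refl l, hll.symm⟩ x hx)
    · exact (hgen _ X.two_mem ⟨hll, Commute.refl _⟩ x hx)
  exact ((mem_centralizer_iff.1 (hle hq)) p hp)

end Axis

end Cfsg.Lib.UFourThreeLocal
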