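import Cfsg.Agent.Lib.UFourThreeLocal.Axis

/-!
# Coordinates of the elementary abelian group of order 81
-/

set_option autoImplicit false
set_option maxRecDepth 10000
set_option linter.unusedSectionVars false

namespace Cfsg.Lib.UFourThreeLocal

open Subgroup

attribute [local irreducible] elts mulH conjH invH okH pow16 pow3 pow9 commH eltsS sylS eCodes

namespace Axis

variable {G : Type*} [Group G] [Finite G] {z : G} {L : Loc z} {l : G} (X : Axis L l)
include X

theorem coord {y : G} (hy : y ∈ L.ySub) : ∃ t ∈ L.tSub, ∃ k n : ℕ, k < 3 ∧ n < 3 ∧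
    y = t * (l ^ k * (L.ψ 1152 * l * (L.ψ 1152)⁻¹) ^ n) := by
  set l2 := L.ψ 1152 * l * (L.ψ 1152)⁻¹
  have B := L.base_vertex (x := 200) (by simp)
  let R : Subgroup G :=
    { carrier := {y | ∃ t ∈ L.tSub, ∃ k n : ℕ, k < 3 ∧ n < 3 ∧ y = t * (l ^ k * l2 ^ n)}
      one_mem' := ⟨1, one_mem _, 0, 0, by norm_num, by norm_num, by simp⟩
      mul_mem' := by
        rintro _ _ ⟨t, ht, k, n, -, -, rfl⟩ ⟨t', ht', k', n', -, -, rfl⟩
        have c1 : Commute (l ^ k * l2 ^ n) t' :=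
          ((((B.mem_Y l).1 X.mem).2 t' ht').pow_left k).mul_left ((((B.mem_Y l2).1 X.two_mem).2 t' ht').pow_left n)
        refine ⟨t * t', mul_mem ht ht', (k + k') % 3, (n + n') % 3, Nat.mod_lt _ (by norm_num),
          Nat.mod_lt _ (by norm_num), ?_⟩
        have h1 : ∀ j, l ^ (j % 3) = l ^ j := fun j => by
          conv_rhs => rw [← Nat.mod_add_div j 3, pow_add, pow_mul, X.cube, one_pow, mul_one]
        have h2 : ∀ j, l2 ^ (j % 3) = l2 ^ j := fun j => by
          conv_rhs => rw [← Nat.mod_add_div j 3, pow_add, pow_mul, X.two_cube, one_pow, mul_one]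
        rw [h1, h2, pow_add, pow_add, c1.mul_mul_mul_comm,
          (X.comm_two.symm.pow_pow n k').mul_mul_mul_comm]
      inv_mem' := by
        rintro _ ⟨t, ht, k, n, hk, hn, rfl⟩
        have c1 : Commute (l ^ k * l2 ^ n) t :=
          ((((B.mem_Y l).1 X.mem).2 t ht).pow_left k).mul_left ((((B.mem_Y l2).1 X.two_mem).2 t ht).pow_left n)
        refine ⟨t⁻¹, inv_mem ht, (3 - k) % 3, (3 - n) % 3, Nat.mod_lt _ (by norm_num),
          Nat.mod_lt _ (by norm_num), ?_⟩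
        have h1 : ∀ {w : G} {k : ℕ}, w ^ 3 = 1 → k < 3 → w ^ ((3 - k) % 3) = (w ^ k)⁻¹ := fun {w k} hw hk => by
          refine eq_inv_of_mul_eq_one_left ?_
          interval_cases k <;> simp [← pow_succ, ← pow_succ', hw]
        rw [h1 X.cube hk, h1 X.two_cube hn, mul_inv_rev, mul_inv_rev,
          ((X.comm_two.pow_pow k n).inv_inv).symm.eq]
        have c2 : Commute ((l ^ k)⁻¹ * (l2 ^ n)⁻¹) t⁻¹ :=
          ((((B.mem_Y l).1 X.mem).2 t ht).pow_left k).inv_inv.mul_left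
            ((((B.mem_Y l2).1 X.two_mem).2 t ht).pow_left n).inv_inv
        exact c2.eq }
  have hd : L.ψ 200 ∈ R := ⟨_, B.d_mem L.d_cube, 0, 0, by norm_num, by norm_num, by simp⟩
  obtain ⟨p, hp, q, hq, t, ht, rfl⟩ := X.span y hy
  have hp' : p ∈ R := (closure_le _).2 (by
    rintro w (rfl | rfl)
    · exact hd
    · exact ⟨1, one_mem _, 0, 1, by norm_num, by norm_num, by simp [l2]⟩) hp
  have hq' : q ∈ R := (closure_le _).2 (by
    rintro w (rfl | rfl)
    · exact hd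
    · exact ⟨1, one_mem _, 1, 0, by norm_num, by norm_num, by simp⟩) hq
  exact mul_mem (mul_mem hp' hq') (⟨t, ht, 0, 0, by norm_num, by norm_num, by simp⟩ : t ∈ R)

theorem two_pow_one {k n : ℕ} (hk : k < 3) (hn : n < 3)
    (h : l ^ k * (L.ψ 1152 * l * (L.ψ 1152)⁻¹) ^ n = 1) : k = 0 ∧ n = 0 := by
  set l2 := L.ψ 1152 * l * (L.ψ 1152)⁻¹ with hl2
  have h0 : ∀ {j : ℕ}, j < 3 → l ^ j = 1 → j = 0 := fun {j} hj e => by
    have := orderOf_eq_prime (hp := ⟨Nat.prime_three⟩) X.cube X.ne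
    exact Nat.eq_zero_of_dvd_of_lt (this ▸ orderOf_dvd_of_pow_eq_one e) hj
  have hs : Commute (l2 ^ n) (L.ψ 576) := by
    rw [eq_inv_of_mul_eq_one_right h]; exact ((X.comm_s.pow_right k).symm).inv_left
  have h2 : l2 ^ n = (l2 ^ n)⁻¹ := by
    symm
    calc (l2 ^ n)⁻¹ = (L.ψ 576 * l2 * (L.ψ 576)⁻¹) ^ n := by rw [hl2, X.two_s, inv_pow]
      _ = L.ψ 576 * l2 ^ n * (L.ψ 576)⁻¹ := conj_pow
      _ = l2 ^ n := by rw [← hs.eq, mul_inv_cancel_right]
  have h3 : l2 ^ n = 1 := orderOf_eq_one_iff.1 (Nat.eq_one_of_dvd_coprimes (by norm_num : Nat.Coprime 2 3)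
    (orderOf_dvd_of_pow_eq_one (by rw [pow_two]; exact eq_inv_iff_mul_eq_one.1 h2))
    (orderOf_dvd_of_pow_eq_one (by rw [← pow_mul, mul_comm, pow_mul, X.two_cube, one_pow])))
  rw [h3, mul_one] at h
  exact ⟨h0 hk h, h0 hn (by rwa [hl2, conj_pow, conj_eq_one_iff] at h3)⟩

theorem inverted {y : G} (hy : y ∈ L.ySub) (hz : z * y * z⁻¹ = y⁻¹) : ∃ k n : ℕ, k < 3 ∧ n < 3 ∧
    y = l ^ k * (L.ψ 1152 * l * (L.ψ 1152)⁻¹) ^ n := by
  obtain ⟨t, ht, k, n, hk, hn, rfl⟩ := X.coord hy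
  set l2 := L.ψ 1152 * l * (L.ψ 1152)⁻¹
  have e : z * (t * (l ^ k * l2 ^ n)) * z⁻¹ = t * ((l ^ k)⁻¹ * (l2 ^ n)⁻¹) := by
    rw [show z * (t * (l ^ k * l2 ^ n)) * z⁻¹ = (z * t * z⁻¹) * ((z * l ^ k * z⁻¹) * (z * l2 ^ n * z⁻¹)) by group,
      ← conj_pow, X.inv_z, ← conj_pow, X.two_inv, ← (L.tSub_comm_z ht).eq, mul_inv_cancel_right, inv_pow, inv_pow]
  rw [hz, mul_inv_rev, mul_inv_rev, ((X.comm_two.pow_pow k n).inv_inv).symm.eq] at e
  have hc : Commute ((l ^ k)⁻¹ * (l2 ^ n)⁻¹) t :=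
    (X.y_comm (pow_mem X.mem k) (L.base_vertex (x := 200) (by simp) |>.T_le ht)).inv_left.mul_left
      (X.y_comm (pow_mem X.two_mem n) (L.base_vertex (x := 200) (by simp) |>.T_le ht)).inv_left
  rw [← hc.eq, mul_right_inj] at e
  have h1 : t = 1 := orderOf_eq_one_iff.1 (Nat.eq_one_of_dvd_coprimes (by norm_num : Nat.Coprime 2 3)
    (orderOf_dvd_of_pow_eq_one (by rw [pow_two]; exact eq_inv_iff_mul_eq_one.1 e.symm))
    (orderOf_dvd_of_pow_eq_one (((L.base_vertex (x := 200) (by simp)).mem_T t).1 ht).1))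
  exact ⟨k, n, hk, hn, by rw [h1, one_mul]⟩

theorem card_ySub : Nat.card L.ySub = 81 := by
  set l2 := L.ψ 1152 * l * (L.ψ 1152)⁻¹ with hl2
  have B := L.base_vertex (x := 200) (by simp)
  let f : L.tSub × Fin 3 × Fin 3 → L.ySub := fun p =>
    ⟨p.1 * (l ^ (p.2.1 : ℕ) * l2 ^ (p.2.2 : ℕ)), mul_mem (B.T_le p.1.2) (mul_mem (pow_mem X.mem _) (pow_mem X.two_mem _))⟩
  have hb : Function.Bijective f := by
    refine ⟨?_, fun y => ?_⟩
    · rintro ⟨⟨t, ht⟩, k, n⟩ ⟨⟨t', ht'⟩, k', n'⟩ e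
      have e0 : t * (l ^ (k : ℕ) * l2 ^ (n : ℕ)) = t' * (l ^ (k' : ℕ) * l2 ^ (n' : ℕ)) := congrArg Subtype.val e
      set w := t'⁻¹ * t with hw
      have hwT : w ∈ L.tSub := mul_mem (inv_mem ht') ht
      have hsub : ∀ (a b : Fin 3) (x : G), x ^ 3 = 1 → x ^ ((b : ℕ) + (3 - a)) * x ^ (a : ℕ) = x ^ (b : ℕ) := by
        intro a b x hx
        rw [← pow_add, show (b : ℕ) + (3 - a) + a = b + 3 by omega, pow_add, hx, mul_one]
      have e1 : w = l ^ ((k' : ℕ) + (3 - k)) * l2 ^ ((n' : ℕ) + (3 - n)) := by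
        refine mul_right_cancel (b := l ^ (k : ℕ) * l2 ^ (n : ℕ)) ?_
        rw [(X.comm_two.symm.pow_pow _ _).mul_mul_mul_comm, hsub _ _ _ X.cube, hsub _ _ _ X.two_cube, hw,
          mul_assoc, e0, inv_mul_cancel_left]
      have hwz : z * w * z⁻¹ = w⁻¹ := by
        rw [e1, show ∀ p q : G, z * (p * q) * z⁻¹ = z * p * z⁻¹ * (z * q * z⁻¹) from fun p q => by group,
          ← conj_pow, ← conj_pow, X.inv_z, X.two_inv, inv_pow, inv_pow, mul_inv_rev]
        exact (X.comm_two.pow_pow _ _).inv_inv.eq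
      rw [← (L.tSub_comm_z hwT).eq, mul_inv_cancel_right] at hwz
      have h1 : w = 1 := orderOf_eq_one_iff.1 (Nat.eq_one_of_dvd_coprimes (by norm_num : Nat.Coprime 2 3)
        (orderOf_dvd_of_pow_eq_one (by rw [pow_two]; exact eq_inv_iff_mul_eq_one.1 hwz))
        (orderOf_dvd_of_pow_eq_one ((B.mem_T w).1 hwT).1))
      have et : t = t' := (inv_mul_eq_one.1 h1).symm
      have hmod : ∀ (x : G) (j : ℕ), x ^ 3 = 1 → x ^ j = x ^ (j % 3) := fun x j hx => by
        conv_lhs => rw [← Nat.mod_add_div j 3, pow_add, pow_mul, hx, one_pow, mul_one]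
      rw [h1, hmod l _ X.cube, hmod l2 _ X.two_cube] at e1
      obtain ⟨a, b⟩ := X.two_pow_one (Nat.mod_lt _ (by norm_num)) (Nat.mod_lt _ (by norm_num)) e1.symm
      simp only [Prod.mk.injEq, Subtype.mk.injEq, Fin.ext_iff]
      exact ⟨et, by omega, by omega⟩
    · obtain ⟨t, ht, k, n, hk, hn, e⟩ := X.coord y.2
      exact ⟨(⟨t, ht⟩, ⟨k, hk⟩, ⟨n, hn⟩), Subtype.ext e.symm⟩
  rw [← Nat.card_eq_of_bijective f hb, Nat.card_prod, Nat.card_prod, B.card_T, Nat.card_fin]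

theorem ySub_eq_closure : L.ySub = closure {L.ψ 192, L.ψ 8, l, L.ψ 1152 * l * (L.ψ 1152)⁻¹} := by
  have B := L.base_vertex (x := 200) (by simp)
  refine le_antisymm (fun y hy => ?_) ((closure_le _).2 ?_)
  · obtain ⟨t, ⟨h, hh, rfl⟩, k, n, -, -, rfl⟩ := X.coord hy
    refine mul_mem ?_ (mul_mem (pow_mem (subset_closure (by simp)) _) (pow_mem (subset_closure (by simp)) _))
    have k := List.all_eq_true.1 (show (tCodes.all fun h => [0, 192, 384].any fun a => [0, 8, 16].any fun b =>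
      Nat.beq (mulH a b) h) = true by with_unfolding_all decide +kernel) h hh
    simp only [List.any_eq_true, Nat.beq_eq] at k
    obtain ⟨a, ha, b, hb, rfl⟩ := k
    have o : ∀ {w : ℕ}, w ∈ [0, 192, 384, 8, 16] → w ∈ tCodes := by decide
    simp only [List.mem_cons, List.not_mem_nil, or_false] at ha hb
    have ha' : a ∈ tCodes := o (by simp only [List.mem_cons]; omega)
    have hb' : b ∈ tCodes := o (by simp only [List.mem_cons]; omega)
    rw [L.mul (Loc.tCodes_ok ha') (Loc.tCodes_ok hb')]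
    have m : ∀ {g : ℕ}, g ∈ tCodes → L.ψ g ∈ closure {L.ψ 192, L.ψ 8, l, L.ψ 1152 * l * (L.ψ 1152)⁻¹} →
        L.ψ (mulH g g) ∈ closure {L.ψ 192, L.ψ 8, l, L.ψ 1152 * l * (L.ψ 1152)⁻¹} := fun hg h => by
      rw [L.mul (Loc.tCodes_ok hg) (Loc.tCodes_ok hg)]; exact mul_mem h h
    refine mul_mem ?_ ?_
    · rcases ha with rfl | rfl | rfl
      · rw [L.psi_zero]; exact one_mem _
      · exact subset_closure (by simp)
      · rw [← show mulH 192 192 = 384 by with_unfolding_all decide]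
        exact m (by decide) (subset_closure (by simp))
    · rcases hb with rfl | rfl | rfl
      · rw [L.psi_zero]; exact one_mem _
      · exact subset_closure (by simp)
      · rw [← show mulH 8 8 = 16 by with_unfolding_all decide]
        exact m (by decide) (subset_closure (by simp))
  · rintro w (rfl | rfl | rfl | rfl)
    · exact B.T_le (L.psi_mem_tSub (by decide))
    · exact B.T_le (L.psi_mem_tSub (by decide))
    · exact X.mem
    · exact X.two_mem

theorem centralizer_eq : centralizer (L.ySub : Set G) = L.ySub := by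
  have B := L.base_vertex (x := 200) (by simp)
  refine le_antisymm (fun c hc => ?_) (fun y hy => mem_centralizer_iff.2 fun p hp => X.y_comm hp hy)
  rw [mem_centralizer_iff] at hc
  have hcl : Commute c l := (hc l X.mem).symm
  rcases B.cover c (fun t ht => (hc t (B.T_le ht)).symm) with h | h
  · exact h
  · exfalso
    have h1 : Commute (c * z) l := X.y_comm h X.mem
    have h2 : Commute z l := by
      have := hcl.inv_left.mul_left h1
      rwa [inv_mul_cancel_left] at this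
    refine X.ne (orderOf_eq_one_iff.1 ?_)
    have e := X.inv_z
    rw [h2.eq, mul_inv_cancel_right] at e
    exact Nat.eq_one_of_dvd_coprimes (by norm_num : Nat.Coprime 2 3)
      (orderOf_dvd_of_pow_eq_one (by rw [pow_two]; exact eq_inv_iff_mul_eq_one.1 e)) (orderOf_dvd_of_pow_eq_one X.cube)

end Axis

end Cfsg.Lib.UFourThreeLocal
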