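import Mathlib

/-!
# Fixed points of an element of order three on a module for the quaternion group
-/

set_option autoImplicit false

namespace Cfsg.Lib.UFourThreeLocal

/-- A fixed element `l` of the three-cycle of the quaternion units satisfies `j l = l + i l`. -/
theorem quat_fixed {W : Type*} [CommGroup W] (I J K M : W →* W) (II : ∀ x, I (I x) = x⁻¹)
    (JJ : ∀ x, J (J x) = x⁻¹) (KK : ∀ x, K (K x) = x⁻¹) (IJ : ∀ x, I (J x) = K x)
    (JI : ∀ x, J (I x) = (K x)⁻¹) (JK : ∀ x, J (K x) = I x) (KJ : ∀ x, K (J x) = (I x)⁻¹)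
    (KI : ∀ x, K (I x) = J x) (IK : ∀ x, I (K x) = (J x)⁻¹)
    (MI : ∀ x, M (I x) = (I (M x))⁻¹) (MJ : ∀ x, M (J x) = (K (M x))⁻¹) (MK : ∀ x, M (K x) = (J (M x))⁻¹)
    {l l2 : W} (hl : l ^ 3 = 1) (hne : l ≠ 1) (h1 : M l = l2) (h2 : M l2 = l⁻¹)
    (hfix : ∃ a b : ℕ, I l * J l * K l = l ^ a * l2 ^ b) : J l = l * I l := by
  obtain ⟨a, b, hab⟩ := hfix
  let n : W →* W := I * J * K
  have hn : ∀ x, n x = I x * J x * K x := fun x => rfl
  have hnn : ∀ x, n (n x) = (x ^ 3)⁻¹ := fun x => by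
    rw [hn x, map_mul, map_mul, hn, hn, hn, II, JI, KI, IJ, JJ, KJ, IK, JK, KK, ← inv_pow]
    apply Additive.ofMul.injective
    simp only [ofMul_mul, ofMul_inv, ofMul_pow]
    abel
  have hMn : ∀ x, M (n x) = (n (M x))⁻¹ := fun x => by
    rw [hn, hn, map_mul, map_mul, MI, MJ, MK]
    simp [mul_comm, mul_left_comm, mul_assoc]
  have hl2 : l2 ^ 3 = 1 := by rw [← h1, ← map_pow, hl, map_one]
  have e2 : n l2 = (l2 ^ a)⁻¹ * l ^ b := by
    rw [← h1, eq_comm, ← inv_inj, ← hMn, hn, hab, map_mul, map_pow, map_pow, h1, h2, mul_inv_rev, inv_inv]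
    rw [inv_pow, mul_comm]
  have key : l ^ (a * a + b * b) = 1 := by
    have := hnn l
    rw [hn l, hab, map_mul, map_pow, map_pow, e2, hn l, hab, hl, inv_one, mul_pow, mul_pow, inv_pow, ← pow_mul,
      ← pow_mul, ← pow_mul, ← pow_mul] at this
    rw [← this, pow_add, mul_comm b a]
    simp [mul_comm, mul_left_comm, mul_assoc]
  have hd : 3 ∣ a * a + b * b := by
    rw [← orderOf_eq_prime (hp := ⟨Nat.prime_three⟩) hl hne]
    exact orderOf_dvd_of_pow_eq_one key
  have hab3 : a % 3 = 0 ∧ b % 3 = 0 := by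
    have h := Nat.mod_eq_zero_of_dvd hd
    rw [Nat.add_mod, Nat.mul_mod, Nat.mul_mod b b] at h
    have ha := Nat.mod_lt a (show 3 > 0 by norm_num)
    have hb := Nat.mod_lt b (show 3 > 0 by norm_num)
    generalize a % 3 = p at h ha ⊢
    generalize b % 3 = q at h hb ⊢
    interval_cases p <;> interval_cases q <;> simp_all
  have h0 : ∀ (w : W) (c : ℕ), w ^ 3 = 1 → c % 3 = 0 → w ^ c = 1 := fun w c hw hc => by
    rw [← Nat.div_add_mod c 3, hc, add_zero, pow_mul, hw, one_pow]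
  rw [h0 l a hl hab3.1, h0 l2 b hl2 hab3.2, one_mul] at hab
  have hI := congrArg I hab
  rw [map_mul, map_mul, II, IJ, IK, map_one, mul_inv_eq_one, inv_mul_eq_iff_eq_mul] at hI
  rw [hI] at hab
  have h3 : J l ^ 3 = 1 := by rw [← map_pow, hl, map_one]
  calc J l = J l * (I l * J l * (l * J l))⁻¹ * J l ^ 3 := by rw [hab, h3, inv_one, mul_one, mul_one]
    _ = l⁻¹ * (I l)⁻¹ * (J l * J l) := by
        apply Additive.ofMul.injective
        simp only [ofMul_mul, ofMul_inv, ofMul_pow]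
        abel
    _ = l * I l := by
        have h' : J l * J l = l⁻¹ * (I l)⁻¹ := by
          refine eq_mul_inv_of_mul_eq (eq_inv_of_mul_eq_one_left ?_)
          rw [← hab]; simp [mul_comm, mul_left_comm, mul_assoc]
        have hi3 : I l ^ 3 = 1 := by rw [← map_pow, hl, map_one]
        rw [h']
        calc l⁻¹ * (I l)⁻¹ * (l⁻¹ * (I l)⁻¹) = l⁻¹ * (I l)⁻¹ * (l⁻¹ * (I l)⁻¹) * (l ^ 3 * I l ^ 3) := by
              rw [hl, hi3, mul_one, mul_one]
          _ = l * I l := by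
              apply Additive.ofMul.injective
              simp only [ofMul_mul, ofMul_inv, ofMul_pow]
              abel

end Cfsg.Lib.UFourThreeLocal
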