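import Cfsg.Agent.Lib.UFourThreeLocal.AxisSub
import Cfsg.Agent.Lib.UFourThreeLocal.Quat
import Cfsg.Agent.Lib.ZStar.Main

/-!
# The odd core of the centraliser of an element of order three in one component
-/

set_option autoImplicit false
set_option maxRecDepth 10000
set_option linter.unusedSectionVars false

namespace Cfsg.Lib.UFourThreeLocal

open Subgroup

attribute [local irreducible] elts mulH conjH invH okH pow16 pow3 pow9 commH eltsS sylS eCodes

namespace Loc

variable {G : Type*} [Group G] [Finite G] {z : G} (L : Loc z)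

/-- The codes used below. -/
theorem ok_quat {h : ℕ} (hh : h ∈ [0, 1, 2, 3, 4, 5, 6, 7, 8, 192, 1152]) : okH h = true := by
  simp only [List.mem_cons, List.not_mem_nil, or_false] at hh
  rcases hh with rfl | rfl | rfl | rfl | rfl | rfl | rfl | rfl | rfl | rfl | rfl <;> with_unfolding_all decide

/-- The subgroup generated by the commutators of `z` with the centraliser of `a`. -/
def zComm : Subgroup G :=
  closure {y | ∃ g : G, Commute g (L.ψ 192) ∧ z * g * z⁻¹ * g⁻¹ = y}

theorem z_comm_a : Commute z (L.ψ 192) := (L.cent (ok_quat (by decide))).symm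

theorem range_eight {h : ℕ} (hh : h ∈ List.range 8) :
    okH h = true ∧ commH 192 h = true ∧ invH h < 8 ∧ pow16 h = 0 ∧ ∀ g ∈ List.range 8, mulH h g < 8 := by
  have k := List.all_eq_true.1 quat_group h hh
  simp only [Bool.and_eq_true, Nat.beq_eq, Nat.blt_eq, List.all_eq_true] at k
  exact ⟨k.1.1.1.1, k.1.1.1.2, k.1.1.2, k.1.2, k.2⟩

/-- The quaternion group centralising `a`. -/
def qSub : Subgroup G :=
  L.listSub (List.range 8) (fun _ h => (range_eight h).1) (by decide)
    (fun h hh g hg => List.mem_range.2 ((range_eight hh).2.2.2.2 g hg))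
    (fun h hh => List.mem_range.2 (range_eight hh).2.2.1)

theorem qSub_comm {q : G} (hq : q ∈ L.qSub) : Commute q (L.ψ 192) := by
  obtain ⟨h, hh, rfl⟩ := hq
  exact ((L.psi_comm (ok_quat (by decide)) (range_eight hh).1).2 (range_eight hh).2.1).symm

theorem qSub_pGroup : IsPGroup 2 L.qSub := by
  rintro ⟨-, h, hh, rfl⟩
  exact ⟨4, Subtype.ext ((L.psi_sixteen (range_eight hh).1).2 (range_eight hh).2.2.2.1)⟩

theorem cent_a_spec {h : ℕ} (hh : okH h = true) (hc : commH 192 h = true) :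
    (mulH h h = 0 → h = 0 ∨ h = 4) ∧
      (pow9 h = 0 → (∀ q ∈ List.range 8, pow9 (mulH (conjH h q) (invH q)) = 0) → h ∈ [0, 192, 384]) := by
  have k := elts_spec cent_a hh
  simp only [hc, Bool.and_eq_true, Bool.or_eq_true, Bool.not_eq_true', false_or,
    ← Bool.not_eq_true, not_true_eq_false, Nat.beq_eq, List.all_eq_true, List.elem_eq_mem, decide_eq_true_eq] at k
  exact ⟨fun e => k.1.elim (fun k => k.elim (fun k => absurd e k) Or.inl) Or.inr,
    fun e e' => k.2.elim (fun k => absurd ⟨e, e'⟩ k) id⟩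

theorem isolated_a (hzC : z ∈ centralizer ({L.ψ 192} : Set G)) :
    IsIsolatedInvolution (⟨z, hzC⟩ : centralizer ({L.ψ 192} : Set G)) := by
  have : Fact (Nat.Prime 2) := ⟨Nat.prime_two⟩
  set C := centralizer ({L.ψ 192} : Set G)
  obtain ⟨S, hS⟩ := (L.qSub_pGroup.comap_subtype (K := C)).exists_le_sylow
  have hp := S.2.map C.subtype
  have hzS : z ∈ (S : Subgroup C).map C.subtype := ⟨⟨z, hzC⟩, hS ⟨4, by decide, L.z_eq⟩, rfl⟩
  obtain ⟨c, hcS, hc2, hcc⟩ := exists_central hp (fun e => L.z_ne (by rw [e, mem_bot] at hzS; exact hzS))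
  have hca : ∀ p ∈ (S : Subgroup C).map C.subtype, Commute p (L.ψ 192) := by
    rintro - ⟨p, -, rfl⟩; exact mem_centralizer_singleton_iff.1 p.2
  have key : ∀ p, p ∈ (S : Subgroup C).map C.subtype → orderOf p = 2 → Commute p z → p = z := by
    intro p hp h2 hpz
    have hc : commH 192 (L.code hpz) = true :=
      (L.psi_comm (ok_quat (by decide)) (L.code_ok hpz)).1 (by rw [L.psi_code hpz]; exact (hca p hp).symm)
    have hsq : mulH (L.code hpz) (L.code hpz) = 0 := (L.psi_sq (L.code_ok hpz)).1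
      (by rw [L.psi_code hpz]; simpa [h2, pow_two] using pow_orderOf_eq_one p)
    rcases (cent_a_spec (L.code_ok hpz) hc).1 hsq with e | e
    · exfalso
      have := L.psi_code hpz
      rw [e, L.psi_zero] at this
      rw [← this, orderOf_one] at h2
      omega
    · rw [← L.psi_code hpz, e, L.z_eq]
  have hcz := key c hcS hc2 (hcc z hzS)
  refine ZStar.isolated_of_unique_involution S (by rw [← Subgroup.orderOf_coe]; exact L.order_z) fun x hx hx2 => ?_
  refine Subtype.ext (key x ⟨x, hx, rfl⟩ (by rw [Subgroup.orderOf_coe]; exact hx2) ?_)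
  exact hcz ▸ (hcc x ⟨x, hx, rfl⟩).symm

theorem zComm_props :
    (∀ y ∈ L.zComm, Odd (orderOf y) ∧ Commute y (L.ψ 192)) ∧
    (∀ y ∈ L.zComm, Commute y z → y ∈ zpowers (L.ψ 192)) := by
  set C := centralizer ({L.ψ 192} : Set G)
  have hzC : z ∈ C := mem_centralizer_singleton_iff.2 L.z_comm_a
  have hZ := ZStar.zStarHolds C ⟨z, hzC⟩ (L.isolated_a hzC)
  have hle : L.zComm ≤ (oddCore C).map C.subtype := (closure_le _).2 (by
    rintro - ⟨g, hg, rfl⟩
    exact ⟨_, hZ ⟨g, mem_centralizer_singleton_iff.2 hg⟩, rfl⟩)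
  have hodd : ∀ p ∈ oddCore C, Odd (orderOf (p : G)) := fun p hp => by
    rw [Subgroup.orderOf_coe]
    exact Odd.of_dvd_nat ZStar.odd_card_oddCore ((oddCore C).orderOf_dvd_natCard hp)
  have h1 : ∀ y ∈ L.zComm, Odd (orderOf y) ∧ Commute y (L.ψ 192) := fun y hy => by
    obtain ⟨p, hp, rfl⟩ := hle hy
    exact ⟨hodd p hp, mem_centralizer_singleton_iff.1 p.2⟩
  refine ⟨h1, fun y hy hyz => ?_⟩
  obtain ⟨p, hp, rfl⟩ := hle hy
  have hc : commH 192 (L.code hyz) = true := (L.psi_comm (ok_quat (by decide)) (L.code_ok hyz)).1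
    (by rw [L.psi_code hyz]; exact (h1 _ hy).2.symm)
  have h9 : ∀ w : G, Commute w z → Odd (orderOf w) → w ^ 9 = 1 := fun w hw ho => by
    have hd := (centralizer ({z} : Set G)).orderOf_dvd_natCard (mem_centralizer_singleton_iff.2 hw)
    rw [L.card_cent, show (1152 : ℕ) = 2 ^ 7 * 9 by norm_num] at hd
    exact orderOf_dvd_iff_pow_eq_one.1 ((Nat.Coprime.pow_right 7 (Nat.coprime_two_right.2 ho)).dvd_of_dvd_mul_left hd)
  have hh := L.code_ok hyz
  have hmem := (cent_a_spec hh hc).2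
    ((L.psi_nine hh).1 (by rw [L.psi_code hyz]; exact h9 _ hyz (h1 _ hy).1))
    fun q hq => by
      obtain ⟨hqo, hqc, -, -, -⟩ := range_eight hq
      have o1 := (L.conj hh hqo).1
      have o2 := L.ok o1 (L.inv hqo).1
      refine (L.psi_nine o2).1 (h9 _ (L.cent o2) ?_)
      rw [L.mul o1 (L.inv hqo).1, (L.conj hh hqo).2, (L.inv hqo).2, L.psi_code hyz]
      let qC : C := ⟨L.ψ q, mem_centralizer_singleton_iff.2 (L.qSub_comm ⟨q, hq, rfl⟩)⟩
      have hmem : p * (qC * p⁻¹ * qC⁻¹) ∈ oddCore C :=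
        mul_mem hp (Subgroup.Normal.conj_mem inferInstance _ (inv_mem hp) qC)
      have := hodd _ hmem
      simpa [mul_assoc] using this
  rw [← L.psi_code hyz]
  simp only [List.mem_cons, List.not_mem_nil, or_false] at hmem
  rcases hmem with e | e | e <;> rw [e]
  · rw [L.psi_zero]; exact one_mem _
  · exact mem_zpowers _
  · rw [← L.mul_eq (ok_quat (by decide)) (ok_quat (by decide))
      (show mulH 192 192 = 384 by with_unfolding_all decide)]
    exact mul_mem (mem_zpowers _) (mem_zpowers _)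

/-- The centre modulo which the commutators are computed. -/
abbrev aSub : Subgroup L.zComm := (zpowers (L.ψ 192)).subgroupOf L.zComm

theorem aSub_normal : L.aSub.Normal := ⟨fun n hn g => by
  have hc : Commute (g : G) (n : G) := by
    obtain ⟨k, hk⟩ := mem_subgroupOf.1 hn
    exact hk ▸ ((L.zComm_props).1 g g.2).2.zpow_right k
  rw [show g * n * g⁻¹ = n from Subtype.ext (by simp [hc.eq])]
  exact hn⟩

instance : L.aSub.Normal := L.aSub_normal

/-- An element normalising `⟨a⟩` and commuting with `z`. -/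
def Nrm (c : G) : Prop := Commute c z ∧ (c * L.ψ 192 * c⁻¹ = L.ψ 192 ∨ c * L.ψ 192 * c⁻¹ = (L.ψ 192)⁻¹)

theorem Nrm.comm {L : Loc z} {c : G} (hc : L.Nrm c) {g : G} (hg : Commute g (L.ψ 192)) :
    Commute (c * g * c⁻¹) (L.ψ 192) := by
  have h := (Commute.conj_iff c).2 hg
  rcases hc.2 with e | e <;> rw [e] at h
  · exact h
  · simpa using h.inv_right

theorem Nrm.zComm {L : Loc z} {c : G} (hc : L.Nrm c) {y : G} (hy : y ∈ L.zComm) : c * y * c⁻¹ ∈ L.zComm := by
  have : L.zComm.map (MulAut.conj c).toMonoidHom ≤ L.zComm := by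
    rw [Loc.zComm, MonoidHom.map_closure, closure_le]
    rintro - ⟨-, ⟨g, hg, rfl⟩, rfl⟩
    refine subset_closure ⟨c * g * c⁻¹, hc.comm hg, ?_⟩
    change _ = c * (z * g * z⁻¹ * g⁻¹) * c⁻¹
    rw [show c * (z * g * z⁻¹ * g⁻¹) * c⁻¹ = (c * z) * g * (c * z)⁻¹ * (c * g⁻¹ * c⁻¹) by group, hc.1.eq]
    group
  exact this ⟨y, hy, rfl⟩

theorem Nrm.mul {L : Loc z} {c e : G} (hc : L.Nrm c) (he : L.Nrm e) : L.Nrm (c * e) := by
  refine ⟨hc.1.mul_left he.1, ?_⟩
  rw [show c * e * L.ψ 192 * (c * e)⁻¹ = c * (e * L.ψ 192 * e⁻¹) * c⁻¹ by group]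
  rcases he.2 with e1 | e1 <;> rw [e1]
  · exact hc.2
  · rw [← conj_inv]
    rcases hc.2 with e2 | e2 <;> rw [e2]
    · exact Or.inr rfl
    · exact Or.inl (inv_inv _)

/-- Conjugation on the quotient. -/
noncomputable def act (c : G) (hc : L.Nrm c) : L.zComm ⧸ L.aSub →* L.zComm ⧸ L.aSub :=
  QuotientGroup.map L.aSub L.aSub
    { toFun := fun y => ⟨c * y * c⁻¹, hc.zComm y.2⟩
      map_one' := Subtype.ext (by simp)
      map_mul' := fun x y => Subtype.ext (by simp [mul_assoc]) }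
    (fun y hy => by
      obtain ⟨k, hk⟩ := mem_subgroupOf.1 hy
      refine mem_comap.2 (mem_subgroupOf.2 ?_)
      change c * (y : G) * c⁻¹ ∈ zpowers (L.ψ 192)
      simp only at hk
      rw [← hk, ← conj_zpow]
      rcases hc.2 with e | e <;> rw [e]
      · exact zpow_mem (mem_zpowers _) k
      · exact zpow_mem (inv_mem (mem_zpowers _)) k)

theorem act_mk (c : G) (hc : L.Nrm c) (y : L.zComm) :
    L.act c hc (QuotientGroup.mk y) = QuotientGroup.mk ⟨c * y * c⁻¹, hc.zComm y.2⟩ := rfl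

theorem act_act {c e : G} (hc : L.Nrm c) (he : L.Nrm e) (w : L.zComm ⧸ L.aSub) :
    L.act c hc (L.act e he w) = L.act (c * e) (hc.mul he) w := by
  induction w using QuotientGroup.induction_on with
  | H y =>
    rw [act_mk, act_mk, act_mk]
    exact congrArg _ (Subtype.ext (by simp [mul_assoc]))

theorem act_congr {c e : G} (hc : L.Nrm c) (he : L.Nrm e) (h : c = e) (w : L.zComm ⧸ L.aSub) :
    L.act c hc w = L.act e he w := by subst h; rfl

theorem nrm_z : L.Nrm z := ⟨Commute.refl z, Or.inl (by rw [L.z_comm_a.eq, mul_inv_cancel_right])⟩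

theorem act_z (w : L.zComm ⧸ L.aSub) : L.act z L.nrm_z w = w⁻¹ := by
  induction w using QuotientGroup.induction_on with
  | H y =>
    obtain ⟨r, hr, c, hc, e, hri, hcz⟩ := split_odd (fun y hy => (L.zComm_props.1 y hy).1) L.z_sq
      (fun y hy => (L.nrm_z).zComm hy) y.2
    have hca := L.zComm_props.2 c hc hcz
    have hc1 : (QuotientGroup.mk ⟨c, hc⟩ : L.zComm ⧸ L.aSub) = 1 :=
      (QuotientGroup.eq_one_iff _).2 (mem_subgroupOf.2 hca)
    have hy : y = ⟨r, hr⟩ * ⟨c, hc⟩ := Subtype.ext e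
    rw [hy, QuotientGroup.mk_mul, hc1, mul_one, act_mk, ← QuotientGroup.mk_inv]
    exact congrArg _ (Subtype.ext hri)

/-- The quotient is commutative as `z` inverts it. -/
noncomputable instance zQuot : CommGroup (L.zComm ⧸ L.aSub) :=
  { (inferInstance : Group (L.zComm ⧸ L.aSub)) with
    mul_comm := fun x y => by
      have := map_mul (L.act z L.nrm_z) x⁻¹ y⁻¹
      rw [L.act_z, L.act_z, L.act_z, mul_inv_rev, inv_inv, inv_inv] at this
      exact this.symm }

theorem nrm_code {h : ℕ} (hh : h ∈ [1, 2, 3, 4, 5, 6, 7, 8, 1152]) : L.Nrm (L.ψ h) := by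
  have ho : okH h = true := ok_quat (by simp only [List.mem_cons, List.not_mem_nil, or_false] at hh ⊢; omega)
  refine ⟨L.cent ho, ?_⟩
  have o := ok_quat (h := 192) (by decide)
  have k : ([1, 2, 3, 4, 5, 6, 7, 8, 1152].all fun h =>
      Nat.beq (conjH h 192) 192 || Nat.beq (conjH h 192) (invH 192)) = true := by with_unfolding_all decide +kernel
  have k' := List.all_eq_true.1 k h hh
  simp only [Bool.or_eq_true, Nat.beq_eq] at k'
  rw [← (L.inv o).2]
  exact k'.imp (L.conj_eq ho o) (L.conj_eq ho o)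

theorem act_rel {a b c e : ℕ} (ha : a ∈ [1, 2, 3, 4, 5, 6, 7, 8, 1152]) (hb : b ∈ [1, 2, 3, 4, 5, 6, 7, 8, 1152])
    (hc : c ∈ [1, 2, 3, 4, 5, 6, 7, 8, 1152]) (he : e ∈ [1, 2, 3, 4, 5, 6, 7, 8, 1152]) (h : mulH a b = mulH c e)
    (w : L.zComm ⧸ L.aSub) :
    L.act _ (L.nrm_code ha) (L.act _ (L.nrm_code hb) w) = L.act _ (L.nrm_code hc) (L.act _ (L.nrm_code he) w) := by
  have o : ∀ {x : ℕ}, x ∈ [1, 2, 3, 4, 5, 6, 7, 8, 1152] → okH x = true := fun hx =>
    ok_quat (by simp only [List.mem_cons, List.not_mem_nil, or_false] at hx ⊢; omega)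
  rw [L.act_act, L.act_act]
  exact L.act_congr _ _ (by rw [← L.mul (o ha) (o hb), ← L.mul (o hc) (o he), h]) w

theorem act_prod {a b c : ℕ} (ha : a ∈ [1, 2, 3, 4, 5, 6, 7, 8, 1152]) (hb : b ∈ [1, 2, 3, 4, 5, 6, 7, 8, 1152])
    (hc : c ∈ [1, 2, 3, 4, 5, 6, 7, 8, 1152]) (h : mulH a b = c)
    (w : L.zComm ⧸ L.aSub) :
    L.act _ (L.nrm_code ha) (L.act _ (L.nrm_code hb) w) = L.act _ (L.nrm_code hc) w := by
  have o : ∀ {x : ℕ}, x ∈ [1, 2, 3, 4, 5, 6, 7, 8, 1152] → okH x = true := fun hx =>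
    ok_quat (by simp only [List.mem_cons, List.not_mem_nil, or_false] at hx ⊢; omega)
  rw [L.act_act]
  exact L.act_congr _ _ (L.mul_eq (o ha) (o hb) h) w

theorem act_four (w : L.zComm ⧸ L.aSub) : L.act _ (L.nrm_code (h := 4) (by decide)) w = w⁻¹ := by
  rw [← L.act_z]; exact L.act_congr _ _ L.z_eq w

end Loc

namespace Axis

variable {G : Type*} [Group G] [Finite G] {z : G} {L : Loc z} {l : G} (X : Axis L l)
include X

theorem comm_T {t : G} (ht : t ∈ L.tSub) : Commute l t :=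
  (((L.base_vertex (x := 200) (by simp)).mem_Y l).1 X.mem).2 t ht

theorem mem_zComm : l ∈ L.zComm := by
  refine subset_closure ⟨l, X.comm_T (L.psi_mem_tSub (by decide)), ?_⟩
  rw [X.inv_z, ← mul_inv_rev, inv_eq_iff_mul_eq_one]
  simpa [pow_succ, mul_assoc] using X.cube

set_option maxHeartbeats 2000000 in
theorem quotient_relation : ∃ g ∈ zpowers (L.ψ 192),
    L.ψ 2 * l * (L.ψ 2)⁻¹ = l * (L.ψ 1 * l * (L.ψ 1)⁻¹) * g := by
  have hm8 : L.ψ 8 ∈ L.tSub := L.psi_mem_tSub (by decide)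
  set l2 := L.ψ 1152 * l * (L.ψ 1152)⁻¹ with hl2
  set I := L.act _ (L.nrm_code (h := 1) (by decide)) with hI
  set J := L.act _ (L.nrm_code (h := 2) (by decide)) with hJ
  set K := L.act _ (L.nrm_code (h := 3) (by decide)) with hK
  set M := L.act _ (L.nrm_code (h := 1152) (by decide)) with hM
  set F := L.act _ (L.nrm_code (h := 8) (by decide)) with hF
  let u : L.zComm ⧸ L.aSub := QuotientGroup.mk ⟨l, X.mem_zComm⟩
  have hl2m : l2 ∈ L.zComm := (L.nrm_code (h := 1152) (by decide)).zComm X.mem_zComm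
  let u2 : L.zComm ⧸ L.aSub := QuotientGroup.mk ⟨l2, hl2m⟩
  have mk_one : ∀ {y : L.zComm}, (QuotientGroup.mk y : L.zComm ⧸ L.aSub) = 1 ↔ (y : G) ∈ zpowers (L.ψ 192) :=
    fun {y} => (QuotientGroup.eq_one_iff y).trans mem_subgroupOf
  have hu3 : u ^ 3 = 1 := by
    change (QuotientGroup.mk (⟨l, X.mem_zComm⟩ ^ 3) : L.zComm ⧸ L.aSub) = 1
    rw [mk_one]; simp [X.cube]
  have hu1 : u ≠ 1 := fun e => by
    obtain ⟨k, hk⟩ := mk_one.1 e
    refine X.ne ?_
    have hz := L.z_comm_a.symm.zpow_left k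
    simp only at hk
    rw [hk] at hz
    simpa using X.eq_one_of_comm (k := 1) (by simpa using hz)
  have hF8 : F u = u := by
    change (QuotientGroup.mk _ : L.zComm ⧸ L.aSub) = QuotientGroup.mk _
    refine congrArg _ (Subtype.ext ?_)
    change L.ψ 8 * l * (L.ψ 8)⁻¹ = l
    rw [← (X.comm_T hm8).eq, mul_inv_cancel_right]
  have e81 : ∀ w, F (I w) = J (F w) := L.act_rel (by decide) (by decide) (by decide) (by decide) (by with_unfolding_all decide +kernel)
  have e82 : ∀ w, F (J w) = K (F w) := L.act_rel (by decide) (by decide) (by decide) (by decide) (by with_unfolding_all decide +kernel)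
  have e83 : ∀ w, F (K w) = I (F w) := L.act_rel (by decide) (by decide) (by decide) (by decide) (by with_unfolding_all decide +kernel)
  have hfix : ∃ a b : ℕ, I u * J u * K u = u ^ a * u2 ^ b := by
    have hv : F (I u * J u * K u) = I u * J u * K u := by
      rw [map_mul, map_mul, e81, e82, e83, hF8]
      rw [mul_comm (J u * K u) (I u), mul_assoc]
    obtain ⟨y, hy⟩ := QuotientGroup.mk_surjective (I u * J u * K u)
    rw [← hy] at hv ⊢
    obtain ⟨r, hr, c, hc, e, hri, hcz⟩ := split_odd (fun y hy => (L.zComm_props.1 y hy).1) L.z_sq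
      (fun y hy => (L.nrm_z).zComm hy) y.2
    have hyr : (QuotientGroup.mk y : L.zComm ⧸ L.aSub) = QuotientGroup.mk ⟨r, hr⟩ := by
      rw [show y = ⟨r, hr⟩ * ⟨c, hc⟩ from Subtype.ext e, QuotientGroup.mk_mul,
        (mk_one (y := ⟨c, hc⟩)).2 (L.zComm_props.2 c hc hcz), mul_one]
    rw [hyr] at hv ⊢
    have hv' := QuotientGroup.eq.1 hv
    have hg : (L.ψ 8 * r * (L.ψ 8)⁻¹)⁻¹ * r ∈ zpowers (L.ψ 192) := mem_subgroupOf.1 hv'
    set g := (L.ψ 8 * r * (L.ψ 8)⁻¹)⁻¹ * r with hgdef
    have hgz : Commute g z := by obtain ⟨k, hk⟩ := hg; exact hk ▸ L.z_comm_a.symm.zpow_left k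
    have hgr : Commute g r := by
      obtain ⟨k, hk⟩ := hg; exact hk ▸ ((L.zComm_props.1 r hr).2.symm.zpow_left k)
    have h8r : L.ψ 8 * r * (L.ψ 8)⁻¹ = r * g⁻¹ := by rw [hgdef]; group
    have hz8 : Commute z (L.ψ 8) := (L.cent (Loc.ok_quat (by decide))).symm
    have h8r' : L.ψ 8 * r⁻¹ * (L.ψ 8)⁻¹ = r⁻¹ * g⁻¹ := by
      calc L.ψ 8 * r⁻¹ * (L.ψ 8)⁻¹ = L.ψ 8 * (z * r * z⁻¹) * (L.ψ 8)⁻¹ := by rw [hri]
        _ = z * (L.ψ 8 * r * (L.ψ 8)⁻¹) * z⁻¹ := by
            rw [show L.ψ 8 * (z * r * z⁻¹) * (L.ψ 8)⁻¹ = L.ψ 8 * z * r * (L.ψ 8 * z)⁻¹ by group, ← hz8.eq]; group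
        _ = r⁻¹ * g⁻¹ := by
            rw [h8r, show z * (r * g⁻¹) * z⁻¹ = z * r * z⁻¹ * (z * g⁻¹ * z⁻¹) by group, hri,
              ← hgz.inv_left.eq, mul_inv_cancel_right]
    have hg1 : g = 1 := by
      have h : (L.ψ 8 * r * (L.ψ 8)⁻¹)⁻¹ = L.ψ 8 * r⁻¹ * (L.ψ 8)⁻¹ := by group
      rw [h8r, h8r', mul_inv_rev, inv_inv, (hgr.inv_right).eq, mul_right_inj] at h
      refine orderOf_eq_one_iff.1 (Nat.eq_one_of_dvd_coprimes (by norm_num : Nat.Coprime 2 3)
        (orderOf_dvd_of_pow_eq_one (by rw [pow_two]; exact eq_inv_iff_mul_eq_one.1 h)) ?_)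
      obtain ⟨k, hk⟩ := hg
      refine orderOf_dvd_of_pow_eq_one ?_
      rw [← hk]
      change (L.ψ 192 ^ k) ^ 3 = 1
      rw [← zpow_natCast, ← zpow_mul, mul_comm, zpow_mul, zpow_natCast,
        (L.tCodes_facts (by decide)).1, one_zpow]
    rw [hg1, inv_one, mul_one] at h8r
    have hr8 : Commute r (L.ψ 8) := (mul_inv_eq_iff_eq_mul.1 h8r).symm
    have hrY : r ∈ L.ySub := by
      refine ((L.base_vertex (x := 200) (by simp)).mem_Y r).2 ⟨(L.zComm_props.1 r hr).1, ?_⟩
      rintro t ⟨h, hh, rfl⟩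
      have k := List.all_eq_true.1 (show (tCodes.all fun h => [0, 192, 384].any fun a => [0, 8, 16].any fun b =>
        Nat.beq (mulH a b) h) = true by with_unfolding_all decide +kernel) h hh
      simp only [List.any_eq_true, Nat.beq_eq] at k
      obtain ⟨a, ha, b, hb, rfl⟩ := k
      simp only [List.mem_cons, List.not_mem_nil, or_false] at ha hb
      have o : ∀ {w : ℕ}, w ∈ [0, 192, 384, 8, 16] → w ∈ tCodes := by decide
      have ha' : a ∈ tCodes := o (by simp only [List.mem_cons]; omega)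
      have hb' : b ∈ tCodes := o (by simp only [List.mem_cons]; omega)
      rw [L.mul (Loc.tCodes_ok ha') (Loc.tCodes_ok hb')]
      have hra := (L.zComm_props.1 r hr).2
      refine Commute.mul_right ?_ ?_
      · rcases ha with rfl | rfl | rfl
        · rw [L.psi_zero]; exact Commute.one_right r
        · exact hra
        · rw [← L.mul_eq (Loc.tCodes_ok (h := 192) (by decide)) (Loc.tCodes_ok (h := 192) (by decide))
            (show mulH 192 192 = 384 by with_unfolding_all decide)]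
          exact hra.mul_right hra
      · rcases hb with rfl | rfl | rfl
        · rw [L.psi_zero]; exact Commute.one_right r
        · exact hr8
        · rw [← L.mul_eq (Loc.tCodes_ok (h := 8) (by decide)) (Loc.tCodes_ok (h := 8) (by decide))
            (show mulH 8 8 = 16 by with_unfolding_all decide)]
          exact hr8.mul_right hr8
    obtain ⟨k, n, -, -, hk⟩ := X.inverted hrY hri
    exact ⟨k, n, congrArg QuotientGroup.mk (Subtype.ext (a1 := (⟨r, hr⟩ : L.zComm))
      (a2 := ⟨l, X.mem_zComm⟩ ^ k * ⟨l2, hl2m⟩ ^ n) (by simp only [Subgroup.coe_mul, SubmonoidClass.coe_pow]; exact hk))⟩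
  have ep := fun {a b c : ℕ} ha hb hc h => L.act_prod (a := a) (b := b) (c := c) ha hb hc h
  have ei : ∀ {a : ℕ} (ha) (w : L.zComm ⧸ L.aSub), L.act _ (L.nrm_code (h := a) ha) w⁻¹ = (L.act _ (L.nrm_code ha) w)⁻¹ :=
    fun ha w => map_inv _ w
  have hneg : ∀ {a b c : ℕ} (ha) (hb) (hc) (_ : mulH a b = mulH c 4) (w : L.zComm ⧸ L.aSub),
      L.act _ (L.nrm_code (h := a) ha) (L.act _ (L.nrm_code (h := b) hb) w) = (L.act _ (L.nrm_code (h := c) hc) w)⁻¹ :=
    fun ha hb hc h w => by rw [L.act_rel ha hb hc (by decide) h, L.act_four, map_inv]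
  have hMneg : ∀ {a b : ℕ} (ha) (hb) (_ : mulH 1152 a = mulH (mulH b 4) 1152) (w : L.zComm ⧸ L.aSub),
      M (L.act _ (L.nrm_code (h := a) ha) w) = (L.act _ (L.nrm_code (h := b) hb) (M w))⁻¹ := by
    intro a b ha hb h w
    have o : ∀ {x : ℕ}, x ∈ [1, 2, 3, 4, 5, 6, 7, 8, 1152] → okH x = true := fun hx =>
      Loc.ok_quat (by simp only [List.mem_cons, List.not_mem_nil, or_false] at hx ⊢; omega)
    rw [← map_inv, ← L.act_four, hM, L.act_act, L.act_act, L.act_act]
    refine L.act_congr _ _ ?_ w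
    rw [← L.mul (o (by decide)) (o ha), h, L.mul (L.ok (o hb) (o (by decide))) (o (by decide)),
      L.mul (o hb) (o (by decide)), mul_assoc]
  have hq : ∀ {a b : ℕ}, Nat.beq a b = true → a = b := fun h => Nat.eq_of_beq_eq_true h
  have main := quat_fixed I J K M
    (fun w => (ep (a := 1) (b := 1) (c := 4) (by decide) (by decide) (by decide) (hq (by with_unfolding_all decide +kernel)) w).trans (L.act_four w))
    (fun w => (ep (a := 2) (b := 2) (c := 4) (by decide) (by decide) (by decide) (hq (by with_unfolding_all decide +kernel)) w).trans (L.act_four w))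
    (fun w => (ep (a := 3) (b := 3) (c := 4) (by decide) (by decide) (by decide) (hq (by with_unfolding_all decide +kernel)) w).trans (L.act_four w))
    (ep (a := 1) (b := 2) (c := 3) (by decide) (by decide) (by decide) (hq (by with_unfolding_all decide +kernel)))
    (hneg (a := 2) (b := 1) (c := 3) (by decide) (by decide) (by decide) (hq (by with_unfolding_all decide +kernel)))
    (ep (a := 2) (b := 3) (c := 1) (by decide) (by decide) (by decide) (hq (by with_unfolding_all decide +kernel)))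
    (hneg (a := 3) (b := 2) (c := 1) (by decide) (by decide) (by decide) (hq (by with_unfolding_all decide +kernel)))
    (ep (a := 3) (b := 1) (c := 2) (by decide) (by decide) (by decide) (hq (by with_unfolding_all decide +kernel)))
    (hneg (a := 1) (b := 3) (c := 2) (by decide) (by decide) (by decide) (hq (by with_unfolding_all decide +kernel)))
    (hMneg (a := 1) (b := 1) (by decide) (by decide) (hq (by with_unfolding_all decide +kernel)))
    (hMneg (a := 2) (b := 3) (by decide) (by decide) (hq (by with_unfolding_all decide +kernel)))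
    (hMneg (a := 3) (b := 2) (by decide) (by decide) (hq (by with_unfolding_all decide +kernel)))
    (l := u) (l2 := u2) hu3 hu1 rfl (congrArg QuotientGroup.mk (Subtype.ext X.two_m)) hfix
  have h := QuotientGroup.eq.1 (Eq.symm main)
  refine ⟨(l * (L.ψ 1 * l * (L.ψ 1)⁻¹))⁻¹ * (L.ψ 2 * l * (L.ψ 2)⁻¹), mem_subgroupOf.1 h, by group⟩

end Axis

end Cfsg.Lib.UFourThreeLocal
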