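import Cfsg.Agent.Lib.UFourThreeLocal.Model

/-!
# The facts about the model of the centraliser that are decided by computation
-/

set_option autoImplicit false
set_option maxRecDepth 100000

namespace Cfsg.Lib.UFourThreeLocal

/-- The squares of squares. -/
def pow16 (h : ℕ) : ℕ :=
  let a := mulH h h
  let b := mulH a a
  let c := mulH b b
  mulH c c

/-- The cube of a code. -/
def pow3 (h : ℕ) : ℕ := mulH (mulH h h) h

/-- The ninth power of a code. -/
def pow9 (h : ℕ) : ℕ := pow3 (pow3 h)

/-- The commutation of two codes. -/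
def commH (h g : ℕ) : Bool := Nat.beq (mulH h g) (mulH g h)

/-- The codes of a Sylow two-subgroup. -/
def sylS (h : ℕ) : Bool := okH h && Nat.blt (h % 576 / 24) 8 && Nat.blt (h % 576 % 24) 8

/-- The codes of the Sylow two-subgroup as a list. -/
def eltsS : List ℕ := elts.filter sylS

/-- The codes of the Sylow three-subgroup. -/
def tCodes : List ℕ := [0, 8, 16, 192, 200, 208, 384, 392, 400]

/-- The codes of the elementary abelian group of order sixteen. -/
def eCodes : List ℕ := [0, 4, 25, 29, 50, 54, 75, 79, 576, 580, 601, 605, 626, 630, 651, 655]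

theorem sylS_closed : (eltsS.all fun h => sylS (invH h) && Nat.beq (pow16 h) 0 &&
    eltsS.all fun g => sylS (mulH h g)) = true := by decide +kernel

theorem sylS_centre : (elts.all fun h => !Nat.beq (mulH h h) 0 || Nat.beq h 0 || Nat.beq h 4 ||
    !eltsS.all (commH h)) = true := by decide +kernel

/-- The noncentral involutions. -/
def invCodes : List ℕ :=
  [25, 26, 27, 29, 30, 31, 49, 50, 51, 53, 54, 55, 73, 74, 75, 77, 78, 79, 576, 580, 601, 605,
  626, 630, 651, 655, 784, 788, 811, 815, 833, 837, 858, 862, 968, 972, 994, 998, 1019, 1023,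
  1041, 1045, 1728, 1732, 1753, 1757, 1779, 1783, 1802, 1806, 1928, 1932, 1954, 1958, 1977, 1981,
  2003, 2007, 2128, 2132, 2155, 2159, 2178, 2182, 2201, 2205]

/-- The elements of order three. -/
def threeCodes : List ℕ :=
  [8, 13, 14, 15, 16, 17, 18, 19, 192, 200, 205, 206, 207, 208, 209, 210, 211, 220, 225, 226, 227,
  228, 236, 237, 238, 239, 244, 249, 250, 251, 252, 260, 261, 262, 263, 268, 273, 274, 275, 276,
  284, 285, 286, 287, 384, 392, 397, 398, 399, 400, 401, 402, 403, 408, 416, 421, 422, 423, 424,
  425, 426, 427, 432, 440, 445, 446, 447, 448, 449, 450, 451, 456, 464, 469, 470, 471, 472, 473,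
  474, 475]

/-- Conjugators of the diagonal elements of order three. -/
def diagMovers : List ℕ :=
  [0, 1, 2, 3, 25, 26, 27, 50, 51, 75, 577, 578, 579, 602, 603, 627, 1152, 1153, 1154, 1155, 1177,
  1178, 1179, 1202, 1226, 1227, 1729, 1730, 1731, 1754, 1755, 1802]

theorem diag_lists : (elts.all fun h =>
    (!Nat.beq (mulH h h) 0 || Nat.beq h 0 || Nat.beq h 4 || invCodes.elem h) &&
      (!Nat.beq (pow3 h) 0 || Nat.beq h 0 || threeCodes.elem h)) = true := by decide +kernel

theorem diag_movers : ((diagMovers.all fun y => okH y) && threeCodes.all fun x =>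
    !(invCodes.any fun h => commH h x) ||
      diagMovers.any fun y => Nat.beq (conjH y x) 200 || Nat.beq (conjH y x) 208) = true := by decide +kernel

attribute [local irreducible] elts mulH conjH okH pow3 commH invCodes threeCodes diagMovers in
theorem diag_class : (elts.all fun h => !Nat.beq (mulH h h) 0 || Nat.beq h 0 || Nat.beq h 4 ||
    elts.all fun x => !(commH h x && Nat.beq (pow3 x) 0) || Nat.beq x 0 ||
      elts.any fun y => Nat.beq (conjH y x) 200 || Nat.beq (conjH y x) 208) = true := by
  simp only [List.all_eq_true, Bool.or_eq_true, Bool.not_eq_true', ← Bool.not_eq_true, Bool.and_eq_true,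
    Nat.beq_eq, List.any_eq_true]
  intro h hh
  by_cases h0 : mulH h h = 0 ∧ h ≠ 0 ∧ h ≠ 4
  · refine Or.inr fun x hx => ?_
    by_cases x0 : (commH h x = true ∧ pow3 x = 0) ∧ x ≠ 0
    · right
      have k1 := List.all_eq_true.1 diag_lists h hh
      have k2 := List.all_eq_true.1 diag_lists x hx
      have k3 := diag_movers
      simp only [Bool.or_eq_true, Bool.and_eq_true, Bool.not_eq_true', ← Bool.not_eq_true, Nat.beq_eq,
        List.elem_eq_mem, decide_eq_true_eq, List.all_eq_true, List.any_eq_true] at k1 k2 k3
      obtain ⟨hm, k3⟩ := k3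
      have hI : h ∈ invCodes := by tauto
      have hT : x ∈ threeCodes := by tauto
      rcases k3 x hT with k | ⟨y, hy, e⟩
      · exact absurd ⟨h, hI, x0.1.1⟩ k
      · exact ⟨y, mem_elts.2 (hm y hy), e⟩
    · tauto
  · tauto

theorem diag_cent : ([200, 208].all fun x => Nat.beq (elts.filter (commH x)).length 36 &&
    (tCodes.all fun t => commH x t && Nat.beq (pow3 t) 0) &&
    elts.all fun h => !commH x h || ((!Nat.beq (pow9 h) 0 || tCodes.elem h) &&
      (!Nat.beq (pow3 h) 0 || tCodes.elem h))) = true := by decide +kernel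

theorem tCodes_group : (tCodes.all fun h => okH h && tCodes.elem (invH h) && Nat.beq (pow3 h) 0 &&
    tCodes.all fun g => tCodes.elem (mulH h g) && commH h g) = true := by decide +kernel

theorem four_group : (elts.all fun h => !(commH 200 h && commH 576 h && Nat.beq (mulH h h) 0) ||
    Nat.beq h 0 || Nat.beq h 4 || Nat.beq h 576 || Nat.beq h 580) = true := by decide +kernel

theorem cent_tCodes : (elts.all fun h => !(commH 192 h && commH 8 h) ||
    ((!Nat.beq (mulH h h) 0 || Nat.beq h 0 || Nat.beq h 4) &&
      (tCodes.elem h || tCodes.elem (mulH h 4)) && (!Nat.beq (pow9 h) 0 || tCodes.elem h))) = true := by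
  decide +kernel

theorem meet_codes : (elts.all fun h => !(commH 200 h && commH 576 h && Nat.beq (pow3 h) 0) ||
    [0, 200, 400].elem h) = true := by decide +kernel

theorem norm_four : (elts.all fun h => !commH 200 h || !Nat.beq (conjH h 576) 580) = true := by decide +kernel

theorem diag_fusion : (elts.all fun y => !tCodes.elem (conjH y 200) || Nat.beq (conjH y 200) 200 ||
    Nat.beq (conjH y 200) 400) = true := by decide +kernel

theorem fCodes : (elts.all fun h => !(commH 576 h && Nat.beq (mulH h h) 0 &&
    Nat.beq (mulH (mulH h (conjH 200 h)) (conjH 400 h)) 0) || [0, 25, 50, 75].elem h) = true := by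
  decide +kernel

theorem fCodes_facts : ([25, 50, 75].all fun h => okH h && commH 576 h && Nat.beq (mulH h h) 0 &&
    Nat.beq (mulH (mulH h (conjH 200 h)) (conjH 400 h)) 0 &&
    (Nat.beq h 25 || Nat.beq (conjH 200 25) h || Nat.beq (conjH 400 25) h)) = true := by decide +kernel

theorem eCodes_group : (eCodes.all fun h => okH h && commH 200 h == [0, 4, 576, 580].elem h &&
    eCodes.elem (invH h) && eCodes.elem (conjH 24 h) && eCodes.elem (conjH 50 h) &&
    eCodes.elem (conjH 48 h) && eCodes.all fun g => eCodes.elem (mulH h g)) = true := by decide +kernel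

theorem eCodes_norm : (elts.all fun h => !Nat.beq (pow3 h) 0 || Nat.beq h 0 ||
    !eCodes.elem (conjH h 576) || elts.any fun y => Nat.beq (conjH y h) 200) = true := by decide +kernel

theorem cent_a : (elts.all fun h => !commH 192 h ||
    ((!Nat.beq (mulH h h) 0 || Nat.beq h 0 || Nat.beq h 4) &&
      (!(Nat.beq (pow9 h) 0 && (List.range 8).all fun q =>
          Nat.beq (pow9 (mulH (conjH h q) (invH q))) 0) || [0, 192, 384].elem h))) = true := by
  decide +kernel

theorem quat_group : ((List.range 8).all fun h => okH h && commH 192 h && Nat.blt (invH h) 8 &&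
    Nat.beq (pow16 h) 0 && (List.range 8).all fun g => Nat.blt (mulH h g) 8) = true := by decide +kernel

theorem norm_tCodes : (elts.all fun h => !(Nat.beq (conjH h 192) 16 && Nat.beq (conjH h 8) 384) ||
    tCodes.any fun t => Nat.beq h (mulH (mulH 576 1152) t) ||
      Nat.beq h (mulH (mulH (mulH 576 1152) 4) t)) = true := by decide +kernel

/-- The products of two lists of codes. -/
def prodH (L M : List ℕ) : List ℕ := L.flatMap fun a => M.map (mulH a)

/-- The first component as products. -/
def genP : List ℕ :=
  prodH (prodH [0, 24, mulH 24 24, mulH (mulH 24 24) 24] [0, conjH 192 24]) [0, 192, 384]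

theorem gen_parts : (((List.range 24).all fun p => !Nat.blt (p % 8) 4 || genP.elem (24 * p)) &&
    ((List.range 24).all fun q => (genP.map (conjH 576)).elem q) &&
    ([0, 576, 1152, 1728].all fun t => (prodH [0, 576, 1152, mulH 576 1152] [0, 4]).elem t)) = true := by
  decide +kernel

theorem gen_check : (elts.all fun h => Nat.beq
    (mulH (mulH (24 * (h % 576 / 24)) (h % 576 % 24)) (576 * (h / 576))) h) = true := by decide +kernel

end Cfsg.Lib.UFourThreeLocal
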