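import Cfsg.Agent.Lib.UFourThreeLocal.Loc
import Cfsg.Agent.Lib.UFourThreeLocal.Checks
import Cfsg.Agent.Lib.Invol.Basic

/-!
# Working with the coordinates of a centraliser
-/

set_option autoImplicit false
set_option maxRecDepth 10000

namespace Cfsg.Lib.UFourThreeLocal

open Subgroup

attribute [local irreducible] elts mulH conjH invH okH pow16 pow3 pow9 commH eltsS sylS

namespace Loc

variable {G : Type*} [Group G] {z : G} (L : Loc z)

theorem psi_eq_one {h : ℕ} (hh : okH h = true) : L.ψ h = 1 ↔ h = 0 :=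
  ⟨fun e => L.inj hh (by with_unfolding_all decide) (by rw [e, L.psi_zero]), fun e => by rw [e, L.psi_zero]⟩

theorem psi_comm {h g : ℕ} (hh : okH h = true) (hg : okH g = true) :
    Commute (L.ψ h) (L.ψ g) ↔ commH h g = true := by
  simp only [commH, Nat.beq_eq]
  refine ⟨fun e => L.inj (L.ok hh hg) (L.ok hg hh) ?_, fun e => ?_⟩
  · rw [L.mul hh hg, L.mul hg hh, e.eq]
  · rw [Commute, SemiconjBy, ← L.mul hh hg, ← L.mul hg hh, e]

theorem psi_sq {h : ℕ} (hh : okH h = true) : L.ψ h * L.ψ h = 1 ↔ mulH h h = 0 := by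
  rw [← L.mul hh hh, L.psi_eq_one (L.ok hh hh)]

theorem psi_pow3 {h : ℕ} (hh : okH h = true) : okH (pow3 h) = true ∧ L.ψ (pow3 h) = L.ψ h ^ 3 := by
  have h2 := L.ok hh hh
  exact ⟨by unfold pow3; exact L.ok h2 hh,
    by unfold pow3; rw [L.mul h2 hh, L.mul hh hh, pow_succ, pow_two]⟩

theorem psi_cube {h : ℕ} (hh : okH h = true) : L.ψ h ^ 3 = 1 ↔ pow3 h = 0 := by
  rw [← (L.psi_pow3 hh).2, L.psi_eq_one (L.psi_pow3 hh).1]

theorem psi_nine {h : ℕ} (hh : okH h = true) : L.ψ h ^ 9 = 1 ↔ pow9 h = 0 := by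
  unfold pow9
  rw [← L.psi_cube (L.psi_pow3 hh).1, (L.psi_pow3 hh).2, ← pow_mul]

theorem psi_sixteen {h : ℕ} (hh : okH h = true) : L.ψ h ^ 16 = 1 ↔ pow16 h = 0 := by
  have h2 := L.ok hh hh
  have h4 := L.ok h2 h2
  have h8 := L.ok h4 h4
  unfold pow16
  rw [← L.psi_eq_one (L.ok h8 h8), L.mul h8 h8, L.mul h4 h4, L.mul h2 h2, L.mul hh hh]
  simp only [← pow_two, ← pow_mul]
  norm_num

/-- The code of an element of the centraliser. -/
noncomputable def code {c : G} (hc : Commute c z) : ℕ := (L.surj hc).choose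

theorem code_ok {c : G} (hc : Commute c z) : okH (L.code hc) = true := (L.surj hc).choose_spec.1

theorem psi_code {c : G} (hc : Commute c z) : L.ψ (L.code hc) = c := (L.surj hc).choose_spec.2

/-- The subgroup with a closed list of codes. -/
def listSub (l : List ℕ) (hok : ∀ h ∈ l, okH h = true) (h0 : 0 ∈ l) (hm : ∀ h ∈ l, ∀ g ∈ l, mulH h g ∈ l)
    (hi : ∀ h ∈ l, invH h ∈ l) : Subgroup G where
  carrier := {g | ∃ h ∈ l, L.ψ h = g}
  mul_mem' := by
    rintro - - ⟨h, hh, rfl⟩ ⟨g, hg, rfl⟩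
    exact ⟨_, hm h hh g hg, L.mul (hok h hh) (hok g hg)⟩
  one_mem' := ⟨0, h0, L.psi_zero⟩
  inv_mem' := by
    rintro - ⟨h, hh, rfl⟩
    exact ⟨_, hi h hh, (L.inv (hok h hh)).2⟩

theorem card_codes (K : Subgroup G) (l : List ℕ) (hl : l.Nodup) (hok : ∀ h ∈ l, okH h = true)
    (hK : ∀ g, g ∈ K ↔ ∃ h ∈ l, L.ψ h = g) : Nat.card K = l.length := by
  let f : Fin l.length → K := fun n => ⟨L.ψ l[n], (hK _).2 ⟨_, l.getElem_mem n.2, rfl⟩⟩
  have hb : Function.Bijective f := by
    refine ⟨fun a b e => ?_, fun g => ?_⟩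
    · exact Fin.ext (hl.getElem_inj_iff.1
        (L.inj (hok _ (l.getElem_mem a.2)) (hok _ (l.getElem_mem b.2)) (congrArg Subtype.val e)))
    · obtain ⟨h, hh, e⟩ := (hK _).1 g.2
      obtain ⟨n, hn, rfl⟩ := List.mem_iff_getElem.1 hh
      exact ⟨⟨n, hn⟩, Subtype.ext e⟩
  rw [← Nat.card_eq_of_bijective f hb, Nat.card_fin]

theorem nodup_elts : elts.Nodup := by with_unfolding_all exact List.Nodup.filter _ List.nodup_range

include L in
theorem card_cent : Nat.card (centralizer ({z} : Set G)) = 1152 := by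
  rw [L.card_codes _ elts nodup_elts (fun h hh => mem_elts.1 hh) fun g => ?_, length_elts]
  rw [mem_centralizer_singleton_iff]
  exact ⟨fun e => ⟨_, mem_elts.2 (L.code_ok e), L.psi_code e⟩,
    fun ⟨h, hh, e⟩ => e ▸ (L.cent (mem_elts.1 hh))⟩

theorem z_sq (L : Loc z) : z * z = 1 := by
  rw [← L.z_eq, L.psi_sq (by with_unfolding_all decide)]
  with_unfolding_all decide

theorem order_z (L : Loc z) : orderOf z = 2 := orderOf_eq_prime (by rw [pow_two, L.z_sq]) L.z_ne

theorem sylS_mem {h : ℕ} (hh : h ∈ eltsS) : okH h = true := by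
  unfold eltsS at hh
  exact mem_elts.1 (List.mem_filter.1 hh).1

/-- A Sylow two-subgroup of the centraliser. -/
def sylTwo : Subgroup G :=
  L.listSub eltsS (fun _ h => sylS_mem h) (by with_unfolding_all decide +kernel)
    (fun h hh g hg => by
      have k := List.all_eq_true.1 sylS_closed h hh
      simp only [Bool.and_eq_true, Nat.beq_eq, List.all_eq_true] at k
      unfold eltsS
      exact List.mem_filter.2 ⟨mem_elts.2 (L.ok (sylS_mem hh) (sylS_mem hg)), k.2 g hg⟩)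
    (fun h hh => by
      have k := List.all_eq_true.1 sylS_closed h hh
      simp only [Bool.and_eq_true, Nat.beq_eq] at k
      unfold eltsS
      exact List.mem_filter.2 ⟨mem_elts.2 (L.inv (sylS_mem hh)).1, k.1.1⟩)

theorem sylTwo_pGroup : IsPGroup 2 L.sylTwo := by
  rintro ⟨-, h, hh, rfl⟩
  have k := List.all_eq_true.1 sylS_closed h hh
  simp only [Bool.and_eq_true, Nat.beq_eq] at k
  exact ⟨4, Subtype.ext ((L.psi_sixteen (sylS_mem hh)).2 k.1.2)⟩

theorem exists_central {P : Subgroup G} [Finite G] (hP : IsPGroup 2 P) (hne : P ≠ ⊥) :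
    ∃ c ∈ P, orderOf c = 2 ∧ ∀ p ∈ P, Commute c p := by
  have : Fact (Nat.Prime 2) := ⟨Nat.prime_two⟩
  have : Nontrivial P := (Subgroup.nontrivial_iff_ne_bot P).2 hne
  have := hP.center_nontrivial
  obtain ⟨k, hk, hk'⟩ := (hP.to_subgroup (center P)).nontrivial_iff_card.1 ‹_›
  obtain ⟨c, hc⟩ := exists_prime_orderOf_dvd_card' (G := center P) 2 (by rw [hk']; exact dvd_pow_self 2 (by omega))
  refine ⟨((c : P) : G), (c : P).2, by rw [Subgroup.orderOf_coe, Subgroup.orderOf_coe, hc], fun p hp => ?_⟩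
  exact (congrArg Subtype.val (mem_center_iff.1 c.2 ⟨p, hp⟩)).symm

include L in
theorem exists_sylow_cent [Finite G] : ∃ P : Sylow 2 G, ∀ p ∈ (P : Subgroup G), Commute p z := by
  obtain ⟨P, hP⟩ := L.sylTwo_pGroup.exists_le_sylow
  have hzP : z ∈ (P : Subgroup G) := hP ⟨4, by with_unfolding_all decide +kernel, L.z_eq⟩
  obtain ⟨c, hcP, hc2, hc⟩ := exists_central P.2 (fun e => L.z_ne (by rw [e, mem_bot] at hzP; exact hzP))
  have hcz := hc z hzP
  have hk := elts_spec sylS_centre (L.code_ok hcz)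
  simp only [Bool.or_eq_true, Bool.not_eq_true', Nat.beq_eq, ← Bool.not_eq_true, List.all_eq_true] at hk
  rcases hk with ((hk | hk) | hk) | hk
  · refine absurd ((L.psi_sq (L.code_ok hcz)).1 ?_) hk
    rw [L.psi_code hcz]
    simpa [hc2, pow_two] using pow_orderOf_eq_one c
  · refine absurd ((L.psi_eq_one (L.code_ok hcz)).2 hk) ?_
    rw [L.psi_code hcz]; rintro rfl; simp at hc2
  · exact ⟨P, fun p hp => by rw [← show c = z by rw [← L.psi_code hcz, hk, L.z_eq]]; exact (hc p hp).symm⟩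
  · refine absurd (fun g hg => ?_) hk
    rw [← L.psi_comm (L.code_ok hcz) (sylS_mem hg), L.psi_code hcz]
    exact hc _ (hP ⟨g, hg, rfl⟩)

include L in
theorem isConj_z [Finite G] {t : G} (ht : orderOf t = 2) : IsConj z t := by
  have : Fact (Nat.Prime 2) := ⟨Nat.prime_two⟩
  obtain ⟨P, hP⟩ := L.exists_sylow_cent
  obtain ⟨P', hP'⟩ := (IsPGroup.of_card (n := 1) (by rw [Nat.card_zpowers, ht, pow_one]) :
    IsPGroup 2 (zpowers t)).exists_le_sylow
  obtain ⟨g, hg⟩ := MulAction.exists_smul_eq G P' P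
  have hm : g * t * g⁻¹ ∈ (P : Subgroup G) := by
    rw [← hg, Sylow.coe_subgroup_smul]
    exact ⟨t, hP' (mem_zpowers t), rfl⟩
  have hgz := hP _ hm
  have ho : orderOf (g * t * g⁻¹) = 2 := by rw [Invol.orderOf_conj_eq, ht]
  have h1 := pow_orderOf_eq_one (g * t * g⁻¹)
  rw [ho, pow_two, ← L.psi_code hgz, L.psi_sq (L.code_ok hgz)] at h1
  have h2 := L.fused (L.code_ok hgz) h1 fun e => by
    have := L.psi_code hgz
    rw [e, L.psi_zero] at this
    rw [← this, orderOf_one] at ho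
    omega
  rw [L.psi_code hgz] at h2
  exact h2.trans (isConj_iff.2 ⟨g, rfl⟩).symm

end Loc

end Cfsg.Lib.UFourThreeLocal
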