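import Cfsg.Agent.Lib.UFourThreeLocal.Rebase

/-!
# The centraliser in coordinates, up to two signs
-/

set_option autoImplicit false
set_option maxRecDepth 10000

namespace Cfsg.Lib.UFourThreeLocal

/-- A power of the central involution as a code. -/
def zc (e : Bool) : ℕ := if e then 4 else 0

/-- Multiplication of the codes for given signs of `m * m` and of the commutator of `s` and `m`. -/
def mulP (e₁ e₂ : Bool) (h g : ℕ) : ℕ :=
  let t := h / 576
  let u := g / 576
  let r := pMul (h % 576) (pAct t (g % 576))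
  let r₁ := if Nat.beq (t / 2 * (u / 2)) 1 && e₁ then pMul r 4 else r
  let r₂ := if Nat.beq (t / 2 * (u % 2)) 1 && e₂ then pMul r₁ 4 else r₁
  576 * ((t % 2 + u % 2) % 2 + 2 * ((t / 2 + u / 2) % 2)) + r₂

theorem mulP_eq : ([0, 576, 1152, 1728].all fun t => [0, 576, 1152, 1728].all fun u =>
    eltsP.all fun x => Nat.beq (mulP true true (t + x) u) (mulH (t + x) u)) = true := by decide +kernel

/-- The full coordinates, up to two signs. -/
structure CoordP {G : Type*} [Group G] (z : G) where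
  /-- The components. -/
  K : Comp z
  /-- The exchanging involution. -/
  s : G
  /-- The outer element. -/
  m : G
  /-- Whether `m * m` is `z`. -/
  e₁ : Bool
  /-- Whether `s` and `m` do not commute. -/
  e₂ : Bool
  s_sq : s * s = 1
  s_cent : Commute s z
  m_cent : Commute m z
  swap : ∀ {n : ℕ}, n < 24 → s * K.u₁ n * s = K.u₂ n
  twist₁ : ∀ {n : ℕ}, n < 24 → m * K.u₁ n * m⁻¹ = K.u₁ (sTau n)
  twist₂ : ∀ {n : ℕ}, n < 24 → m * K.u₂ n * m⁻¹ = K.u₂ (sTau n)
  m_sq : m * m = K.phi (zc e₁)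
  m_s : m * s = s * m * K.phi (zc e₂)

theorem exists_coordP {G : Type*} [Group G] [Finite G] {z : G} (h : Nonempty (Coord0 z)) :
    Nonempty (CoordP z) := by
  obtain ⟨S⟩ := h
  set K := S.K
  obtain ⟨g, M⟩ := K.exists_meet
  obtain ⟨c, x, hc, hx, hA⟩ := M.exists_outer
  set w := (K.phi x)⁻¹ * c
  have hw : Commute w z := ((K.phi_cent hx).inv_left).mul_left hc
  have hact : ∀ q, okQ q = true → w * K.phi q * w⁻¹ = K.phi (canon (sTau (q / 24)) (sTau (q % 24))) := by
    intro q hq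
    obtain ⟨-, g1, g2, -⟩ := okP_bounds (Comp.okQ_P hq)
    have hcn := (canon_eq (sTau_hom _ g1).1 (sTau_hom _ g2).1).1
    have := hA q hq
    rw [typeAct] at this
    simp only [tw, ↓reduceIte, Bool.false_eq_true] at this
    rw [(K.phi_mul (K.phi_mul hx hcn).1 (K.phi_inv hx).1).2, (K.phi_mul hx hcn).2, (K.phi_inv hx).2] at this
    calc w * K.phi q * w⁻¹ = (K.phi x)⁻¹ * (c * K.phi q * c⁻¹) * K.phi x := by simp only [w]; group
      _ = _ := by rw [this]; group
  have t8 : ∀ n < 8, sTau n < 8 := by decide +kernel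
  have hside : ∀ (t : Bool) (n : ℕ), n < 8 → w * K.uu t n * w⁻¹ = K.uu t (sTau n) := by
    intro t n hn
    have hn' := (sTau_hom n (by omega)).1
    let q := if t then canon 0 n else canon n 0
    have hq : okQ q = true := by
      have : ∀ n < 8, okQ (canon 0 n) = true ∧ okQ (canon n 0) = true := by decide +kernel
      cases t
      exacts [(this n hn).2, (this n hn).1]
    have key : ∀ n < 8, canon (sTau (canon n 0 / 24)) (sTau (canon n 0 % 24)) = canon (sTau n) 0 ∧
        canon (sTau (canon 0 n / 24)) (sTau (canon 0 n % 24)) = canon 0 (sTau n) := by decide +kernel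
    have := hact q hq
    cases t
    · simp only [q, ↓reduceIte, Bool.false_eq_true, (key n hn).1] at this
      rwa [K.phi_canon (by omega) (by norm_num), K.phi_canon hn' (by norm_num), K.zero₂, mul_one, mul_one] at this
    · simp only [q, ↓reduceIte, (key n hn).2] at this
      rwa [K.phi_canon (by norm_num) (by omega), K.phi_canon (by norm_num) hn', K.zero₁, one_mul, one_mul] at this
  have hfull : ∀ (t : Bool) (n : ℕ), n < 24 → w * K.uu t n * w⁻¹ = K.uu t (sTau n) := by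
    intro t
    obtain ⟨p, hp, q, hq, e⟩ : ∃ p < 24, ∃ q < 24, w * K.uu t 8 * w⁻¹ = K.uu t p * K.uu (!t) q := by
      cases t
      · obtain ⟨p, hp, q, hq, e⟩ := K.norm hw (show 8 < 24 by norm_num) (show 0 < 24 by norm_num)
        exact ⟨p, hp, q, hq, by rw [K.zero₂, mul_one] at e; simpa [Comp.uu] using e⟩
      · obtain ⟨p, hp, q, hq, e⟩ := K.norm hw (show 0 < 24 by norm_num) (show 8 < 24 by norm_num)
        refine ⟨q, hq, p, hp, ?_⟩
        rw [K.zero₁, one_mul] at e
        simpa [Comp.uu, (K.commute hp hq).eq] using e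
    have hcq : ∀ r < 8, sMul q (sTau r) = sMul (sTau r) q := by
      intro r hr
      have hr' : sTau r < 24 := by have := t8 r hr; omega
      have h1 : Commute (K.uu t p * K.uu (!t) q) (K.uu (!t) (sTau r)) := by
        rw [← e, ← hside (!t) r hr, Commute.conj_iff]; exact K.uu_comm t (by norm_num) (by omega)
      have h3 : Commute (K.uu (!t) q) (K.uu (!t) (sTau r)) := by
        have := ((K.uu_comm t hp hr').inv_left).mul_left h1
        rwa [inv_mul_cancel_left] at this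
      refine K.uu_inj (!t) (sMul_lt hq hr') (sMul_lt hr' hq) ?_
      rw [K.uu_mul (!t) hq hr', K.uu_mul (!t) hr' hq, h3.eq]
    have hcen : ∀ q < 24, sMul q (sTau 1) = sMul (sTau 1) q → sMul q (sTau 2) = sMul (sTau 2) q → q = 0 ∨ q = 4 := by
      decide +kernel
    obtain ⟨p', hp', e'⟩ : ∃ p' < 24, w * K.uu t 8 * w⁻¹ = K.uu t p' := by
      rcases hcen q hq (hcq 1 (by norm_num)) (hcq 2 (by norm_num)) with rfl | rfl
      · exact ⟨p, hp, by rw [e, K.uu_zero, mul_one]⟩
      · exact ⟨sMul p 4, sMul_lt hp (by norm_num), by rw [e, K.uu_four, K.uu_mul t hp (by norm_num), K.uu_four]⟩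
    have hcl : ∀ i j, i < 24 → j < 24 → w * K.uu t i * w⁻¹ = K.uu t (sTau i) → w * K.uu t j * w⁻¹ = K.uu t (sTau j) →
        w * K.uu t (sMul i j) * w⁻¹ = K.uu t (sTau (sMul i j)) := by
      intro i j hi hj hi' hj'
      rw [(sTau_hom i hi).2 j hj, K.uu_mul t hi hj, K.uu_mul t (sTau_hom i hi).1 (sTau_hom j hj).1, ← hi', ← hj']
      group
    obtain rfl : p' = sTau 8 := by
      have hrel : ∀ r < 8, sMul p' (sTau r) = sMul (sTau (sConj 8 r)) p' := by
        intro r hr
        have hs8 : ∀ r < 8, sConj 8 r < 8 ∧ sMul (sConj 8 r) 8 = sMul 8 r := by decide +kernel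
        have hr' : sTau r < 24 := by have := t8 r hr; omega
        have hc' : sTau (sConj 8 r) < 24 := by have := t8 _ (hs8 r hr).1; omega
        refine K.uu_inj t (sMul_lt hp' hr') (sMul_lt hc' hp') ?_
        rw [K.uu_mul t hp' hr', K.uu_mul t hc' hp', ← e', ← hside t r hr, ← hside t _ (hs8 r hr).1]
        calc w * K.uu t 8 * w⁻¹ * (w * K.uu t r * w⁻¹) = w * (K.uu t 8 * K.uu t r) * w⁻¹ := by group
          _ = w * (K.uu t (sConj 8 r) * K.uu t 8) * w⁻¹ := by
            rw [← K.uu_mul t (by norm_num) (by omega), ← K.uu_mul t (by have := (hs8 r hr).1; omega) (by norm_num),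
              (hs8 r hr).2]
          _ = _ := by group
      have h3 : sMul p' (sMul p' p') = 0 := K.uu_inj t (sMul_lt hp' (sMul_lt hp' hp')) (by norm_num) (by
        rw [K.uu_mul t hp' (sMul_lt hp' hp'), K.uu_mul t hp' hp', ← e', K.uu_zero,
          show w * K.uu t 8 * w⁻¹ * (w * K.uu t 8 * w⁻¹ * (w * K.uu t 8 * w⁻¹)) =
            w * (K.uu t 8 * (K.uu t 8 * K.uu t 8)) * w⁻¹ by group,
          ← K.uu_mul t (by norm_num) (by norm_num), ← K.uu_mul t (by norm_num) (by decide +kernel),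
          show sMul 8 (sMul 8 8) = 0 by decide +kernel, K.uu_zero]
        group)
      have key : ∀ p < 24, sMul p (sMul p p) = 0 → sMul p (sTau 1) = sMul (sTau (sConj 8 1)) p →
          sMul p (sTau 2) = sMul (sTau (sConj 8 2)) p → p = sTau 8 := by decide +kernel
      exact key p' hp' h3 (hrel 1 (by norm_num)) (hrel 2 (by norm_num))
    intro n hn
    have hdec : ∀ n < 24, n < 8 ∨ ∃ r < 8, n = sMul r 8 ∨ n = sMul (sMul r 8) 8 := by decide +kernel
    rcases hdec n hn with h | ⟨r, hr, h | h⟩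
    · exact hside t n h
    · rw [h]; exact hcl r 8 (by omega) (by norm_num) (hside t r hr) e'
    · rw [h]; exact hcl _ 8 (sMul_lt (by omega) (by norm_num)) (by norm_num)
        (hcl r 8 (by omega) (by norm_num) (hside t r hr) e') e'
  -- elements centralising the core
  have hpm : ∀ d, Commute d z → (∀ (t : Bool) (n : ℕ), n < 8 → d * K.uu t n * d⁻¹ = K.uu t n) →
      ∃ e : Bool, d = K.phi (zc e) := by
    intro d hd h
    have key : ∀ p < 8, ∀ q < 8, Commute d (K.u₁ p * K.u₂ q) := fun p hp q hq => by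
      have h1 : Commute d (K.u₁ p) := mul_inv_eq_iff_eq_mul.1 (h false p hp)
      have h2 : Commute d (K.u₂ q) := mul_inv_eq_iff_eq_mul.1 (h true q hq)
      exact h1.mul_right h2
    rcases K.self hd key with e | e
    · exact ⟨false, by rw [e]; exact K.phi_zero.symm⟩
    · exact ⟨true, by rw [e]; exact K.phi_four.symm⟩
  have tt : ∀ n < 8, sTau (sTau n) = n := by decide +kernel
  have hsi : S.s⁻¹ = S.s := inv_eq_of_mul_eq_one_right S.s_sq
  have hsw : ∀ (t : Bool) (n : ℕ), n < 24 → S.s * K.uu t n * S.s = K.uu (!t) n := by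
    intro t n hn
    cases t
    · exact S.swap hn
    · show S.s * K.u₂ n * S.s = K.u₁ n
      rw [← S.swap hn]
      calc S.s * (S.s * K.u₁ n * S.s) * S.s = (S.s * S.s) * K.u₁ n * (S.s * S.s) := by group
        _ = _ := by rw [S.s_sq, one_mul, mul_one]
  obtain ⟨e₁, he₁⟩ := hpm (w * w) (hw.mul_left hw) fun t n hn => by
    rw [show w * w * K.uu t n * (w * w)⁻¹ = w * (w * K.uu t n * w⁻¹) * w⁻¹ by group, hside t n hn,
      hside t _ (t8 n hn), tt n hn]
  obtain ⟨e₂, he₂⟩ := hpm ((S.s * w)⁻¹ * (w * S.s))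
    (((S.s_cent.mul_left hw).inv_left).mul_left (hw.mul_left S.s_cent)) fun t n hn => by
    have h1 : w * S.s * K.uu t n * (w * S.s)⁻¹ = K.uu (!t) (sTau n) := by
      rw [show w * S.s * K.uu t n * (w * S.s)⁻¹ = w * (S.s * K.uu t n * S.s⁻¹) * w⁻¹ by group, hsi,
        hsw t n (by omega), hside _ n hn]
    have h2 : S.s * w * K.uu t n * (S.s * w)⁻¹ = K.uu (!t) (sTau n) := by
      rw [show S.s * w * K.uu t n * (S.s * w)⁻¹ = S.s * (w * K.uu t n * w⁻¹) * S.s⁻¹ by group, hsi,
        hside t n hn, hsw t _ (by have := t8 n hn; omega)]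
    rw [show (S.s * w)⁻¹ * (w * S.s) * K.uu t n * ((S.s * w)⁻¹ * (w * S.s))⁻¹ =
      (S.s * w)⁻¹ * (w * S.s * K.uu t n * (w * S.s)⁻¹) * (S.s * w) by group, h1, ← h2]
    group
  exact ⟨⟨K, S.s, w, e₁, e₂, S.s_sq, S.s_cent, hw, S.swap, fun hn => hfull false _ hn,
    fun hn => hfull true _ hn, he₁, by rw [← he₂, mul_inv_cancel_left]⟩⟩

namespace CoordP

variable {G : Type*} [Group G] {z : G} (C : CoordP z)

/-- A coset representative. -/
def rep (t : ℕ) : G := C.s ^ (t % 2) * C.m ^ (t / 2)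

/-- The element of a code. -/
def psi (h : ℕ) : G := C.K.phi (h % 576) * C.rep (h / 576)

theorem s_inv : C.s⁻¹ = C.s := inv_eq_of_mul_eq_one_right C.s_sq

theorem s_phi {x : ℕ} (hx : okP x = true) : C.s * C.K.phi x * C.s⁻¹ = C.K.phi (pSwap x) ∧ okP (pSwap x) = true := by
  obtain ⟨-, h1, h2, -⟩ := okP_bounds hx
  have h2' : C.s * C.K.u₂ (x % 24) * C.s = C.K.u₁ (x % 24) := by
    rw [← C.swap h2]
    calc C.s * (C.s * C.K.u₁ (x % 24) * C.s) * C.s = (C.s * C.s) * C.K.u₁ (x % 24) * (C.s * C.s) := by group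
      _ = _ := by rw [C.s_sq, one_mul, mul_one]
  refine ⟨?_, (canon_eq h2 h1).1⟩
  rw [C.s_inv, pSwap, C.K.phi_canon h2 h1, ← h2']
  have h1' := C.swap h1
  calc C.s * C.K.phi x * C.s = C.s * C.K.u₁ (x / 24) * (C.s * C.s) * C.K.u₂ (x % 24) * C.s := by
        rw [C.s_sq]; simp only [Comp.phi]; group
    _ = (C.s * C.K.u₁ (x / 24) * C.s) * (C.s * C.K.u₂ (x % 24) * C.s) := by group
    _ = _ := by rw [h1', h2', (C.K.commute h2 h1).eq]

theorem m_phi {x : ℕ} (hx : okP x = true) : C.m * C.K.phi x * C.m⁻¹ = C.K.phi (pTau x) ∧ okP (pTau x) = true := by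
  obtain ⟨-, h1, h2, -⟩ := okP_bounds hx
  refine ⟨?_, (canon_eq (sTau_hom _ h1).1 (sTau_hom _ h2).1).1⟩
  rw [pTau, C.K.phi_canon (sTau_hom _ h1).1 (sTau_hom _ h2).1, ← C.twist₁ h1, ← C.twist₂ h2, Comp.phi]
  group

theorem rep_phi {t : ℕ} (ht : t < 4) {x : ℕ} (hx : okP x = true) :
    C.rep t * C.K.phi x * (C.rep t)⁻¹ = C.K.phi (pAct t x) ∧ okP (pAct t x) = true := by
  obtain ⟨a1, b1⟩ := C.s_phi hx
  obtain ⟨a2, b2⟩ := C.m_phi hx
  obtain ⟨a3, b3⟩ := C.s_phi b2
  interval_cases t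
  · refine ⟨?_, hx⟩
    simp [rep, pAct]
  · refine ⟨?_, b1⟩
    simp [rep, pAct, a1]
  · refine ⟨?_, b2⟩
    simp [rep, pAct, a2]
  · refine ⟨?_, b3⟩
    simp only [rep, pow_one, show 3 % 2 = 1 from rfl, show 3 / 2 = 1 from rfl]
    rw [show C.s * C.m * C.K.phi x * (C.s * C.m)⁻¹ = C.s * (C.m * C.K.phi x * C.m⁻¹) * C.s⁻¹ by group, a2, a3]
    rfl

/-- The part of a product coming from the coset representatives. -/
def tail (t u : ℕ) : G :=
  C.K.phi (zc (Nat.beq (t / 2 * (u / 2)) 1 && C.e₁)) * C.K.phi (zc (Nat.beq (t / 2 * (u % 2)) 1 && C.e₂))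

theorem rep_mul {t u : ℕ} (ht : t < 4) (hu : u < 4) :
    C.rep t * C.rep u = C.tail t u * C.rep ((t % 2 + u % 2) % 2 + 2 * ((t / 2 + u / 2) % 2)) := by
  have hz : ∀ e, Commute (C.K.phi (zc e)) C.s ∧ Commute (C.K.phi (zc e)) C.m := fun e => by
    cases e
    · simp [zc, C.K.phi_zero]
    · simp only [zc, ↓reduceIte, C.K.phi_four]; exact ⟨C.s_cent.symm, C.m_cent.symm⟩
  set a := C.K.phi (zc C.e₁)
  set b := C.K.phi (zc C.e₂)
  have hm : C.m * C.m = a := C.m_sq
  have hs : C.m * C.s = b * (C.s * C.m) := by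
    rw [C.m_s, ← ((hz C.e₂).1.mul_right (hz C.e₂).2).eq]
  have has := (hz C.e₁).1.eq
  have hbs := (hz C.e₂).1.eq
  have ha := (hz C.e₁).2.eq
  have hbm := (hz C.e₂).2.eq
  have hs2 : ∀ y : G, C.s * (C.s * y) = y := fun y => by rw [← mul_assoc, C.s_sq, one_mul]
  have hm2 : ∀ y : G, C.m * (C.m * y) = a * y := fun y => by rw [← mul_assoc, hm]
  have hms : ∀ y : G, C.m * (C.s * y) = b * (C.s * (C.m * y)) := fun y => by rw [← mul_assoc, hs]; group
  have hsa : ∀ y : G, C.s * (a * y) = a * (C.s * y) := fun y => by rw [← mul_assoc, ← has, mul_assoc]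
  have hsb : ∀ y : G, C.s * (b * y) = b * (C.s * y) := fun y => by rw [← mul_assoc, ← hbs, mul_assoc]
  have hma : ∀ y : G, C.m * (a * y) = a * (C.m * y) := fun y => by rw [← mul_assoc, ← ha, mul_assoc]
  have hmb : ∀ y : G, C.m * (b * y) = b * (C.m * y) := fun y => by rw [← mul_assoc, ← hbm, mul_assoc]
  have hab : a * b = b * a := by
    cases h1 : C.e₁ <;> cases h2 : C.e₂ <;> simp [a, b, h1, h2, zc, C.K.phi_zero]
  have hab' : ∀ y : G, b * (a * y) = a * (b * y) := fun y => by rw [← mul_assoc, ← hab, mul_assoc]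
  have f0 : C.K.phi (zc false) = 1 := C.K.phi_zero
  have b0 : Nat.beq 0 1 = false := rfl
  have b1 : Nat.beq 1 1 = true := rfl
  simp only [a, b] at hm hs has hbs hm2 hms hsa hsb hma hmb hab'
  have hsa0 : C.s * C.K.phi (zc C.e₁) = C.K.phi (zc C.e₁) * C.s := has.symm
  have hsb0 : C.s * C.K.phi (zc C.e₂) = C.K.phi (zc C.e₂) * C.s := hbs.symm
  interval_cases t <;> interval_cases u <;>
    simp [rep, tail, b0, b1, f0, mul_assoc, hm, hs, C.s_sq, hs2, hm2, hms, hsa, hsb, hma, hmb, hab', hsa0, hsb0, hab.symm, a, b]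

theorem psi_mulP {h g : ℕ} (hh : okH h = true) (hg : okH g = true) :
    C.psi (mulP C.e₁ C.e₂ h g) = C.psi h * C.psi g ∧ okH (mulP C.e₁ C.e₂ h g) = true := by
  rw [okH, Bool.and_eq_true, Nat.blt_eq, Nat.blt_eq] at hh hg
  have p1 : okP (h % 576) = true := by rw [okP, Bool.and_eq_true, Nat.blt_eq, Nat.blt_eq]; omega
  have p2 : okP (g % 576) = true := by rw [okP, Bool.and_eq_true, Nat.blt_eq, Nat.blt_eq]; omega
  obtain ⟨hact, hao⟩ := C.rep_phi (t := h / 576) (by omega) p2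
  obtain ⟨hr, hre⟩ := C.K.phi_mul p1 hao
  have step : ∀ (cond e : Bool) (r : ℕ), okP r = true →
      okP (if cond && e then pMul r 4 else r) = true ∧
        C.K.phi (if cond && e then pMul r 4 else r) = C.K.phi r * C.K.phi (zc (cond && e)) := by
    intro cond e r hr
    cases cond && e
    · simp [zc, hr, C.K.phi_zero]
    · simpa [zc] using C.K.phi_mul hr (show okP 4 = true by decide)
  obtain ⟨k1, k2⟩ := step (Nat.beq (h / 576 / 2 * (g / 576 / 2)) 1) C.e₁ _ hr
  obtain ⟨k3, k4⟩ := step (Nat.beq (h / 576 / 2 * (g / 576 % 2)) 1) C.e₂ _ k1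
  obtain ⟨k5, -, -, k6⟩ := okP_bounds k3
  set T := (h / 576 % 2 + g / 576 % 2) % 2 + 2 * ((h / 576 / 2 + g / 576 / 2) % 2) with hT
  have hT4 : T < 4 := by omega
  have e : mulP C.e₁ C.e₂ h g = 576 * T + _ := rfl
  refine ⟨?_, ?_⟩
  · rw [psi, e, Nat.mul_add_mod, Nat.mod_eq_of_lt k5, Nat.mul_add_div (by norm_num), Nat.div_eq_of_lt k5, add_zero, k4, k2, hre]
    symm
    calc C.psi h * C.psi g = C.K.phi (h % 576) * (C.rep (h / 576) * C.K.phi (g % 576) * (C.rep (h / 576))⁻¹) *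
          (C.rep (h / 576) * C.rep (g / 576)) := by simp only [psi]; group
      _ = _ := by
        rw [hact, C.rep_mul (by omega) (by omega), ← hT]
        simp only [tail]
        group
  · rw [okH, e, Bool.and_eq_true, Nat.blt_eq, Nat.blt_eq, Nat.mul_add_mod, Nat.mod_eq_of_lt k5]
    exact ⟨by omega, k6⟩

end CoordP

end Cfsg.Lib.UFourThreeLocal
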