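import Cfsg.Agent.Lib.UFourThreeLocal.Triangle

/-!
# The centraliser of a diagonal element of order three
-/

set_option autoImplicit false
set_option maxRecDepth 10000

namespace Cfsg.Lib.UFourThreeLocal

open Subgroup

attribute [local irreducible] elts mulH conjH invH okH pow16 pow3 pow9 commH eltsS sylS

namespace Loc

variable {G : Type*} [Group G] {z : G} (L : Loc z)

theorem ok_const {h : ℕ} (hh : h ∈ [0, 4, 8, 192, 200, 400, 576, 580]) : okH h = true := by
  simp only [List.mem_cons, List.not_mem_nil, or_false] at hh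
  rcases hh with rfl | rfl | rfl | rfl | rfl | rfl | rfl | rfl <;> with_unfolding_all decide

theorem conj_eq {h g k : ℕ} (hh : okH h = true) (hg : okH g = true) (e : conjH h g = k) :
    L.ψ h * L.ψ g * (L.ψ h)⁻¹ = L.ψ k := by rw [← e, (L.conj hh hg).2]

theorem mul_eq {h g k : ℕ} (hh : okH h = true) (hg : okH g = true) (e : mulH h g = k) :
    L.ψ h * L.ψ g = L.ψ k := by rw [← e, L.mul hh hg]

theorem d_cube : L.ψ 200 ^ 3 = 1 := (L.tCodes_facts (by decide)).1

theorem d_ne : L.ψ 200 ≠ 1 := by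
  rw [Ne, L.psi_eq_one (tCodes_ok (by decide))]; decide

theorem s_sq : L.ψ 576 * L.ψ 576 = 1 :=
  (L.psi_sq (ok_const (by decide))).2 (by with_unfolding_all decide)

theorem s_ne : L.ψ 576 ≠ 1 := by
  rw [Ne, L.psi_eq_one (ok_const (by decide))]; decide

theorem s_ne_z : L.ψ 576 ≠ z := fun e => by
  have := L.inj (ok_const (by decide)) (ok_const (by decide)) (e.trans L.z_eq.symm)
  omega

theorem z_comm_s : Commute z (L.ψ 576) := (L.cent (ok_const (by decide))).symm

theorem zs_eq : z * L.ψ 576 = L.ψ 580 := by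
  exact (congrArg (· * L.ψ 576) L.z_eq).symm.trans
    (L.mul_eq (ok_const (by decide)) (ok_const (by decide)) (by with_unfolding_all decide))

theorem comm_d_s : Commute (L.ψ 200) (L.ψ 576) :=
  (L.psi_comm (ok_const (by decide)) (ok_const (by decide))).2 (by with_unfolding_all decide)

theorem comm_d_z : Commute (L.ψ 200) z := L.cent (ok_const (by decide))

theorem zs_sq : z * L.ψ 576 * (z * L.ψ 576) = 1 := by
  rw [L.z_comm_s.symm.mul_mul_mul_comm, L.z_sq, L.s_sq, one_mul]

theorem zs_ne : z * L.ψ 576 ≠ 1 := fun e => L.s_ne_z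
  ((eq_inv_of_mul_eq_one_right e).trans (inv_eq_of_mul_eq_one_right L.z_sq))

theorem zs_ne_z : z * L.ψ 576 ≠ z := fun e => L.s_ne (mul_eq_left.1 e)

theorem zs_ne_s : z * L.ψ 576 ≠ L.ψ 576 := fun e => L.z_ne (mul_eq_right.1 e)

/-- What is needed of the two other involutions centralising `d`. -/
theorem exists_vertex [Finite G] {u : G} (hu2 : u * u = 1) (hu1 : u ≠ 1) (hdu : Commute (L.ψ 200) u)
    (huz : Commute u z) (hne : u ≠ z) : ∃ g : G, g * z * g⁻¹ = u ∧ Vertex (L.ψ 200) u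
      (L.tSub.map (MulAut.conj g).toMonoidHom) (L.ySub.map (MulAut.conj g).toMonoidHom) := by
  have hi : IsConj z u := by
    have h := L.fused (L.code_ok huz) ((L.psi_sq (L.code_ok huz)).1 (by rw [L.psi_code huz, hu2]))
      (fun e => hu1 (by rw [← L.psi_code huz, e, L.psi_zero]))
    rwa [L.psi_code huz] at h
  obtain ⟨g0, hg0⟩ := isConj_iff.1 hi
  have hc1 : Commute (g0⁻¹ * L.ψ 200 * g0) z := by
    rw [← Commute.conj_iff g0]
    simpa [mul_assoc, ← hg0] using hdu
  have hc2 : Commute (g0⁻¹ * z * g0) z := by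
    rw [← Commute.conj_iff g0]
    simpa [mul_assoc, ← hg0] using huz.symm
  have hcom : Commute (g0⁻¹ * z * g0) (g0⁻¹ * L.ψ 200 * g0) := by
    have := (Commute.conj_iff g0⁻¹).2 L.comm_d_z.symm
    simpa using this
  have hk := elts_spec diag_class (L.code_ok hc2)
  simp only [Bool.or_eq_true, Bool.not_eq_true', ← Bool.not_eq_true, Nat.beq_eq, List.all_eq_true] at hk
  have hz2 : L.ψ (L.code hc2) * L.ψ (L.code hc2) = 1 := by
    rw [L.psi_code hc2, show g0⁻¹ * z * g0 * (g0⁻¹ * z * g0) = g0⁻¹ * (z * z) * g0 by group, L.z_sq]; group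
  have hh0 : L.code hc2 ≠ 0 := fun e => L.z_ne (by
    have := L.psi_code hc2
    rw [e, L.psi_zero] at this
    rw [show z = g0 * (g0⁻¹ * z * g0) * g0⁻¹ by group, ← this]; group)
  have hh4 : L.code hc2 ≠ 4 := fun e => hne (by
    have := L.psi_code hc2
    rw [e, L.z_eq] at this
    rw [← hg0]; nth_rewrite 1 [this]; group)
  rcases hk with ((hk | hk) | hk) | hk
  · exact absurd ((L.psi_sq (L.code_ok hc2)).1 hz2) hk
  · exact absurd hk hh0
  · exact absurd hk hh4
  have hk' := hk _ (mem_elts.2 (L.code_ok hc1))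
  simp only [Bool.or_eq_true, Bool.and_eq_true, ← Bool.not_eq_true, Nat.beq_eq, List.any_eq_true] at hk'
  have h1 : commH (L.code hc2) (L.code hc1) = true :=
    (L.psi_comm (L.code_ok hc2) (L.code_ok hc1)).1 (by rw [L.psi_code hc2, L.psi_code hc1]; exact hcom)
  have h3 : pow3 (L.code hc1) = 0 := (L.psi_cube (L.code_ok hc1)).1 (by
    rw [L.psi_code hc1]
    rw [show g0⁻¹ * L.ψ 200 * g0 = g0⁻¹ * L.ψ 200 * g0⁻¹⁻¹ by rw [inv_inv], conj_pow, L.d_cube]; group)
  rcases hk' with (hk' | hk') | hk'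
  · exact absurd ⟨h1, h3⟩ hk'
  · exfalso
    have := L.psi_code hc1
    rw [hk', L.psi_zero] at this
    exact L.d_ne (by rw [show L.ψ 200 = g0 * (g0⁻¹ * L.ψ 200 * g0) * g0⁻¹ by group, ← this]; group)
  obtain ⟨y, hy, hy'⟩ := hk'
  have hyo := mem_elts.1 hy
  set xc := conjH y (L.code hc1) with hxc
  have hxm : xc ∈ [200, 208] := by simpa using hy'
  have e1 : g0 * (L.ψ y)⁻¹ * z * (g0 * (L.ψ y)⁻¹)⁻¹ = u := by
    rw [show g0 * (L.ψ y)⁻¹ * z * (g0 * (L.ψ y)⁻¹)⁻¹ = g0 * ((L.ψ y)⁻¹ * z * L.ψ y) * g0⁻¹ by group,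
      mul_assoc (L.ψ y)⁻¹, ← (L.cent hyo).eq, inv_mul_cancel_left, hg0]
  refine ⟨g0 * (L.ψ y)⁻¹, e1, ?_⟩
  have X := (L.base_vertex hxm).map (g0 * (L.ψ y)⁻¹)
  rwa [e1, show g0 * (L.ψ y)⁻¹ * L.ψ xc * (g0 * (L.ψ y)⁻¹)⁻¹ = L.ψ 200 by
    rw [hxc, (L.conj hyo (L.code_ok hc1)).2, L.psi_code hc1]; group] at X

/-- The subgroup generated by `z` and `s`. -/
def vSub : Subgroup G :=
  L.listSub [0, 4, 576, 580] (fun h hh => ok_const (by
      simp only [List.mem_cons, List.not_mem_nil, or_false] at hh ⊢; omega))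
    (by decide) (by with_unfolding_all decide +kernel) (by with_unfolding_all decide +kernel)

theorem mem_vSub {y : G} : y ∈ L.vSub ↔ y = 1 ∨ y = z ∨ y = L.ψ 576 ∨ y = z * L.ψ 576 := by
  change (∃ h ∈ [0, 4, 576, 580], L.ψ h = y) ↔ _
  simp only [List.mem_cons, List.not_mem_nil, or_false, exists_eq_or_imp, exists_eq_left, L.psi_zero, L.z_eq,
    L.zs_eq, eq_comm (a := y)]

theorem card_vSub : Nat.card L.vSub = 4 :=
  L.card_codes L.vSub [0, 4, 576, 580] (by decide) (fun h hh => ok_const (by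
      simp only [List.mem_cons, List.not_mem_nil, or_false] at hh ⊢; omega)) fun _ => Iff.rfl

theorem vSub_pGroup : IsPGroup 2 L.vSub := IsPGroup.of_card (n := 2) L.card_vSub

theorem vSub_cent {p : G} (hp : p ∈ L.vSub) :
    Commute p (L.ψ 200) ∧ Commute p z ∧ Commute p (L.ψ 576) := by
  rcases L.mem_vSub.1 hp with rfl | rfl | rfl | rfl
  · exact ⟨Commute.one_left _, Commute.one_left _, Commute.one_left _⟩
  · exact ⟨L.comm_d_z.symm, Commute.refl _, L.z_comm_s⟩
  · exact ⟨L.comm_d_s.symm, L.z_comm_s.symm, Commute.refl _⟩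
  · exact ⟨L.comm_d_z.symm.mul_left L.comm_d_s.symm, (Commute.refl z).mul_left L.z_comm_s.symm,
      L.z_comm_s.mul_left (Commute.refl _)⟩

variable [Finite G]

/-- A two-subgroup of the centraliser of `d` containing `z` and `s` is the four group. -/
theorem two_eq_vSub {S : Subgroup G} (hS : IsPGroup 2 S) (hd : ∀ p ∈ S, Commute p (L.ψ 200))
    (hle : L.vSub ≤ S) : S = L.vSub := by
  have hzS : z ∈ S := hle (L.mem_vSub.2 (Or.inr (Or.inl rfl)))
  have hsS : L.ψ 576 ∈ S := hle (L.mem_vSub.2 (Or.inr (Or.inr (Or.inl rfl))))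
  obtain ⟨c, hcS, hc2, hcc⟩ := exists_central hS (fun e => L.z_ne (by rw [e, mem_bot] at hzS; exact hzS))
  have hcz := hcc z hzS
  have h := elts_spec four_group (L.code_ok hcz)
  simp only [Bool.or_eq_true, Bool.not_eq_true', ← Bool.not_eq_true, Bool.and_eq_true, Nat.beq_eq] at h
  have hsq : c * c = 1 := by simpa [hc2, pow_two] using pow_orderOf_eq_one c
  have hc1 : c ≠ 1 := fun e => by rw [e, orderOf_one] at hc2; omega
  have hcV : c = z ∨ c = L.ψ 576 ∨ c = z * L.ψ 576 := by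
    rcases h with (((h | h) | h) | h) | h
    · refine absurd ⟨⟨?_, ?_⟩, (L.psi_sq (L.code_ok hcz)).1 (by rw [L.psi_code hcz, hsq])⟩ h
      · exact (L.psi_comm (ok_const (by decide)) (L.code_ok hcz)).1 (by rw [L.psi_code hcz]; exact (hd c hcS).symm)
      · exact (L.psi_comm (ok_const (by decide)) (L.code_ok hcz)).1
          (by rw [L.psi_code hcz]; exact (hcc _ hsS).symm)
    · exact absurd (by rw [← L.psi_code hcz, h, L.psi_zero]) hc1
    · exact Or.inl (by rw [← L.psi_code hcz, h, L.z_eq])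
    · exact Or.inr (Or.inl (by rw [← L.psi_code hcz, h]))
    · exact Or.inr (Or.inr (by rw [← L.psi_code hcz, h, L.zs_eq]))
  have key : ∀ {T Y : Subgroup G}, Vertex (L.ψ 200) c T Y → S = L.vSub := fun X =>
    (eq_of_le_of_card_ge hle (by
      rw [L.card_vSub]; exact X.two_v S hS fun p hp => ⟨hd p hp, (hcc p hp).symm⟩)).symm
  rcases hcV with e | e | e
  · refine key (T := L.tSub) (Y := L.ySub) ?_
    convert L.base_vertex (x := 200) (by simp)
  · obtain ⟨g, -, X⟩ := L.exists_vertex L.s_sq L.s_ne L.comm_d_s L.z_comm_s.symm L.s_ne_z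
    exact key (e ▸ X)
  · obtain ⟨g, -, X⟩ := L.exists_vertex L.zs_sq L.zs_ne (L.comm_d_z.mul_right L.comm_d_s)
      ((Commute.refl z).mul_left L.z_comm_s.symm) L.zs_ne_z
    exact key (e ▸ X)

omit [Finite G] in
/-- The fixed points of the four group on the cube roots of one centralising `d`. -/
theorem meet {y : G} (h3 : y ^ 3 = 1) (hd : Commute y (L.ψ 200)) (hz : Commute y z)
    (hs : Commute y (L.ψ 576)) : y ∈ zpowers (L.ψ 200) := by
  have h := elts_spec meet_codes (L.code_ok hz)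
  simp only [Bool.or_eq_true, Bool.not_eq_true', ← Bool.not_eq_true, Bool.and_eq_true, Nat.beq_eq,
    List.elem_eq_mem, decide_eq_true_eq] at h
  rcases h with h | h
  · refine absurd ⟨⟨?_, ?_⟩, (L.psi_cube (L.code_ok hz)).1 (by rw [L.psi_code hz, h3])⟩ h
    · exact (L.psi_comm (ok_const (by decide)) (L.code_ok hz)).1 (by rw [L.psi_code hz]; exact hd.symm)
    · exact (L.psi_comm (ok_const (by decide)) (L.code_ok hz)).1 (by rw [L.psi_code hz]; exact hs.symm)
  · rw [← L.psi_code hz]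
    simp only [List.mem_cons, List.not_mem_nil, or_false] at h
    rcases h with h | h | h <;> rw [h]
    · rw [L.psi_zero]; exact one_mem _
    · exact mem_zpowers _
    · rw [← L.mul_eq (ok_const (by decide)) (ok_const (by decide))
        (show mulH 200 200 = 400 by with_unfolding_all decide)]
      exact mul_mem (mem_zpowers _) (mem_zpowers _)

end Loc

end Cfsg.Lib.UFourThreeLocal
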