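import Cfsg.Agent.Lib.UFourThreeLocal.Signs

/-!
# The centraliser is the model, and every involution in it is conjugate to the central one
-/

set_option autoImplicit false
set_option maxRecDepth 10000

namespace Cfsg.Lib.UFourThreeLocal

open Subgroup

theorem twice_neg {x : ℕ} (hx : okP x = true) : pMul (pMul x 4) 4 = x := by
  have k : (eltsP.all fun r => Nat.beq (pMul (pMul r 4) 4) r) = true := by decide +kernel
  exact Nat.eq_of_beq_eq_true (List.all_eq_true.1 k x (mem_eltsP.2 hx))

theorem sign_parity (t u : ℕ) (ht : t < 4) (hu : u < 4) : ∀ (r : ℕ) (f : ℕ → ℕ), f (f r) = r →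
    (if Nat.beq (t / 2 * (u % 2)) 1 && true then f (if Nat.beq (t / 2 * (u / 2)) 1 && true then f r else r)
      else if Nat.beq (t / 2 * (u / 2)) 1 && true then f r else r) =
    if Nat.beq ((t / 2 * (u / 2) + t / 2 * (u % 2)) % 2) 1 then f r else r := by
  intro r f hf
  interval_cases t <;> interval_cases u <;> first | rfl | exact hf

theorem pMul_ok {x y : ℕ} (hx : okP x = true) (hy : okP y = true) : okP (pMul x y) = true := by
  obtain ⟨-, x1, x2, -⟩ := okP_bounds hx
  obtain ⟨-, y1, y2, -⟩ := okP_bounds hy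
  exact (canon_eq (sMul_lt x1 y1) (sMul_lt x2 y2)).1

theorem pAct_ok : ([0, 1, 2, 3].all fun t => eltsP.all fun x => okP (pAct t x)) = true := by decide +kernel

theorem part_ok {h g : ℕ} (hh : okH h = true) (hg : okH g = true) :
    okP (pMul (h % 576) (pAct (h / 576) (g % 576))) = true := by
  obtain ⟨h1, h2⟩ := okH_bounds hh
  obtain ⟨-, g2⟩ := okH_bounds hg
  exact pMul_ok h2 (List.all_eq_true.1 (List.all_eq_true.1 pAct_ok _ (by simp; omega)) _ (mem_eltsP.2 g2))

theorem mulP_true {h g : ℕ} (hh : okH h = true) (hg : okH g = true) : mulP true true h g = mulH h g :=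
  congrArg (fun r => 576 * ((h / 576 % 2 + g / 576 % 2) % 2 + 2 * ((h / 576 / 2 + g / 576 / 2) % 2)) + r)
    (sign_parity (h / 576) (g / 576) (okH_bounds hh).1 (okH_bounds hg).1
      (pMul (h % 576) (pAct (h / 576) (g % 576))) (fun r => pMul r 4) (twice_neg (part_ok hh hg)))

theorem inv_classes : (elts.all fun h => !Nat.beq (mulH h h) 0 || Nat.beq h 0 || Nat.beq h 4 ||
    elts.any fun x => Nat.beq (conjH x h) 25 || (Nat.beq (h / 576) 1 && Nat.beq (conjH x h) 576) ||
      (Nat.beq (h / 576) 3 && Nat.beq (conjH x h) 1728)) = true := by decide +kernel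

/-- The centraliser in coordinates. -/
structure Loc {G : Type*} [Group G] (z : G) where
  /-- The element of a code. -/
  ψ : ℕ → G
  mul : ∀ {h g : ℕ}, okH h = true → okH g = true → ψ (mulH h g) = ψ h * ψ g
  ok : ∀ {h g : ℕ}, okH h = true → okH g = true → okH (mulH h g) = true
  inj : ∀ {h g : ℕ}, okH h = true → okH g = true → ψ h = ψ g → h = g
  cent : ∀ {h : ℕ}, okH h = true → Commute (ψ h) z
  surj : ∀ {c : G}, Commute c z → ∃ h, okH h = true ∧ ψ h = c
  z_eq : ψ 4 = z
  fused : ∀ {h : ℕ}, okH h = true → mulH h h = 0 → h ≠ 0 → IsConj z (ψ h)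

namespace Loc

variable {G : Type*} [Group G] {z : G} (L : Loc z)

include L in
theorem z_ne : z ≠ 1 := by
  intro e
  have h0 : L.ψ 0 = 1 := by
    have := L.mul (h := 0) (g := 0) (by decide) (by decide)
    rw [show mulH 0 0 = 0 from rfl] at this
    exact left_eq_mul.1 this
  have := L.inj (h := 4) (g := 0) (by decide) (by decide) (by rw [L.z_eq, h0, e])
  omega

theorem psi_zero : L.ψ 0 = 1 := by
  have := L.mul (h := 0) (g := 0) (by decide) (by decide)
  rw [show mulH 0 0 = 0 from rfl] at this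
  exact left_eq_mul.1 this

theorem inv {h : ℕ} (hh : okH h = true) : okH (invH h) = true ∧ L.ψ (invH h) = (L.ψ h)⁻¹ := by
  have := elts_spec inv_check hh
  simp only [Bool.and_eq_true, Nat.beq_eq] at this
  obtain ⟨⟨⟨⟨h1, h2⟩, -⟩, -⟩, -⟩ := this
  refine ⟨h1, eq_inv_of_mul_eq_one_right ?_⟩
  rw [← L.mul hh h1, h2, L.psi_zero]

theorem conj {h g : ℕ} (hh : okH h = true) (hg : okH g = true) :
    okH (conjH h g) = true ∧ L.ψ (conjH h g) = L.ψ h * L.ψ g * (L.ψ h)⁻¹ := by
  obtain ⟨h1, h2⟩ := L.inv hh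
  exact ⟨L.ok (L.ok hh hg) h1, by rw [conjH, L.mul (L.ok hh hg) h1, L.mul hh hg, h2]⟩

/-- The coordinates of a conjugate. -/
def map (g : G) : Loc (g * z * g⁻¹) where
  ψ h := g * L.ψ h * g⁻¹
  mul hh hg := by rw [L.mul hh hg]; group
  ok := L.ok
  inj hh hg e := L.inj hh hg (mul_left_cancel (mul_right_cancel e))
  cent hh := (Commute.conj_iff g).2 (L.cent hh)
  surj {c} hc := by
    have h := (Commute.conj_iff g⁻¹).2 hc
    rw [show g⁻¹ * (g * z * g⁻¹) * g⁻¹⁻¹ = z by group] at h
    obtain ⟨k, hk, e⟩ := L.surj h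
    exact ⟨k, hk, by rw [e]; group⟩
  z_eq := by rw [L.z_eq]
  fused hh h0 h1 := by
    refine ((isConj_iff.2 ⟨g⁻¹, ?_⟩ : IsConj (g * z * g⁻¹) z).trans (L.fused hh h0 h1)).trans (isConj_iff.2 ⟨g, rfl⟩)
    group

end Loc

theorem coset_mul {h g : ℕ} (hh : okH h = true) (hg : okH g = true) :
    mulH h g / 576 = (h / 576 % 2 + g / 576 % 2) % 2 + 2 * ((h / 576 / 2 + g / 576 / 2) % 2) := by
  have hp := part_ok hh hg
  have hlt : ∀ c : Bool, (if c then pMul (pMul (h % 576) (pAct (h / 576) (g % 576))) 4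
      else pMul (h % 576) (pAct (h / 576) (g % 576))) < 576 := fun c => by
    cases c
    · exact (okP_bounds hp).1
    · exact (okP_bounds (pMul_ok hp (by decide))).1
  have key : ∀ T r : ℕ, r < 576 → (576 * T + r) / 576 = T := fun T r hr => by omega
  exact key _ _ (hlt _)

theorem coset_conj {x h : ℕ} (hx : okH x = true) (hh : okH h = true) (h1 : okH (mulH x h) = true) :
    conjH x h / 576 = h / 576 := by
  have e0 := elts_spec inv_check hx
  simp only [Bool.and_eq_true, Nat.beq_eq] at e0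
  obtain ⟨⟨⟨⟨hi, hm⟩, -⟩, -⟩, -⟩ := e0
  have k2 := coset_mul hx hi
  rw [hm] at k2
  rw [conjH, coset_mul h1 hi, coset_mul hx hh]
  have := (okH_bounds hh).1
  omega

attribute [local irreducible] elts mulH conjH invH okH mulP in
theorem exists_loc {G : Type*} [Group G] [Finite G] {z : G} (h : Nonempty (CoordP z)) : Nonempty (Loc z) := by
  obtain ⟨C⟩ := h
  obtain ⟨⟨s1, s2⟩, hrep⟩ := C.signs
  have hmul : ∀ {h g : ℕ}, okH h = true → okH g = true →
      C.psi (mulH h g) = C.psi h * C.psi g ∧ okH (mulH h g) = true := fun hh hg => by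
    have := C.psi_mulP hh hg
    rwa [s1, s2, mulP_true hh hg] at this
  have hinv : ∀ {h : ℕ}, okH h = true → C.psi (invH h) = (C.psi h)⁻¹ ∧ okH (invH h) = true := fun {h} hh => by
    have := elts_spec inv_check hh
    simp only [Bool.and_eq_true, Nat.beq_eq] at this
    obtain ⟨⟨⟨⟨h1, h2⟩, -⟩, -⟩, -⟩ := this
    exact ⟨eq_inv_of_mul_eq_one_right (by rw [← (hmul hh h1).1, h2, C.psi_zero]), h1⟩
  have hconj : ∀ {h g : ℕ}, okH h = true → okH g = true → IsConj (C.psi g) (C.psi (conjH h g)) := fun {h g} hh hg => by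
    refine isConj_iff.2 ⟨C.psi h, ?_⟩
    rw [conjH, (hmul (hmul hh hg).2 (hinv hh).2).1, (hmul hh hg).1, (hinv hh).1]
  have h25 : IsConj z (C.psi 25) := by
    obtain ⟨g, M⟩ := C.K.exists_meet
    exact isConj_iff.2 ⟨g, by rw [M.fwd, C.psi_okP (show okP 25 = true by decide)]⟩
  have hr : ∀ t, t = 1 ∨ t = 3 → IsConj z (C.psi (576 * t)) := by
    intro t ht
    obtain ⟨h, hh, ht', h2, hc⟩ := hrep t ht
    rw [s1, s2, mulP_true hh hh] at h2
    have := elts_spec inv_classes hh
    simp only [h2, Nat.beq_refl, Bool.not_true, Bool.false_or, Bool.or_eq_true, Nat.beq_eq, List.any_eq_true,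
      Bool.and_eq_true, ht'] at this
    rcases this with (h0 | h0) | ⟨x, hx, (hq | hq) | hq⟩
    · omega
    · omega
    · exfalso
      have e := coset_conj (mem_elts.1 hx) hh (hmul (mem_elts.1 hx) hh).2
      rw [hq] at e
      omega
    · obtain ⟨rfl, hq⟩ := hq
      have e := hconj (mem_elts.1 hx) hh
      rw [hq] at e
      exact hc.trans e
    · obtain ⟨rfl, hq⟩ := hq
      have e := hconj (mem_elts.1 hx) hh
      rw [hq] at e
      exact hc.trans e
  exact ⟨{
    ψ := C.psi
    mul := fun hh hg => (hmul hh hg).1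
    ok := fun hh hg => (hmul hh hg).2
    inj := C.psi_inj
    cent := C.psi_cent
    surj := fun hc => C.psi_surj hc
    z_eq := C.psi_four
    fused := fun {h} hh h2 h0 => by
      have := elts_spec inv_classes hh
      simp only [h2, Nat.beq_refl, Bool.not_true, Bool.false_or, Bool.or_eq_true, Nat.beq_eq, List.any_eq_true,
        Bool.and_eq_true] at this
      rcases this with (h0' | h4) | ⟨x, hx, (hq | hq) | hq⟩
      · exact absurd h0' h0
      · rw [h4, C.psi_four]
      · exact h25.trans (hq ▸ (hconj (mem_elts.1 hx) hh)).symm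
      · exact (hr 1 (Or.inl rfl)).trans (hq.2 ▸ (hconj (mem_elts.1 hx) hh)).symm
      · exact (hr 3 (Or.inr rfl)).trans (hq.2 ▸ (hconj (mem_elts.1 hx) hh)).symm }⟩

/-- The hypotheses of U₄(3) type give the coordinates of the centraliser. -/
theorem loc_of_comp {G : Type*} [Group G] [Finite G] {z : G} (h : Nonempty (Comp z)) : Nonempty (Loc z) :=
  exists_loc (exists_coordP (exists_coord0 h))

end Cfsg.Lib.UFourThreeLocal
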