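import Cfsg.Agent.Lib.UFourThreeLocal.Action

/-!
# A conjugate of the involution in the two-core
-/

set_option autoImplicit false
set_option maxRecDepth 10000

namespace Cfsg.Lib.UFourThreeLocal

/-- The codes of the intersection of the two cores. -/
def meetU : List ℕ := [0, 4, 25, 29]

theorem move_to_25 : (eltsQ.all fun q => !Nat.beq (pMul q q) 0 || Nat.beq q 0 || Nat.beq q 4 ||
    eltsP.any fun x => Nat.beq (pMul (pMul x q) (pInv x)) 25) = true := by decide +kernel

/-- No type with different twists meets the conditions. -/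
theorem type_cond : ([false, true].all fun a => [false, true].all fun b₁ => [false, true].all fun b₂ =>
    b₁ == b₂ || eltsP.all fun x => !(Nat.beq (typeAct a b₁ b₂ x 25) 25 &&
      meetU.any (Nat.beq (pMul (typeAct a b₁ b₂ x 24) (pInv 24))) &&
      meetU.any (Nat.beq (pMul (typeAct a b₁ b₂ x 50) (pInv 50))))) = true := by decide +kernel

theorem typeAct_ok : ([false, true].all fun a => [false, true].all fun b₁ => [false, true].all fun b₂ =>
    eltsP.all fun x => [24, 25, 50].all fun q => okP (typeAct a b₁ b₂ x q)) = true := by decide +kernel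

namespace Comp

variable {G : Type*} [Group G] {z : G} (K : Comp z)

/-- A conjugate of `z` and the reverse conjugate both have code 25. -/
structure Meet (g : G) : Prop where
  fwd : g * z * g⁻¹ = K.phi 25
  bwd : g⁻¹ * z * g = K.phi 25

theorem exists_meet [Finite G] : ∃ g, K.Meet g := by
  obtain ⟨g₀, ⟨p, hp, q, hq, h0⟩, hne0⟩ := K.fused
  -- a code for the conjugate
  obtain ⟨r, hr, hre⟩ := K.inQ_iff.1 ⟨p, hp, q, hq, h0⟩
  have hz2 := K.z_sq
  have hsq : pMul r r = 0 := K.phi_inj (K.phi_mul (okQ_P hr) (okQ_P hr)).1 (by decide) (by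
    rw [(K.phi_mul (okQ_P hr) (okQ_P hr)).2, hre, K.phi_zero,
      show g₀ * z * g₀⁻¹ * (g₀ * z * g₀⁻¹) = g₀ * (z * z) * g₀⁻¹ by group, hz2]; group)
  have h := List.all_eq_true.1 move_to_25 r (mem_eltsQ.2 hr)
  simp only [hsq, Nat.beq_refl, Bool.not_true, Bool.false_or, Bool.or_eq_true, Nat.beq_eq, List.any_eq_true] at h
  rcases h with (h | h) | ⟨x, hx, hx25⟩
  · exfalso
    rw [h, K.phi_zero] at hre
    exact K.z_ne (by rw [show z = g₀⁻¹ * (g₀ * z * g₀⁻¹) * g₀ by group, ← hre]; group)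
  · exact absurd (by rw [← hre, h, K.phi_four]) hne0
  rw [mem_eltsP] at hx
  set g₁ := K.phi x * g₀
  have h1 : g₁ * z * g₁⁻¹ = K.phi 25 := by
    rw [← hx25, (K.phi_mul (K.phi_mul hx (okQ_P hr)).1 (K.phi_inv hx).1).2, (K.phi_mul hx (okQ_P hr)).2,
      (K.phi_inv hx).2, hre]
    simp only [g₁]; group
  -- the reverse conjugate
  have hcv : ∀ q, okQ q = true → Commute (K.phi q) (K.phi 25) → Commute (g₁⁻¹ * K.phi q * g₁) z := by
    intro q hq hc
    rw [← h1] at hc
    rw [commute_iff_eq]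
    calc g₁⁻¹ * K.phi q * g₁ * z = g₁⁻¹ * (K.phi q * (g₁ * z * g₁⁻¹)) * g₁ := by group
      _ = g₁⁻¹ * (g₁ * z * g₁⁻¹ * K.phi q) * g₁ := by rw [hc.eq]
      _ = z * (g₁⁻¹ * K.phi q * g₁) := by group
  have comm : ∀ q r, okP q = true → okP r = true → pMul q r = pMul r q → Commute (K.phi q) (K.phi r) := by
    intro q r hq hr e
    rw [commute_iff_eq, ← (K.phi_mul hq hr).2, ← (K.phi_mul hr hq).2, e]
  obtain ⟨y, hy, hye⟩ := K.commutator_mem (hcv 24 (by decide) (comm _ _ (by decide) (by decide) (by decide +kernel)))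
    (hcv 50 (by decide) (comm _ _ (by decide) (by decide) (by decide +kernel)))
  have hz4 : K.phi 24 * K.phi 50 * (K.phi 24)⁻¹ * (K.phi 50)⁻¹ = z := by
    rw [← (K.phi_inv (x := 24) (by decide)).2, ← (K.phi_inv (x := 50) (by decide)).2,
      ← (K.phi_mul (x := 24) (y := 50) (by decide) (by decide)).2,
      ← (K.phi_mul (x := pMul 24 50) (y := pInv 24) (by decide +kernel) (by decide +kernel)).2,
      ← (K.phi_mul (x := pMul (pMul 24 50) (pInv 24)) (y := pInv 50) (by decide +kernel) (by decide +kernel)).2,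
      show pMul (pMul (pMul 24 50) (pInv 24)) (pInv 50) = 4 by decide +kernel, K.phi_four]
  have hy' : K.phi y = g₁⁻¹ * z * g₁ := by
    rw [hye]; conv_rhs => rw [← hz4]
    group
  have hyQ : okQ y = true := K.inQ_of_pow hy (by
    rw [hy', show (g₁⁻¹ * z * g₁) ^ 4 = (g₁⁻¹ * z * g₁⁻¹⁻¹) ^ 4 by group, conj_pow,
      show z ^ 4 = (z * z) * (z * z) by simp only [pow_succ, pow_zero, one_mul, mul_assoc], hz2]
    group)
  have hsq' : pMul y y = 0 := K.phi_inj (K.phi_mul hy hy).1 (by decide) (by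
    rw [(K.phi_mul hy hy).2, hy', K.phi_zero,
      show g₁⁻¹ * z * g₁ * (g₁⁻¹ * z * g₁) = g₁⁻¹ * (z * z) * g₁ by group, hz2]; group)
  have h := List.all_eq_true.1 move_to_25 y (mem_eltsQ.2 hyQ)
  simp only [hsq', Nat.beq_refl, Bool.not_true, Bool.false_or, Bool.or_eq_true, Nat.beq_eq, List.any_eq_true] at h
  rcases h with (h | h) | ⟨x', hx', hx25'⟩
  · exfalso
    rw [h, K.phi_zero] at hy'
    exact K.z_ne (by rw [show z = g₁ * (g₁⁻¹ * z * g₁) * g₁⁻¹ by group, ← hy']; group)
  · exfalso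
    rw [h, K.phi_four] at hy'
    have e : g₁ * z * g₁⁻¹ = z := by conv_lhs => rw [hy']
                                     group
    have := K.phi_inj (x := 25) (y := 4) (by decide) (by decide) (by rw [← h1, e, K.phi_four])
    omega
  rw [mem_eltsP] at hx'
  have hc := K.phi_cent hx'
  refine ⟨g₁ * (K.phi x')⁻¹, ?_, ?_⟩
  · rw [← h1, mul_inv_rev, inv_inv]
    calc g₁ * (K.phi x')⁻¹ * z * (K.phi x' * g₁⁻¹) = g₁ * ((K.phi x')⁻¹ * (z * K.phi x')) * g₁⁻¹ := by group
      _ = g₁ * z * g₁⁻¹ := by rw [← hc.eq]; group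
  · rw [← hx25', (K.phi_mul (K.phi_mul hx' hy).1 (K.phi_inv hx').1).2, (K.phi_mul hx' hy).2, (K.phi_inv hx').2, hy']
    group

variable {K} {g : G}

theorem Meet.inv (M : K.Meet g) : K.Meet g⁻¹ := ⟨by rw [inv_inv, M.bwd], by rw [inv_inv, M.fwd]⟩

/-- The intersection of the two cores. -/
theorem Meet.inter_eq (M : K.Meet g) {q : ℕ} (hq : okQ q = true) (h : K.InQ (g⁻¹ * K.phi q * g)) :
    q ∈ meetU := by
  classical
  have hIn : ∀ r, okQ r = true → K.InQ (K.phi r) := fun r hr => K.inQ_iff.2 ⟨r, hr, rfl⟩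
  have hne : g * z * g⁻¹ ≠ z := by
    rw [M.fwd]
    exact fun e => by have := K.phi_inj (by decide) (by decide) (e.trans K.phi_four.symm); omega
  have hcard := K.inter g (K.inQ_iff.2 ⟨25, by decide, M.fwd.symm⟩) hne
  have hzQ : K.InQ (g⁻¹ * z * g) := by rw [M.bwd]; exact hIn 25 (by decide)
  have hz0 : K.InQ z := by have := hIn 4 (by decide); rwa [K.phi_four] at this
  let S : Set G := {x | K.InQ x ∧ K.InQ (g⁻¹ * x * g)}
  have hS : {x : G | (∃ p < 8, ∃ q < 8, x = K.u₁ p * K.u₂ q) ∧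
      ∃ p < 8, ∃ q < 8, x = g * (K.u₁ p * K.u₂ q) * g⁻¹} = S := by
    ext x
    refine and_congr_right fun _ => ⟨?_, ?_⟩
    · rintro ⟨p, hp, r, hr, rfl⟩; exact ⟨p, hp, r, hr, by group⟩
    · rintro ⟨p, hp, r, hr, e⟩; exact ⟨p, hp, r, hr, by rw [← e]; group⟩
  rw [hS] at hcard
  have e29 : K.phi 29 = z * K.phi 25 := by
    have h := (K.phi_mul (x := 4) (y := 25) (by decide) (by decide)).2
    rw [K.phi_four] at h
    exact h
  have hsub : (meetU.toFinset.image K.phi : Set G) ⊆ S := by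
    intro x hx
    simp only [Finset.coe_image, Set.mem_image, Finset.mem_coe, List.mem_toFinset] at hx
    obtain ⟨r, hr, rfl⟩ := hx
    fin_cases hr
    · exact ⟨hIn 0 (by decide), by rw [K.phi_zero, mul_one, inv_mul_cancel, ← K.phi_zero]; exact hIn 0 (by decide)⟩
    · exact ⟨hIn 4 (by decide), by rw [K.phi_four]; exact hzQ⟩
    · exact ⟨hIn 25 (by decide), by rw [← M.fwd, show g⁻¹ * (g * z * g⁻¹) * g = z by group]; exact hz0⟩
    · refine ⟨hIn 29 (by decide), ?_⟩
      have k := (K.phi_mul (x := 25) (y := 4) (by decide) (by decide)).2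
      rw [K.phi_four] at k
      rw [e29, ← M.fwd, show g⁻¹ * (z * (g * z * g⁻¹)) * g = (g⁻¹ * z * g) * z by group, M.bwd, ← k]
      exact hIn _ (by decide +kernel)
  have hS4 : ((meetU.toFinset.image K.phi : Finset G) : Set G) = S := by
    refine Set.eq_of_subset_of_ncard_le hsub ?_ (Set.finite_of_ncard_ne_zero (by omega))
    rw [hcard, Set.ncard_coe_finset, Finset.card_image_of_injOn]
    · decide
    · intro a ha b hb e
      have hU : ∀ r ∈ meetU, okP r = true := by decide
      exact K.phi_inj (hU a (by simpa using ha)) (hU b (by simpa using hb)) e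
  have : K.phi q ∈ ((meetU.toFinset.image K.phi : Finset G) : Set G) := hS4 ▸ ⟨hIn q hq, h⟩
  simp only [Finset.coe_image, Set.mem_image, Finset.mem_coe, List.mem_toFinset] at this
  obtain ⟨r, hr, e⟩ := this
  have hU : ∀ r ∈ meetU, okP r = true := by decide
  rwa [← K.phi_inj (hU r hr) (okQ_P hq) e]

variable (K)

/-- An element of the conjugate two-core centralising `z`. -/
def lift (g : G) (a : ℕ) : G := g * K.phi a * g⁻¹

/-- What is known about an element of the conjugate two-core outside the intersection. -/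
structure Lifted (g : G) (a : ℕ) : Prop where
  cent : Commute (K.lift g a) z
  fix : Commute (K.lift g a) (K.phi 25)
  out : ¬ ∃ y, okP y = true ∧ K.phi y = K.lift g a
  comm : ∀ q, okQ q = true → pMul q 25 = pMul 25 q →
    ∃ u ∈ meetU, K.phi u = K.lift g a * K.phi q * (K.lift g a)⁻¹ * (K.phi q)⁻¹

variable {K}

theorem Meet.lifted (M : K.Meet g) {a : ℕ} (ha : okQ a = true) (hc : pMul a 25 = pMul 25 a) (hn : a ∉ meetU) :
    K.Lifted g a := by
  have comm : ∀ q, okQ q = true → pMul q 25 = pMul 25 q → Commute (K.phi q) (K.phi 25) := by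
    intro q hq e
    rw [commute_iff_eq, ← (K.phi_mul (okQ_P hq) (by decide)).2, ← (K.phi_mul (by decide) (okQ_P hq)).2, e]
  have h1 : Commute (K.lift g a) z := by
    have h := Commute.conj_iff g |>.2 (comm a ha hc)
    rwa [show g * K.phi 25 * g⁻¹ = z by rw [← M.bwd]; group] at h
  have h2 : Commute (K.lift g a) (K.phi 25) := by
    have h := Commute.conj_iff g |>.2 (K.phi_cent (okQ_P ha))
    rwa [M.fwd] at h
  have hQl : ∀ q, okQ q = true → K.InQ (g⁻¹ * K.lift g q * g) := fun q hq =>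
    K.inQ_iff.2 ⟨q, hq, by simp only [lift]; group⟩
  refine ⟨h1, h2, ?_, ?_⟩
  · rintro ⟨y, hy, hye⟩
    have hyQ : okQ y = true := K.inQ_of_pow hy (by
      rw [hye, lift, conj_pow, K.phi_pow_four ha]; group)
    have hU : ∀ u ∈ meetU, okP u = true := by decide
    have hmem := M.inter_eq hyQ (hye ▸ hQl a ha)
    have e : ∀ u ∈ meetU, ∃ u' ∈ meetU, g⁻¹ * K.phi u * g = K.phi u' := by
      intro u hu
      have hfwd : g⁻¹ * K.phi 25 * g = z := by rw [← M.fwd]; group
      fin_cases hu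
      · exact ⟨0, by decide, by rw [K.phi_zero]; group⟩
      · exact ⟨25, by decide, by rw [K.phi_four, M.bwd]⟩
      · exact ⟨4, by decide, by rw [hfwd, K.phi_four]⟩
      · refine ⟨29, by decide, ?_⟩
        have k1 : K.phi 29 = K.phi 4 * K.phi 25 := (K.phi_mul (x := 4) (y := 25) (by decide) (by decide)).2
        have k2 : K.phi 29 = K.phi 25 * K.phi 4 := (K.phi_mul (x := 25) (y := 4) (by decide) (by decide)).2
        conv_rhs => rw [k2]
        rw [k1, show g⁻¹ * (K.phi 4 * K.phi 25) * g = (g⁻¹ * K.phi 4 * g) * (g⁻¹ * K.phi 25 * g) by group,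
          K.phi_four, M.bwd, hfwd]
    obtain ⟨u, hu, hue⟩ := e y hmem
    rw [hye, lift, show g⁻¹ * (g * K.phi a * g⁻¹) * g = K.phi a by group] at hue
    exact hn (K.phi_inj (okQ_P ha) (hU u hu) hue ▸ hu)
  · intro q hq hqc
    obtain ⟨r, hr, hre⟩ := K.inQ_iff.1 (K.norm_inQ h1 (K.inQ_iff.2 ⟨q, hq, rfl⟩))
    obtain ⟨hi, hie⟩ := K.phi_inv (okQ_P hq)
    obtain ⟨hu, hue⟩ := K.phi_mul (okQ_P hr) hi
    have huQ : okQ (pMul r (pInv q)) = true := by
      have key : (eltsQ.all fun a => eltsQ.all fun b => okQ (pMul a (pInv b))) = true := by decide +kernel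
      exact List.all_eq_true.1 (List.all_eq_true.1 key r (mem_eltsQ.2 hr)) q (mem_eltsQ.2 hq)
    refine ⟨_, M.inter_eq huQ ?_, by rw [hue, hre, hie]⟩
    rw [hue, hre, hie]
    -- conjugating by `q` fixes the other core
    set e := g⁻¹ * K.phi q * g
    have he : Commute e z := by
      have h := (Commute.conj_iff g⁻¹).2 (comm q hq hqc)
      rwa [inv_inv, show g⁻¹ * K.phi 25 * g = z by rw [← M.fwd]; group] at h
    obtain ⟨t, ht, hte⟩ := K.inQ_iff.1 (K.norm_inQ he (K.inQ_iff.2
      ⟨_, (by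
        have key : (eltsQ.all fun a => okQ (pInv a)) = true := by decide +kernel
        exact List.all_eq_true.1 key a (mem_eltsQ.2 ha) : okQ (pInv a) = true), rfl⟩))
    have key : (eltsQ.all fun a => eltsQ.all fun b => okQ (pMul a b)) = true := by decide +kernel
    refine K.inQ_iff.2 ⟨pMul a t, List.all_eq_true.1 (List.all_eq_true.1 key a (mem_eltsQ.2 ha)) t (mem_eltsQ.2 ht), ?_⟩
    rw [(K.phi_mul (okQ_P ha) (okQ_P ht)).2, hte, (K.phi_inv (okQ_P ha)).2]
    simp only [e, lift]
    group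

theorem Meet.type_of_lifted (M : K.Meet g) {a : ℕ} (ha : okQ a = true) (hc : pMul a 25 = pMul 25 a) (hn : a ∉ meetU) :
    ∃ s b : Bool, ∃ x, K.HasType s b b x (K.lift g a) ∧ (s = true ∨ b = true) := by
  have L := M.lifted ha hc hn
  obtain ⟨s, b₁, b₂, x, hx, hA⟩ := K.exists_type L.cent
  have hmem : ∀ {b : Bool}, b ∈ [false, true] := fun {b} => by cases b <;> simp
  have hok : ∀ q ∈ [24, 25, 50], okP (typeAct s b₁ b₂ x q) = true :=
    List.all_eq_true.1 (List.all_eq_true.1 (List.all_eq_true.1 (List.all_eq_true.1 (List.all_eq_true.1 typeAct_ok s hmem)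
      b₁ hmem) b₂ hmem) x (mem_eltsP.2 hx))
  have hcond := List.all_eq_true.1 (List.all_eq_true.1 (List.all_eq_true.1 type_cond s hmem) b₁ hmem) b₂ hmem
  rw [Bool.or_eq_true, beq_iff_eq] at hcond
  have e : b₁ = b₂ := by
    refine hcond.resolve_right fun hall => ?_
    have h := List.all_eq_true.1 hall x (mem_eltsP.2 hx)
    have h25 : typeAct s b₁ b₂ x 25 = 25 := K.phi_inj (hok 25 (by simp)) (by decide) (by
      rw [← hA 25 (by decide), L.fix.eq, mul_inv_cancel_right])
    have hq : ∀ q ∈ [24, 50], meetU.any (Nat.beq (pMul (typeAct s b₁ b₂ x q) (pInv q))) = true := by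
      intro q hq
      have hqQ : okQ q = true ∧ pMul q 25 = pMul 25 q := by
        revert q; decide +kernel
      obtain ⟨u, hu, hue⟩ := L.comm q hqQ.1 hqQ.2
      obtain ⟨hi, hie⟩ := K.phi_inv (okQ_P hqQ.1)
      have hok' := hok q (by fin_cases hq <;> simp)
      obtain ⟨hm, hme⟩ := K.phi_mul hok' hi
      have hU : ∀ u ∈ meetU, okP u = true := by decide
      refine List.any_eq_true.2 ⟨u, hu, Nat.beq_eq ▸ (K.phi_inj hm (hU u hu) ?_).symm ▸ rfl⟩
      rw [hme, ← hA q hqQ.1, hie, hue]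
    simp only [h25, Nat.beq_refl, Bool.true_and, hq 24 (by simp), hq 50 (by simp), Bool.not_true,
      Bool.false_eq_true] at h
  subst e
  refine ⟨s, b₁, x, ⟨hx, hA⟩, ?_⟩
  by_contra hno
  push Not at hno
  obtain ⟨h1, h2⟩ := hno
  replace h1 : s = false := by simpa using h1
  replace h2 : b₁ = false := by simpa using h2
  subst h1 h2
  exact L.out (K.mem_of_type_zero L.cent ⟨hx, hA⟩)

/-- Among the three cosets of the conjugate core one gives an involution exchanging the components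
and one gives an element inducing outer automorphisms on both components. -/
theorem Meet.exists_swap (M : K.Meet g) : ∃ a ∈ [50, 78], ∃ b x, K.HasType true b b x (K.lift g a) := by
  obtain ⟨s₁, b₁, x₁, h₁, o₁⟩ := M.type_of_lifted (a := 50) (by decide) (by decide +kernel) (by decide)
  obtain ⟨s₂, b₂, x₂, h₂, o₂⟩ := M.type_of_lifted (a := 78) (by decide) (by decide +kernel) (by decide)
  cases s₁
  case true => exact ⟨50, by simp, b₁, x₁, h₁⟩
  cases s₂
  case true => exact ⟨78, by simp, b₂, x₂, h₂⟩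
  exfalso
  obtain rfl : b₁ = true := by simpa using o₁
  obtain rfl : b₂ = true := by simpa using o₂
  have L1 := M.lifted (a := 50) (by decide) (by decide +kernel) (by decide)
  have L2 := M.lifted (a := 78) (by decide) (by decide +kernel) (by decide)
  obtain ⟨y, hy, hye⟩ := K.same_type L1.cent L2.cent h₁ h₂
  have L3 := M.lifted (a := pMul 78 (pInv 50)) (by decide +kernel) (by decide +kernel) (by decide +kernel)
  refine L3.out ⟨y, hy, ?_⟩
  rw [hye, lift, lift, lift, (K.phi_mul (x := 78) (y := pInv 50) (by decide) (by decide +kernel)).2,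
    (K.phi_inv (x := 50) (by decide)).2]
  group

end Comp

end Cfsg.Lib.UFourThreeLocal
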