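import Mathlib

/-!
# The centraliser of an involution in U₄(3) as numeric codes

An element of SL(2, 3) is `8 * k + q` (a quaternion unit followed by the `k`th power of the element
of order three), a pair modulo the common sign is `24 * p + q` with `p` of positive sign, and an
element of the centraliser is `576 * t + x`, `t` recording the powers of the swap and of the outer
element of order four.
-/

set_option autoImplicit false

namespace Cfsg.Lib.UFourThreeLocal

/-- Multiplication of the quaternion units. -/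
def qTab : List ℕ :=
  [0, 1, 2, 3, 4, 5, 6, 7, 1, 4, 3, 6, 5, 0, 7, 2, 2, 7, 4, 1, 6, 3, 0, 5, 3, 2, 5, 4, 7, 6, 1, 0,
    4, 5, 6, 7, 0, 1, 2, 3, 5, 0, 7, 2, 1, 4, 3, 6, 6, 3, 0, 5, 2, 7, 4, 1, 7, 6, 1, 0, 3, 2, 5, 4]

/-- The powers of the automorphism of order three of the units. -/
def aTab : List ℕ := [0, 1, 2, 3, 4, 5, 6, 7, 0, 2, 3, 1, 4, 6, 7, 5, 0, 3, 1, 2, 4, 7, 5, 6]

/-- The outer automorphism of the units. -/
def tTab : List ℕ := [0, 5, 7, 6, 4, 1, 3, 2]

/-- The inverses in SL(2, 3). -/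
def iTab : List ℕ :=
  [0, 5, 6, 7, 4, 1, 2, 3, 16, 23, 21, 22, 20, 19, 17, 18, 8, 14, 15, 13, 12, 10, 11, 9]

/-- Multiplication in SL(2, 3). -/
def sMul (a b : ℕ) : ℕ :=
  8 * ((a / 8 + b / 8) % 3) + qTab.getD ((a % 8) * 8 + aTab.getD (8 * (a / 8) + b % 8) 0) 0

/-- Inversion in SL(2, 3). -/
def sInv (a : ℕ) : ℕ := iTab.getD a 0

/-- Multiplication by the central involution of SL(2, 3). -/
def sNeg (a : ℕ) : ℕ := 8 * (a / 8) + (a % 8 + 4) % 8

/-- The outer automorphism of SL(2, 3). -/
def sTau (a : ℕ) : ℕ := 8 * ((3 - a / 8) % 3) + tTab.getD (a % 8) 0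

/-- The code of a pair modulo sign. -/
def canon (p q : ℕ) : ℕ := if Nat.ble 4 (p % 8) then sNeg p * 24 + sNeg q else p * 24 + q

/-- Multiplication of pairs. -/
def pMul (x y : ℕ) : ℕ := canon (sMul (x / 24) (y / 24)) (sMul (x % 24) (y % 24))

/-- Inversion of pairs. -/
def pInv (x : ℕ) : ℕ := canon (sInv (x / 24)) (sInv (x % 24))

/-- The diagonal outer automorphism of pairs. -/
def pTau (x : ℕ) : ℕ := canon (sTau (x / 24)) (sTau (x % 24))

/-- The exchange of the two factors. -/
def pSwap (x : ℕ) : ℕ := canon (x % 24) (x / 24)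

/-- The action of a coset representative on pairs. -/
def pAct (t x : ℕ) : ℕ :=
  let y := if Nat.ble 2 t then pTau x else x
  if Nat.beq (t % 2) 1 then pSwap y else y

/-- Multiplication of the codes. -/
def mulH (h g : ℕ) : ℕ :=
  let t := h / 576
  let u := g / 576
  let r := pMul (h % 576) (pAct t (g % 576))
  let r' := if Nat.beq ((t / 2 * (u / 2) + t / 2 * (u % 2)) % 2) 1 then pMul r 4 else r
  576 * ((t % 2 + u % 2) % 2 + 2 * ((t / 2 + u / 2) % 2)) + r'

/-- The inverses of the four coset representatives. -/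
def tInv : List ℕ := [0, 576, 1156, 1728]

/-- Inversion of the codes. -/
def invH (h : ℕ) : ℕ := mulH (tInv.getD (h / 576) 0) (pInv (h % 576))

/-- Conjugation of the codes. -/
def conjH (h g : ℕ) : ℕ := mulH (mulH h g) (invH h)

/-- The valid codes. -/
def okH (h : ℕ) : Bool := Nat.blt h 2304 && Nat.blt (h % 576 / 24 % 8) 4

/-- The valid codes as a list. -/
def elts : List ℕ := (List.range 2304).filter okH

theorem elts_spec {f : ℕ → Bool} (h : elts.all f = true) {n : ℕ} (hn : okH n = true) : f n = true := by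
  refine List.all_eq_true.1 h n ?_
  rw [elts, List.mem_filter, List.mem_range]
  refine ⟨?_, hn⟩
  rw [okH, Bool.and_eq_true, Nat.blt_eq] at hn
  exact hn.1

theorem mem_elts {n : ℕ} : n ∈ elts ↔ okH n = true := by
  rw [elts, List.mem_filter, List.mem_range]
  refine ⟨fun h => h.2, fun h => ⟨?_, h⟩⟩
  rw [okH, Bool.and_eq_true, Nat.blt_eq] at h
  exact h.1

theorem length_elts : elts.length = 1152 := by decide +kernel

theorem inv_check : (elts.all fun h => okH (invH h) && Nat.beq (mulH h (invH h)) 0 &&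
    Nat.beq (mulH (invH h) h) 0 && Nat.beq (mulH h 0) h && Nat.beq (mulH 0 h) h) = true := by
  decide +kernel

theorem centraliser_diag : (elts.all fun h => Nat.beq (mulH h 200) (mulH 200 h) ==
    [0, 4, 8, 12, 16, 20, 192, 196, 200, 204, 208, 212, 384, 388, 392, 396, 400, 404, 576, 580,
      584, 588, 592, 596, 768, 772, 776, 780, 784, 788, 960, 964, 968, 972, 976, 980].any (Nat.beq h)) = true := by
  decide +kernel

end Cfsg.Lib.UFourThreeLocal
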