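import Cfsg.Agent.Lib.UFourThreeLocal.Diag
import Mathlib.GroupTheory.Nilpotent

/-!
# The centraliser of the Sylow three-subgroup of an involution centraliser is bigger
-/

set_option autoImplicit false
set_option maxRecDepth 10000
set_option linter.unusedSectionVars false

namespace Cfsg.Lib.UFourThreeLocal

open Subgroup

attribute [local irreducible] elts mulH conjH invH okH pow16 pow3 pow9 commH eltsS sylS eCodes

/-- In a finite group an element conjugating a subgroup into itself normalises it. -/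
theorem normalizer_of_into {G : Type*} [Group G] [Finite G] {H : Subgroup G} {g : G}
    (h : ∀ x ∈ H, g * x * g⁻¹ ∈ H) : g ∈ normalizer (H : Set G) := by
  have e : H.map (MulAut.conj g).toMonoidHom = H := eq_of_le_of_card_ge
    (by rintro - ⟨x, hx, rfl⟩; exact h x hx)
    (Nat.card_congr (H.equivMapOfInjective _ (MulAut.conj g).injective).toEquiv).le
  refine mem_normalizer_iff.2 fun x => ⟨h x, fun hx => ?_⟩
  obtain ⟨w, hw, e'⟩ : g * x * g⁻¹ ∈ H.map (MulAut.conj g).toMonoidHom := e.symm ▸ hx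
  change g * w * g⁻¹ = g * x * g⁻¹ at e'
  rwa [← mul_left_cancel (mul_right_cancel e')]

namespace Loc

variable {G : Type*} [Group G] {z : G} (L : Loc z)

theorem eCodes_ok {h : ℕ} (hh : h ∈ eCodes) : okH h = true := by
  have k := List.all_eq_true.1 eCodes_group h hh
  simp only [Bool.and_eq_true] at k
  exact k.1.1.1.1.1.1

/-- The elementary abelian group of order sixteen. -/
def eSub : Subgroup G :=
  L.listSub eCodes (fun _ h => eCodes_ok h) (by with_unfolding_all decide)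
    (fun h hh g hg => by
      have k := List.all_eq_true.1 eCodes_group h hh
      simp only [Bool.and_eq_true, List.all_eq_true, List.elem_eq_mem, decide_eq_true_eq] at k
      exact k.2 g hg)
    (fun h hh => by
      have k := List.all_eq_true.1 eCodes_group h hh
      simp only [Bool.and_eq_true, List.elem_eq_mem, decide_eq_true_eq] at k
      exact k.1.1.1.1.2)

theorem mem_eSub {y : G} : y ∈ L.eSub ↔ ∃ h ∈ eCodes, L.ψ h = y := Iff.rfl

theorem eSub_le_normalizer [Finite G] {g : G} (h : ∀ e ∈ L.eSub, g * e * g⁻¹ ∈ L.eSub) :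
    g ∈ normalizer (L.eSub : Set G) := normalizer_of_into h

variable [Finite G]

theorem card_ySub_eq {u : G} {T Y : Subgroup G} {g : G} (hY : Y = L.ySub.map (MulAut.conj g).toMonoidHom)
    (hT : T = L.tSub.map (MulAut.conj g).toMonoidHom) (_X : Vertex (L.ψ 200) u T Y) :
    (L.ySub = L.tSub → Y = T) ∧ Nat.card Y = Nat.card L.ySub := by
  subst hY hT
  exact ⟨fun e => by rw [e], (Nat.card_congr (L.ySub.equivMapOfInjective _ (MulAut.conj g).injective).toEquiv).symm⟩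

/-- The Sylow three-subgroup of the centraliser when its centraliser is small. -/
theorem isSylow (hY : L.ySub = L.tSub) : ∃ P : Sylow 3 G, (P : Subgroup G) = L.tSub := by
  have : Fact (Nat.Prime 3) := ⟨Nat.prime_three⟩
  have X := L.base_vertex (x := 200) (by simp)
  have hT : IsPGroup 3 L.tSub := IsPGroup.of_card (n := 2) (by rw [X.card_T]; norm_num)
  obtain ⟨P, hP⟩ := hT.exists_le_sylow
  refine ⟨P, le_antisymm ?_ hP⟩
  by_contra hn
  have := P.2.isNilpotent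
  have hlt : (L.tSub.subgroupOf (P : Subgroup G)) < ⊤ := lt_top_iff_ne_top.2 fun e =>
    hn (subgroupOf_eq_top.1 e)
  obtain ⟨n, hnN, hnT⟩ := SetLike.exists_of_lt (Group.normalizerCondition_of_isNilpotent _ hlt)
  have hnorm : ∀ t ∈ L.tSub, (n : G)⁻¹ * t * n ∈ L.tSub := fun t ht => by
    have := (mem_normalizer_iff.1 (inv_mem hnN) ⟨t, hP ht⟩).1 (mem_subgroupOf.2 ht)
    simpa [mem_subgroupOf] using this
  have hnz : Commute (n : G) z := by
    have hc : ∀ t ∈ L.tSub, Commute ((n : G) * z * (n : G)⁻¹) t := fun t ht =>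
      (commute_iff_conj _ _ _).2 (L.tSub_comm_z (hnorm t ht)).symm
    have := X.inv_unique hY hc
      (by rw [show (n : G) * z * (n : G)⁻¹ * (n * z * (n : G)⁻¹) = n * (z * z) * (n : G)⁻¹ by group, L.z_sq]; group)
      (fun e => L.z_ne (conj_eq_one_iff.1 e))
    exact mul_inv_eq_iff_eq_mul.1 this
  have hle : L.tSub ≤ (P : Subgroup G) ⊓ centralizer ({z} : Set G) := le_inf hP fun t ht =>
    mem_centralizer_singleton_iff.2 (L.tSub_comm_z ht)
  obtain ⟨k, hk⟩ := (P.2.to_le (inf_le_left : (P : Subgroup G) ⊓ centralizer ({z} : Set G) ≤ P)).exists_card_eq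
  have hd := Subgroup.card_dvd_of_le (inf_le_right : (P : Subgroup G) ⊓ centralizer ({z} : Set G) ≤ _)
  rw [hk, L.card_cent] at hd
  have hk2 : k ≤ 2 := by
    by_contra hc
    have h27 : 3 ^ 3 ∣ 1152 := (pow_dvd_pow 3 (show 3 ≤ k by omega)).trans hd
    norm_num at h27
  have he := eq_of_le_of_card_ge hle (by
    rw [X.card_T, hk, show (9 : ℕ) = 3 ^ 2 by norm_num]; exact Nat.pow_le_pow_right (by norm_num) hk2)
  exact hnT (mem_subgroupOf.2 (he ▸ ⟨n.2, mem_centralizer_singleton_iff.2 hnz⟩))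

theorem three_cube (hY : L.ySub = L.tSub) {f : G} (k : ℕ) (hf : f ^ 3 ^ k = 1) : f ^ 3 = 1 := by
  have : Fact (Nat.Prime 3) := ⟨Nat.prime_three⟩
  obtain ⟨P, hP⟩ := L.isSylow hY
  obtain ⟨j, -, hj⟩ := (Nat.dvd_prime_pow Nat.prime_three).1 (orderOf_dvd_of_pow_eq_one hf)
  obtain ⟨P', hP'⟩ := (IsPGroup.of_card (n := j) (by rw [Nat.card_zpowers, hj]) :
    IsPGroup 3 (zpowers f)).exists_le_sylow
  obtain ⟨g, hg⟩ := MulAction.exists_smul_eq G P' P
  have hm : g * f * g⁻¹ ∈ L.tSub := by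
    rw [← hP, ← hg, Sylow.coe_subgroup_smul]
    exact ⟨f, hP' (mem_zpowers f), rfl⟩
  have := (((L.base_vertex (x := 200) (by simp)).mem_T _).1 hm).1
  rwa [conj_pow, conj_eq_one_iff] at this

theorem exists_conj_s (hY : L.ySub = L.tSub) : ∃ k : G, Commute k (L.ψ 200) ∧ k * z * k⁻¹ = L.ψ 576 := by
  have : Fact (Nat.Prime 3) := ⟨Nat.prime_three⟩
  obtain ⟨P, hP⟩ := L.isSylow hY
  obtain ⟨g, hg, X⟩ := L.exists_vertex L.s_sq L.s_ne L.comm_d_s L.z_comm_s.symm L.s_ne_z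
  set C := centralizer ({L.ψ 200} : Set G)
  have hle : (P : Subgroup G) ≤ C := fun t ht => by
    rw [hP] at ht
    exact mem_centralizer_singleton_iff.2 (((L.base_vertex (x := 200) (by simp)).mem_T t).1 ht).2.1
  have hle' : ((g • P : Sylow 3 G) : Subgroup G) ≤ C := fun t ht => by
    rw [Sylow.coe_subgroup_smul, hP] at ht
    exact mem_centralizer_singleton_iff.2 ((X.mem_T t).1 ht).2.1
  obtain ⟨k, hk⟩ := MulAction.exists_smul_eq C (P.subtype hle) ((g • P : Sylow 3 G).subtype hle')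
  refine ⟨k, mem_centralizer_singleton_iff.1 k.2, ?_⟩
  refine X.inv_unique ((L.card_ySub_eq rfl rfl X).1 hY) (fun t ht => ?_)
    (by rw [show (k : G) * z * (k : G)⁻¹ * (k * z * (k : G)⁻¹) = k * (z * z) * (k : G)⁻¹ by group, L.z_sq]; group)
    (fun e => L.z_ne (conj_eq_one_iff.1 e))
  have htC : t ∈ C := mem_centralizer_singleton_iff.2 ((X.mem_T t).1 ht).2.1
  have hm : (⟨t, htC⟩ : C) ∈ ((k • P.subtype hle : Sylow 3 C) : Subgroup C) := by
    rw [hk]
    change t ∈ ((g • P : Sylow 3 G) : Subgroup G)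
    rw [Sylow.coe_subgroup_smul, hP]
    exact ht
  rw [Sylow.coe_subgroup_smul] at hm
  obtain ⟨x, hx, e⟩ := hm
  have hxT : ((x : C) : G) ∈ L.tSub := by rw [← hP]; exact hx
  have e' : (k : G) * x * (k : G)⁻¹ = t := congrArg Subtype.val e
  rw [← e']
  exact (Commute.conj_iff _).2 (L.tSub_comm_z hxT).symm

theorem exists_cycle (hY : L.ySub = L.tSub) : ∃ f : G, f ^ 3 = 1 ∧ Commute f (L.ψ 200) ∧
    f * z * f⁻¹ = L.ψ 576 ∧ f * L.ψ 576 * f⁻¹ = z * L.ψ 576 := by
  have : Fact (Nat.Prime 2) := ⟨Nat.prime_two⟩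
  obtain ⟨k, hkd, hk⟩ := L.exists_conj_s hY
  set C := centralizer ({L.ψ 200} : Set G)
  have hVC : L.vSub ≤ C := fun p hp => mem_centralizer_singleton_iff.2 (L.vSub_cent hp).1
  obtain ⟨S, hS⟩ := (L.vSub_pGroup.comap_subtype (K := C)).exists_le_sylow
  have hSV : (S : Subgroup C).map C.subtype = L.vSub :=
    L.two_eq_vSub (S.2.map _) (by rintro - ⟨p, -, rfl⟩; exact mem_centralizer_singleton_iff.1 p.2)
      (fun p hp => ⟨⟨p, hVC hp⟩, hS hp, rfl⟩)
  have hmem : ∀ p : C, p ∈ (S : Subgroup C) ↔ (p : G) ∈ L.vSub := fun p => by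
    rw [← hSV]
    exact ⟨fun h => ⟨p, h, rfl⟩, by rintro ⟨q, hq, e⟩; rwa [show p = q from Subtype.ext e.symm]⟩
  have : IsMulCommutative (S : Subgroup C) := ⟨⟨fun a b => Subtype.ext (Subtype.ext (by
    change ((a : C) : G) * ((b : C) : G) = ((b : C) : G) * ((a : C) : G)
    obtain ⟨-, h1, h2⟩ := L.vSub_cent ((hmem _).1 a.2)
    rcases L.mem_vSub.1 ((hmem _).1 b.2) with h | h | h | h <;> rw [h]
    · rw [one_mul, mul_one]
    · exact h1.eq
    · exact h2.eq
    · exact (h1.mul_right h2).eq))⟩⟩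
  let kC : C := ⟨k, mem_centralizer_singleton_iff.2 hkd⟩
  let zC : C := ⟨z, hVC (L.mem_vSub.2 (Or.inr (Or.inl rfl)))⟩
  have hzS : zC ∈ (S : Subgroup C) := (hmem _).2 (L.mem_vSub.2 (Or.inr (Or.inl rfl)))
  obtain ⟨n, hn, hnz⟩ := S.conj_eq_normalizer_conj_of_mem zC kC⁻¹ hzS ((hmem _).2 (by
    simp only [inv_inv, Subgroup.coe_mul, InvMemClass.coe_inv, kC, zC, hk]
    exact L.mem_vSub.2 (Or.inr (Or.inr (Or.inl rfl)))))
  set c : G := ((n⁻¹ : C) : G) with hc
  have hcd : Commute c (L.ψ 200) := mem_centralizer_singleton_iff.1 (n⁻¹ : C).2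
  have hcV : ∀ v ∈ L.vSub, c * v * c⁻¹ ∈ L.vSub := fun v hv =>
    (hmem (n⁻¹ * ⟨v, hVC hv⟩ * (n⁻¹)⁻¹)).1
      ((mem_normalizer_iff.1 (inv_mem hn) ⟨v, hVC hv⟩).1 ((hmem _).2 hv))
  have hcz : c * z * c⁻¹ = L.ψ 576 := by
    have := congrArg (fun x : C => (x : G)) hnz
    simp only [inv_inv, Subgroup.coe_mul, InvMemClass.coe_inv, kC, zC, hk] at this
    rw [hc, InvMemClass.coe_inv, inv_inv]; exact this.symm
  have hcs : c * L.ψ 576 * c⁻¹ = z * L.ψ 576 := by
    rcases L.mem_vSub.1 (hcV _ (L.mem_vSub.2 (Or.inr (Or.inr (Or.inl rfl))))) with h | h | h | h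
    · exact absurd (conj_eq_one_iff.1 h) L.s_ne
    · exfalso
      have hcw : Commute c (z * L.ψ 576) := mul_inv_eq_iff_eq_mul.1
        (show c * (z * L.ψ 576) * c⁻¹ = z * L.ψ 576 by
          rw [show c * (z * L.ψ 576) * c⁻¹ = c * z * c⁻¹ * (c * L.ψ 576 * c⁻¹) by group, hcz, h, L.z_comm_s.eq])
      obtain ⟨j, m, hm, hjm⟩ := Nat.exists_eq_two_pow_mul_odd (orderOf_pos c).ne'
      obtain ⟨i, rfl⟩ := hm
      have h2 : c * c * z * (c * c)⁻¹ = z := by
        rw [show c * c * z * (c * c)⁻¹ = c * (c * z * c⁻¹) * c⁻¹ by group, hcz, h]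
      have hcm : c ^ (2 * i + 1) * z * (c ^ (2 * i + 1))⁻¹ = L.ψ 576 := by
        have h3 : Commute ((c * c) ^ i) z := Commute.pow_left (mul_inv_eq_iff_eq_mul.1 h2) i
        rw [pow_succ', pow_mul, pow_two, show c * (c * c) ^ i * z * (c * (c * c) ^ i)⁻¹ =
          c * ((c * c) ^ i * z * ((c * c) ^ i)⁻¹) * c⁻¹ by group, h3.eq, mul_inv_cancel_right, hcz]
      set S' : Subgroup G := zpowers (c ^ (2 * i + 1)) ⊔ L.vSub with hS'
      have hpow : ∀ (e : ℕ) (v : G), v ∈ L.vSub → c ^ e * v * (c ^ e)⁻¹ ∈ L.vSub := fun e => by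
        induction e with
        | zero => intro v hv; simpa using hv
        | succ e ih =>
          intro v hv
          rw [show c ^ (e + 1) * v * (c ^ (e + 1))⁻¹ = c * (c ^ e * v * (c ^ e)⁻¹) * c⁻¹ by
            rw [pow_succ']; group]
          exact hcV _ (ih v hv)
      have hp2 : IsPGroup 2 S' := IsPGroup.to_sup_of_normal_right'
        (IsPGroup.of_card (n := j) (by
          rw [Nat.card_zpowers, orderOf_pow_of_dvd (by omega) (hjm ▸ dvd_mul_left _ _), hjm,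
            Nat.mul_div_cancel _ (by omega)])) L.vSub_pGroup
        (zpowers_le.2 (normalizer_of_into (hpow _)))
      have hS'd : ∀ p ∈ S', Commute p (L.ψ 200) := by
        have : S' ≤ C := sup_le (zpowers_le.2 (mem_centralizer_singleton_iff.2 (hcd.pow_left _))) hVC
        exact fun p hp => mem_centralizer_singleton_iff.1 (this hp)
      have hin : c ^ (2 * i + 1) ∈ L.vSub :=
        L.two_eq_vSub hp2 hS'd le_sup_right ▸ mem_sup_left (mem_zpowers _)
      rw [(L.vSub_cent hin).2.1.eq, mul_inv_cancel_right] at hcm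
      exact L.s_ne_z hcm.symm
    · exact absurd (mul_left_cancel (mul_right_cancel (h.trans hcz.symm))) L.s_ne_z
    · exact h
  obtain ⟨a, m, hm, ham⟩ := Nat.exists_eq_pow_mul_and_not_dvd (orderOf_pos c).ne' 3 (by norm_num)
  have hw : c * (z * L.ψ 576) * c⁻¹ = z := by
    rw [show c * (z * L.ψ 576) * c⁻¹ = c * z * c⁻¹ * (c * L.ψ 576 * c⁻¹) by group, hcz, hcs, ← mul_assoc,
      ← L.z_comm_s.eq, mul_assoc, L.s_sq, mul_one]
  have hcyc : ∀ q : ℕ, c ^ (3 * q) * z * (c ^ (3 * q))⁻¹ = z ∧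
      c ^ (3 * q) * L.ψ 576 * (c ^ (3 * q))⁻¹ = L.ψ 576 := by
    intro q
    induction q with
    | zero => simp
    | succ q ih =>
      have e : ∀ x : G, c ^ (3 * (q + 1)) * x * (c ^ (3 * (q + 1)))⁻¹ =
          c * (c * (c * (c ^ (3 * q) * x * (c ^ (3 * q))⁻¹) * c⁻¹) * c⁻¹) * c⁻¹ := fun x => by
        rw [show 3 * (q + 1) = 3 + 3 * q by ring, pow_add]; group
      rw [e z, e (L.ψ 576), ih.1, ih.2]
      exact ⟨by rw [hcz, hcs, hw], by rw [hcs, hw, hcz]⟩
  obtain ⟨q, hq⟩ : ∃ q, m * (m % 3) = 1 + 3 * q := by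
    refine ⟨m * (m % 3) / 3, ?_⟩
    have : m % 3 = 1 ∨ m % 3 = 2 := by omega
    have : m * (m % 3) % 3 = 1 := by
      rcases this with h | h <;> rw [Nat.mul_mod, Nat.mod_mod, h]
    omega
  refine ⟨c ^ (m * (m % 3)), L.three_cube hY a ?_, hcd.pow_left _, ?_, ?_⟩
  · rw [← pow_mul, show m * (m % 3) * 3 ^ a = orderOf c * (m % 3) by rw [ham]; ring, pow_mul,
      pow_orderOf_eq_one, one_pow]
  all_goals rw [hq, pow_add, pow_one, show ∀ x : G, c * c ^ (3 * q) * x * (c * c ^ (3 * q))⁻¹ =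
      c * (c ^ (3 * q) * x * (c ^ (3 * q))⁻¹) * c⁻¹ from fun x => by group]
  · rw [(hcyc q).1, hcz]
  · rw [(hcyc q).2, hcs]

theorem comm_conj {g a b : G} (h : Commute a b) {a' b' : G} (ha : g * a * g⁻¹ = a') (hb : g * b * g⁻¹ = b') :
    Commute a' b' := by
  rw [← ha, ← hb]; exact (Commute.conj_iff g).2 h

theorem f_predicate {y : G} (hyz : Commute y z) (hys : Commute y (L.ψ 576)) (hy2 : y * y = 1)
    (hy : y * (L.ψ 200 * y * (L.ψ 200)⁻¹) * (L.ψ 400 * y * (L.ψ 400)⁻¹) = 1) (hy1 : y ≠ 1) :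
    ∃ j : ℕ, y = L.ψ 200 ^ j * L.ψ 25 * (L.ψ 200 ^ j)⁻¹ := by
  have hc := L.code_ok hyz
  have o2 := ok_const (h := 200) (by decide)
  have o4 := ok_const (h := 400) (by decide)
  have k := elts_spec fCodes hc
  simp only [Bool.or_eq_true, Bool.not_eq_true', ← Bool.not_eq_true, Bool.and_eq_true, Nat.beq_eq,
    List.elem_eq_mem, decide_eq_true_eq] at k
  rcases k with k | k
  · refine absurd ⟨⟨?_, ?_⟩, ?_⟩ k
    · exact (L.psi_comm (ok_const (by decide)) hc).1 (by rw [L.psi_code hyz]; exact hys.symm)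
    · exact (L.psi_sq hc).1 (by rw [L.psi_code hyz, hy2])
    · have o := L.ok hc (L.conj o2 hc).1
      rw [← L.psi_eq_one (L.ok o (L.conj o4 hc).1), L.mul o (L.conj o4 hc).1, L.mul hc (L.conj o2 hc).1,
        (L.conj o2 hc).2, (L.conj o4 hc).2, L.psi_code hyz, hy]
  · have k0 : L.code hyz ≠ 0 := fun e => hy1 (by rw [← L.psi_code hyz, e, L.psi_zero])
    have km : L.code hyz ∈ [25, 50, 75] := by simpa [k0] using k
    have k2 := List.all_eq_true.1 fCodes_facts _ km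
    simp only [Bool.or_eq_true, Bool.and_eq_true, Nat.beq_eq] at k2
    have o25 : okH 25 = true := by with_unfolding_all decide
    rcases k2.2 with (e | e) | e
    · exact ⟨0, by rw [← L.psi_code hyz, e]; simp⟩
    · exact ⟨1, by rw [← L.psi_code hyz, ← L.conj_eq o2 o25 e, pow_one]⟩
    · refine ⟨2, ?_⟩
      rw [← L.psi_code hyz, ← L.conj_eq o4 o25 e, pow_two,
        L.mul_eq o2 o2 (show mulH 200 200 = 400 by with_unfolding_all decide)]

theorem exists_cycle_fix (hY : L.ySub = L.tSub) : ∃ f : G, f ^ 3 = 1 ∧ Commute f (L.ψ 200) ∧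
    f * z * f⁻¹ = L.ψ 576 ∧ f * L.ψ 576 * f⁻¹ = z * L.ψ 576 ∧ Commute f (L.ψ 25) := by
  obtain ⟨f, hf, hfd, hfz, hfs⟩ := L.exists_cycle hY
  have o25 : okH 25 = true := by with_unfolding_all decide
  have o2 := ok_const (h := 200) (by decide)
  have o4 := ok_const (h := 400) (by decide)
  have k := List.all_eq_true.1 fCodes_facts 25 (by simp)
  simp only [Bool.and_eq_true, Nat.beq_eq] at k
  have hz := L.cent o25
  have hs : Commute (L.ψ 25) (L.ψ 576) := ((L.psi_comm (ok_const (by decide)) o25).2 k.1.1.1.2).symm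
  have h2 := (L.psi_sq o25).2 k.1.1.2
  have hrel : L.ψ 25 * (L.ψ 200 * L.ψ 25 * (L.ψ 200)⁻¹) * (L.ψ 400 * L.ψ 25 * (L.ψ 400)⁻¹) = 1 := by
    have o := L.ok o25 (L.conj o2 o25).1
    rw [← (L.conj o2 o25).2, ← (L.conj o4 o25).2, ← L.mul o25 (L.conj o2 o25).1, ← L.mul o (L.conj o4 o25).1,
      k.1.2, L.psi_zero]
  set y := f * L.ψ 25 * f⁻¹ with hy
  have hys : Commute y (L.ψ 576) := comm_conj hz rfl hfz
  have hyz : Commute y z := by
    have := (comm_conj hs (a' := y) rfl hfs).mul_right hys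
    rwa [mul_assoc, L.s_sq, mul_one] at this
  have hd4 : Commute f (L.ψ 400) := by
    rw [← L.mul_eq o2 o2 (show mulH 200 200 = 400 by with_unfolding_all decide)]
    exact hfd.mul_right hfd
  have hconj : ∀ {a : G}, Commute f a → a * y * a⁻¹ = f * (a * L.ψ 25 * a⁻¹) * f⁻¹ := fun {a} ha => by
    rw [hy, show f * (a * L.ψ 25 * a⁻¹) * f⁻¹ = (f * a) * L.ψ 25 * (f * a)⁻¹ by group, ha.eq]; group
  obtain ⟨j, hj⟩ := L.f_predicate hyz hys
    (by rw [hy, show f * L.ψ 25 * f⁻¹ * (f * L.ψ 25 * f⁻¹) = f * (L.ψ 25 * L.ψ 25) * f⁻¹ by group, h2]; group)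
    (by
      rw [hconj hfd, hconj hd4, hy]
      calc f * L.ψ 25 * f⁻¹ * (f * (L.ψ 200 * L.ψ 25 * (L.ψ 200)⁻¹) * f⁻¹) *
          (f * (L.ψ 400 * L.ψ 25 * (L.ψ 400)⁻¹) * f⁻¹)
          = f * (L.ψ 25 * (L.ψ 200 * L.ψ 25 * (L.ψ 200)⁻¹) * (L.ψ 400 * L.ψ 25 * (L.ψ 400)⁻¹)) * f⁻¹ := by group
        _ = 1 := by rw [hrel]; group)
    (fun e => by
      have := conj_eq_one_iff.1 (hy ▸ e)
      rw [L.psi_eq_one o25] at this
      omega)
  have hdj : Commute ((L.ψ 200 ^ j)⁻¹) f := (hfd.symm.pow_left j).inv_left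
  refine ⟨(L.ψ 200 ^ j)⁻¹ * f, ?_, ?_, ?_, ?_, ?_⟩
  · rw [hdj.mul_pow, hf, inv_pow, ← pow_mul, mul_comm, pow_mul, L.d_cube, one_pow, inv_one, one_mul]
  · exact ((Commute.refl (L.ψ 200)).pow_left j).inv_left.mul_left hfd
  · rw [show (L.ψ 200 ^ j)⁻¹ * f * z * ((L.ψ 200 ^ j)⁻¹ * f)⁻¹ = (L.ψ 200 ^ j)⁻¹ * (f * z * f⁻¹) * L.ψ 200 ^ j by group,
      hfz, mul_assoc, ← (L.comm_d_s.pow_left j).eq, inv_mul_cancel_left]
  · rw [show (L.ψ 200 ^ j)⁻¹ * f * L.ψ 576 * ((L.ψ 200 ^ j)⁻¹ * f)⁻¹ =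
      (L.ψ 200 ^ j)⁻¹ * (f * L.ψ 576 * f⁻¹) * L.ψ 200 ^ j by group, hfs, mul_assoc,
      ← ((L.comm_d_z.mul_right L.comm_d_s).pow_left j).eq, inv_mul_cancel_left]
  · refine mul_inv_eq_iff_eq_mul.1 (?_ : (L.ψ 200 ^ j)⁻¹ * f * L.ψ 25 * ((L.ψ 200 ^ j)⁻¹ * f)⁻¹ = L.ψ 25)
    rw [show (L.ψ 200 ^ j)⁻¹ * f * L.ψ 25 * ((L.ψ 200 ^ j)⁻¹ * f)⁻¹ = (L.ψ 200 ^ j)⁻¹ * y * L.ψ 200 ^ j by
      rw [hy]; group, hj]
    group

theorem conj_d_of_cycle {f : G} (hf : f ^ 3 = 1) (hfd : Commute f (L.ψ 200)) (hfz : f * z * f⁻¹ = L.ψ 576)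
    (hfs : f * L.ψ 576 * f⁻¹ = z * L.ψ 576) (hfq : Commute f (L.ψ 25)) : IsConj (L.ψ 200) f := by
  have o25 : okH 25 = true := by with_unfolding_all decide
  have o24 : okH 24 = true := by with_unfolding_all decide
  have o48 : okH 48 = true := by with_unfolding_all decide
  have o4 := ok_const (h := 4) (by decide)
  have o576 := ok_const (h := 576) (by decide)
  set W : Subgroup G := closure {z, L.ψ 576, L.ψ 25, L.ψ 200 * L.ψ 25 * (L.ψ 200)⁻¹} with hW
  have o200 := ok_const (h := 200) (by decide)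
  have k50 : conjH 200 25 = 50 := by with_unfolding_all decide +kernel
  have hq2 : L.ψ 200 * L.ψ 25 * (L.ψ 200)⁻¹ = L.ψ 50 := L.conj_eq o200 o25 k50
  have hWE : W ≤ L.eSub := by
    rw [hW, closure_le]
    rintro x (rfl | rfl | rfl | rfl)
    · exact ⟨4, by with_unfolding_all decide, L.z_eq⟩
    · exact ⟨576, by with_unfolding_all decide, rfl⟩
    · exact ⟨25, by with_unfolding_all decide, rfl⟩
    · exact ⟨50, by with_unfolding_all decide, hq2.symm⟩
  have hfix : ∀ {x : G}, x = L.ψ 25 ∨ x = L.ψ 200 * L.ψ 25 * (L.ψ 200)⁻¹ → f * x * f⁻¹ = x := by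
    rintro x (rfl | rfl)
    · rw [hfq.eq, mul_inv_cancel_right]
    · rw [show f * (L.ψ 200 * L.ψ 25 * (L.ψ 200)⁻¹) * f⁻¹ = (f * L.ψ 200) * L.ψ 25 * (f * L.ψ 200)⁻¹ by group,
        hfd.eq, show L.ψ 200 * f * L.ψ 25 * (L.ψ 200 * f)⁻¹ = L.ψ 200 * (f * L.ψ 25 * f⁻¹) * (L.ψ 200)⁻¹ by group,
        hfq.eq, mul_inv_cancel_right]
  have hWgen : L.eSub ≤ W := by
    rintro x ⟨h, hh, rfl⟩
    have hgen : eCodes.all (fun h => [0, 4].any fun a => [0, 576].any fun b => [0, 25].any fun c => [0, 50].any fun e =>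
        Nat.beq (mulH (mulH (mulH a b) c) e) h) = true := by with_unfolding_all decide +kernel
    have k := List.all_eq_true.1 hgen h hh
    simp only [List.any_eq_true, Nat.beq_eq] at k
    obtain ⟨a, ha, b, hb, c, hc, e, he, rfl⟩ := k
    simp only [List.mem_cons, List.not_mem_nil, or_false] at ha hb hc he
    have hm : ∀ {w : ℕ}, w = 0 ∨ w = 4 ∨ w = 576 ∨ w = 25 ∨ w = 50 → L.ψ w ∈ W ∧ okH w = true := by
      rintro w (rfl | rfl | rfl | rfl | rfl)
      · exact ⟨by rw [L.psi_zero]; exact one_mem _, by with_unfolding_all decide⟩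
      · exact ⟨by rw [L.z_eq]; exact subset_closure (by simp), o4⟩
      · exact ⟨subset_closure (by simp), o576⟩
      · exact ⟨subset_closure (by simp), o25⟩
      · exact ⟨by rw [← hq2]; exact subset_closure (by simp), by with_unfolding_all decide⟩
    obtain ⟨ha1, ha2⟩ := hm (w := a) (by omega)
    obtain ⟨hb1, hb2⟩ := hm (w := b) (by omega)
    obtain ⟨hc1, hc2⟩ := hm (w := c) (by omega)
    obtain ⟨he1, he2⟩ := hm (w := e) (by omega)
    rw [L.mul (L.ok (L.ok ha2 hb2) hc2) he2, L.mul (L.ok ha2 hb2) hc2, L.mul ha2 hb2]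
    exact mul_mem (mul_mem (mul_mem ha1 hb1) hc1) he1
  have hfN : f ∈ normalizer (L.eSub : Set G) := by
    refine L.eSub_le_normalizer fun x hx => ?_
    have hm : (W.map (MulAut.conj f).toMonoidHom) ≤ W := by
      rw [hW, MonoidHom.map_closure, closure_le]
      rintro - ⟨x, hx, rfl⟩
      simp only [Set.mem_insert_iff, Set.mem_singleton_iff] at hx
      change f * x * f⁻¹ ∈ _
      rcases hx with rfl | rfl | rfl | rfl
      · rw [hfz]; exact subset_closure (by simp)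
      · rw [hfs]; exact mul_mem (subset_closure (by simp)) (subset_closure (by simp))
      · rw [hfix (Or.inl rfl)]; exact subset_closure (by simp)
      · rw [hfix (Or.inr rfl)]; exact subset_closure (by simp)
    exact hWE (hm ⟨x, hWgen hx, rfl⟩)
  have hgenN : ∀ {w : ℕ}, w = 24 ∨ w = 48 → L.ψ w ∈ normalizer (L.eSub : Set G) := by
    intro w hw
    have ow : okH w = true := by rcases hw with rfl | rfl <;> assumption
    refine L.eSub_le_normalizer ?_
    rintro x ⟨h, hh, rfl⟩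
    have k := List.all_eq_true.1 eCodes_group h hh
    simp only [Bool.and_eq_true, List.elem_eq_mem, decide_eq_true_eq] at k
    refine ⟨conjH w h, ?_, (L.conj ow (eCodes_ok hh)).2⟩
    rcases hw with rfl | rfl
    · exact k.1.1.1.2
    · exact k.1.2
  set q := L.ψ 25 with hq
  set g := L.ψ 48 * f * L.ψ 24 * f with hg
  have o29 : okH 29 = true := by with_unfolding_all decide
  have e1 : L.ψ 24 * L.ψ 576 * (L.ψ 24)⁻¹ = z * q * L.ψ 576 := by
    have k : conjH 24 576 = mulH (mulH 4 25) 576 := by with_unfolding_all decide +kernel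
    rw [L.conj_eq o24 o576 k, L.mul (L.ok o4 o25) o576, L.mul o4 o25, L.z_eq]
  have e2 : L.ψ 48 * (q * z) * (L.ψ 48)⁻¹ = q := by
    have k : mulH 25 4 = 29 := by with_unfolding_all decide +kernel
    have k' : conjH 48 29 = 25 := by with_unfolding_all decide +kernel
    calc L.ψ 48 * (q * z) * (L.ψ 48)⁻¹ = L.ψ 48 * L.ψ 29 * (L.ψ 48)⁻¹ := by
          rw [hq, ← L.mul_eq o25 o4 k, L.z_eq]
      _ = q := by rw [L.conj_eq o48 o29 k', hq]
  have hqz : Commute q z := L.cent o25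
  have hgz : g * z * g⁻¹ = q := by
    have hsq : Commute (L.ψ 576) q := by
      have k := List.all_eq_true.1 fCodes_facts 25 (by simp)
      simp only [Bool.and_eq_true] at k
      exact (L.psi_comm o576 o25).2 k.1.1.1.2
    have e3 : f * (z * q * L.ψ 576) * f⁻¹ = q * z := by
      rw [show f * (z * q * L.ψ 576) * f⁻¹ = (f * z * f⁻¹) * (f * q * f⁻¹) * (f * L.ψ 576 * f⁻¹) by group,
        hfz, hfs, hfix (Or.inl rfl), hsq.eq, mul_assoc q, L.z_comm_s.eq, ← mul_assoc (L.ψ 576), L.s_sq, one_mul]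
    rw [hg, show L.ψ 48 * f * L.ψ 24 * f * z * (L.ψ 48 * f * L.ψ 24 * f)⁻¹ =
      L.ψ 48 * (f * (L.ψ 24 * (f * z * f⁻¹) * (L.ψ 24)⁻¹) * f⁻¹) * (L.ψ 48)⁻¹ by group, hfz, e1, e3, e2]
  have hgN : g ∈ normalizer (L.eSub : Set G) :=
    mul_mem (mul_mem (mul_mem (hgenN (Or.inr rfl)) hfN) (hgenN (Or.inl rfl))) hfN
  set h := g⁻¹ * f * g with hh
  have hhz : Commute h z := by
    rw [← Commute.conj_iff g, hgz, hh]
    simpa [mul_assoc] using hfq
  have hhN : h ∈ normalizer (L.eSub : Set G) := mul_mem (mul_mem (inv_mem hgN) hfN) hgN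
  have hc := L.code_ok hhz
  have hf1 : f ≠ 1 := fun e => L.s_ne_z (by rw [← hfz, e]; group)
  have k := elts_spec eCodes_norm hc
  simp only [Bool.or_eq_true, Bool.not_eq_true', ← Bool.not_eq_true, Nat.beq_eq, List.elem_eq_mem,
    decide_eq_true_eq, List.any_eq_true] at k
  rcases k with ((k | k) | k) | k
  · refine absurd ((L.psi_cube hc).1 ?_) k
    rw [L.psi_code hhz, hh, show g⁻¹ * f * g = g⁻¹ * f * g⁻¹⁻¹ by rw [inv_inv], conj_pow, hf]; group
  · refine absurd ?_ hf1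
    rw [show f = g * h * g⁻¹ by rw [hh]; group, ← L.psi_code hhz, k, L.psi_zero]; group
  · refine absurd ?_ k
    obtain ⟨e, he, he'⟩ := (mem_normalizer_iff.1 hhN (L.ψ 576)).1 ⟨576, by with_unfolding_all decide, rfl⟩
    rwa [show conjH (L.code hhz) 576 = e from L.inj (L.conj hc o576).1 (eCodes_ok he) (by
      rw [(L.conj hc o576).2, he', L.psi_code hhz])]
  · obtain ⟨y, hy, e⟩ := k
    refine IsConj.symm (IsConj.trans (b := h) (isConj_iff.2 ⟨g⁻¹, by rw [hh]; group⟩) (isConj_iff.2 ⟨L.ψ y, ?_⟩))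
    rw [← L.psi_code hhz, L.conj_eq (mem_elts.1 hy) hc e]

include L in
/-- The centraliser of the Sylow three-subgroup has a bigger odd part. -/
theorem ySub_ne : L.ySub ≠ L.tSub := by
  intro hY
  have : Fact (Nat.Prime 3) := ⟨Nat.prime_three⟩
  obtain ⟨f, hf, hfd, hfz, hfs, hfq⟩ := L.exists_cycle_fix hY
  obtain ⟨P, hP⟩ := L.isSylow hY
  have X := L.base_vertex (x := 200) (by simp)
  have hdT : L.ψ 200 ∈ L.tSub := X.d_mem L.d_cube
  set C := centralizer ({L.ψ 200} : Set G)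
  have hle : (P : Subgroup G) ≤ C := fun t ht =>
    mem_centralizer_singleton_iff.2 ((X.mem_T t).1 (hP ▸ ht)).2.1
  let fC : C := ⟨f, mem_centralizer_singleton_iff.2 hfd⟩
  obtain ⟨j, -, hj⟩ := (Nat.dvd_prime_pow (m := 1) Nat.prime_three).1
    (show orderOf fC ∣ 3 ^ 1 from orderOf_dvd_of_pow_eq_one (Subtype.ext (by simpa using hf)))
  obtain ⟨R, hR⟩ := (IsPGroup.of_card (n := j) (by rw [Nat.card_zpowers, hj]) :
    IsPGroup 3 (zpowers fC)).exists_le_sylow
  obtain ⟨c, hc⟩ := MulAction.exists_smul_eq C R (P.subtype hle)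
  have ht : (c : G) * f * (c : G)⁻¹ ∈ L.tSub := by
    have : c * fC * c⁻¹ ∈ ((P.subtype hle : Sylow 3 C) : Subgroup C) := by
      rw [← hc, Sylow.coe_subgroup_smul]; exact ⟨fC, hR (mem_zpowers _), rfl⟩
    rw [← hP]; exact this
  set t := (c : G) * f * (c : G)⁻¹ with ht'
  have hcd : Commute (c : G) (L.ψ 200) := mem_centralizer_singleton_iff.1 c.2
  obtain ⟨g, hg⟩ := isConj_iff.1
    ((L.conj_d_of_cycle hf hfd hfz hfs hfq).trans (isConj_iff.2 ⟨(c : G), rfl⟩))
  have : IsMulCommutative (P : Subgroup G) := ⟨⟨fun a b => Subtype.ext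
    (X.comm_T a (hP ▸ a.2) b (hP ▸ b.2)).eq⟩⟩
  obtain ⟨n, hn, hnd⟩ := P.conj_eq_normalizer_conj_of_mem (L.ψ 200) g⁻¹
    (show L.ψ 200 ∈ (P : Subgroup G) by rw [hP]; exact hdT)
    (show g⁻¹⁻¹ * L.ψ 200 * g⁻¹ ∈ (P : Subgroup G) by rw [inv_inv, hg, hP]; exact ht)
  rw [inv_inv, hg, ← ht'] at hnd
  have hn' : n ∈ normalizer (L.tSub : Set G) := by rw [← hP]; exact hn
  have hnz : Commute n⁻¹ z := by
    refine mul_inv_eq_iff_eq_mul.1 (X.inv_unique hY (fun t ht => ?_) ?_ ?_)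
    · refine (commute_iff_conj _ _ _).2 ?_
      exact (L.tSub_comm_z (by simpa using (mem_normalizer_iff.1 hn' t).1 ht)).symm
    · rw [show n⁻¹ * z * n⁻¹⁻¹ * (n⁻¹ * z * n⁻¹⁻¹) = n⁻¹ * (z * z) * n⁻¹⁻¹ by group, L.z_sq]; group
    · exact fun e => L.z_ne (conj_eq_one_iff.1 e)
  have hy := L.code_ok hnz
  have e : L.ψ (conjH (L.code hnz) 200) = t := by
    rw [(L.conj hy (ok_const (by decide))).2, L.psi_code hnz, inv_inv, ← hnd]
  obtain ⟨e', he', he''⟩ := ht
  have hk := elts_spec diag_fusion hy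
  have hok := (L.conj hy (ok_const (h := 200) (by decide))).1
  rw [show e' = conjH (L.code hnz) 200 from L.inj (tCodes_ok he') hok (he''.trans e.symm)] at he'
  simp only [List.elem_eq_mem, he', decide_true, Bool.not_true, Bool.false_or, Bool.or_eq_true, Nat.beq_eq] at hk
  have htz : Commute f (L.ψ 200) → t = L.ψ 200 ∨ t = L.ψ 400 → Commute f z := by
    intro _ h
    have ef : f = t := by
      have hcm : ∀ u : G, Commute (c : G) u → t = u → f = t := fun u hu e => by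
        rw [e, show f = (c : G)⁻¹ * t * c by rw [ht']; group, e, mul_assoc, ← hu.eq, inv_mul_cancel_left]
      rcases h with h | h
      · exact hcm _ hcd h
      · refine hcm _ ?_ h
        rw [← L.mul_eq (ok_const (by decide)) (ok_const (by decide))
          (show mulH 200 200 = 400 by with_unfolding_all decide)]
        exact hcd.mul_right hcd
    rw [ef]
    rcases h with h | h <;> rw [h] <;> exact L.cent (ok_const (by decide))
  have hfz' := htz hfd (by rcases hk with hk | hk <;> rw [← e, hk] <;> simp)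
  rw [hfz'.eq, mul_inv_cancel_right] at hfz
  exact L.s_ne_z hfz.symm

end Loc

end Cfsg.Lib.UFourThreeLocal
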