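import Cfsg.Agent.Lib.UFourThreeLocal.Meet

/-!
# Coordinates in which an involution exchanges the components
-/

set_option autoImplicit false
set_option maxRecDepth 10000

namespace Cfsg.Lib.UFourThreeLocal

namespace Comp

variable {G : Type*} [Group G] {z : G} {K : Comp z} {g : G}

/-- Two lifted elements in different cosets have different types. -/
theorem Meet.type_ne (M : K.Meet g) {a a' : ℕ} (ha : okQ a = true) (hc : pMul a 25 = pMul 25 a) (hn : a ∉ meetU)
    (ha' : okQ a' = true) (hc' : pMul a' 25 = pMul 25 a') (hn' : a' ∉ meetU)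
    (hd : okQ (pMul a' (pInv a)) = true) (hdc : pMul (pMul a' (pInv a)) 25 = pMul 25 (pMul a' (pInv a)))
    (hdn : pMul a' (pInv a) ∉ meetU) {s b : Bool} {x x' : ℕ} (h : K.HasType s b b x (K.lift g a))
    (h' : K.HasType s b b x' (K.lift g a')) : False := by
  obtain ⟨y, hy, hye⟩ := K.same_type (M.lifted ha hc hn).cent (M.lifted ha' hc' hn').cent h h'
  refine (M.lifted hd hdc hdn).out ⟨y, hy, ?_⟩
  rw [hye, lift, lift, lift, (K.phi_mul (okQ_P ha') (K.phi_inv (okQ_P ha)).1).2, (K.phi_inv (okQ_P ha)).2]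
  group

/-- Some element induces outer automorphisms on both components and fixes them. -/
theorem Meet.exists_outer (M : K.Meet g) : ∃ c x, Commute c z ∧ K.HasType false true true x c := by
  have hfac : ∀ a ∈ [50, 78, 24], ∀ a' ∈ [50, 78, 24], okQ a = true ∧ pMul a 25 = pMul 25 a ∧ a ∉ meetU ∧
      (a = a' ∨ (okQ (pMul a' (pInv a)) = true ∧
        pMul (pMul a' (pInv a)) 25 = pMul 25 (pMul a' (pInv a)) ∧ pMul a' (pInv a) ∉ meetU)) := by decide +kernel
  have ty : ∀ a ∈ [50, 78, 24], ∃ s b : Bool, ∃ x, K.HasType s b b x (K.lift g a) ∧ (s = true ∨ b = true) :=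
    fun a ha => by
      obtain ⟨h1, h2, h3, -⟩ := hfac a ha a ha
      exact M.type_of_lifted h1 h2 h3
  by_contra hno
  push Not at hno
  have tr : ∀ a ∈ [50, 78, 24], ∃ b : Bool, ∃ x, K.HasType true b b x (K.lift g a) := by
    intro a ha
    obtain ⟨s, b, x, h, ho⟩ := ty a ha
    cases s
    · obtain rfl : b = true := by simpa using ho
      obtain ⟨h1, h2, h3, -⟩ := hfac a ha a ha
      exact absurd h (hno _ x (M.lifted h1 h2 h3).cent)
    · exact ⟨b, x, h⟩
  obtain ⟨b₁, x₁, h₁⟩ := tr 50 (by simp)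
  obtain ⟨b₂, x₂, h₂⟩ := tr 78 (by simp)
  obtain ⟨b₃, x₃, h₃⟩ := tr 24 (by simp)
  have ne : ∀ a ∈ [50, 78, 24], ∀ a' ∈ [50, 78, 24], a ≠ a' → ∀ (b : Bool) (x x' : ℕ),
      K.HasType true b b x (K.lift g a) → K.HasType true b b x' (K.lift g a') → False := by
    intro a ha a' ha' hne b x x' h h'
    obtain ⟨h1, h2, h3, h4⟩ := hfac a ha a' ha'
    obtain ⟨k1, k2, k3, -⟩ := hfac a' ha' a ha
    obtain ⟨l1, l2, l3⟩ := h4.resolve_left hne
    exact M.type_ne h1 h2 h3 k1 k2 k3 l1 l2 l3 h h'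
  have tri : ∀ u v w : Bool, u = v ∨ u = w ∨ v = w := by decide
  rcases tri b₁ b₂ b₃ with rfl | rfl | rfl
  · exact ne 50 (by simp) 78 (by simp) (by decide) _ _ _ h₁ h₂
  · exact ne 50 (by simp) 24 (by simp) (by decide) _ _ _ h₁ h₃
  · exact ne 78 (by simp) 24 (by simp) (by decide) _ _ _ h₂ h₃

end Comp

/-- Coordinates with an involution exchanging the components. -/
structure Coord0 {G : Type*} [Group G] (z : G) where
  /-- The components. -/
  K : Comp z
  /-- The exchanging involution. -/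
  s : G
  s_sq : s * s = 1
  s_cent : Commute s z
  swap : ∀ {n : ℕ}, n < 24 → s * K.u₁ n * s = K.u₂ n

theorem exists_coord0 {G : Type*} [Group G] [Finite G] {z : G} (h : Nonempty (Comp z)) :
    Nonempty (Coord0 z) := by
  obtain ⟨K⟩ := h
  obtain ⟨g, M⟩ := K.exists_meet
  obtain ⟨a, ha, b, x, hT⟩ := M.exists_swap
  have hfac' : ∀ a ∈ [50, 78], okQ a = true ∧ pMul a 25 = pMul 25 a ∧ a ∉ meetU ∧ pMul a a = 0 := by decide +kernel
  have hfac := hfac' a ha
  set c := K.lift g a
  have hc : Commute c z := (M.lifted hfac.1 hfac.2.1 hfac.2.2.1).cent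
  have hc2 : c * c = 1 := by
    show K.lift g a * K.lift g a = 1
    rw [Comp.lift, show g * K.phi a * g⁻¹ * (g * K.phi a * g⁻¹) = g * (K.phi a * K.phi a) * g⁻¹ by group,
      ← (K.phi_mul (Comp.okQ_P hfac.1) (Comp.okQ_P hfac.1)).2, hfac.2.2.2, K.phi_zero]
    group
  have hci : c⁻¹ = c := inv_eq_of_mul_eq_one_right hc2
  obtain ⟨hx, hA⟩ := hT
  obtain ⟨-, hx1, hx2, -⟩ := okP_bounds hx
  have hm : ∀ {b : Bool}, b ∈ [false, true] := fun {b} => by cases b <;> simp
  -- a component goes into the other one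
  have side : ∀ t : Bool, ∀ n < 24, ∃ r < 24, c * K.uu t n * c = K.uu (!t) r ∧ (n < 8 → r < 8) := by
    intro t n hn
    obtain ⟨p, hp, q, hq, e⟩ : ∃ p < 24, ∃ q < 24, c * K.uu t n * c⁻¹ = K.uu (!t) p * K.uu t q := by
      cases t
      · obtain ⟨p, hp, q, hq, e⟩ := K.norm hc hn (show 0 < 24 by norm_num)
        refine ⟨q, hq, p, hp, ?_⟩
        rw [K.zero₂, mul_one] at e
        simpa [Comp.uu, (K.commute hp hq).eq] using e
      · obtain ⟨p, hp, q, hq, e⟩ := K.norm hc (show 0 < 24 by norm_num) hn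
        refine ⟨p, hp, q, hq, ?_⟩
        rw [K.zero₁, one_mul] at e
        simpa [Comp.uu] using e
    have key : ∀ r, r = 1 ∨ r = 2 → ∃ i < 8, sMul i i = 4 ∧
        c * K.uu (!t) r * c⁻¹ = K.uu t i ∧ i = sConj (if t then x % 24 else x / 24) (tw b r) := by
      intro r hr
      have hr8 : r < 24 := by omega
      let q' := if t then canon r 0 else canon 0 r
      have hqQ : okQ q' = true := by
        cases t <;> rcases hr with rfl | rfl <;> decide +kernel
      have e1 : K.phi q' = K.uu (!t) r := by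
        cases t
        · simp [q', Comp.uu, K.phi_canon (show 0 < 24 by norm_num) hr8, K.zero₁]
        · simp [q', Comp.uu, K.phi_canon hr8 (show 0 < 24 by norm_num), K.zero₂]
      have := hA q' hqQ
      rw [e1] at this
      have hcode : (eltsP.all fun x => [false, true].all fun t => [false, true].all fun b => [1, 2].all fun r =>
          let i := sConj (if t then x % 24 else x / 24) (tw b r)
          Nat.blt i 8 && Nat.beq (sMul i i) 4 &&
            Nat.beq (typeAct true b b x (if t then canon r 0 else canon 0 r)) (if t then canon 0 i else canon i 0)) = true := by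
        decide +kernel
      have hh := List.all_eq_true.1 (List.all_eq_true.1 (List.all_eq_true.1 (List.all_eq_true.1 hcode x
        (mem_eltsP.2 hx)) t hm) b hm) r (by simp; exact hr)
      simp only [Bool.and_eq_true, Nat.blt_eq, Nat.beq_eq] at hh
      refine ⟨_, hh.1.1, hh.1.2, ?_, rfl⟩
      rw [this, hh.2]
      cases t
      · simp only [↓reduceIte, Bool.false_eq_true] at hh ⊢
        rw [K.phi_canon (by omega) (by norm_num), K.zero₂, mul_one]; rfl
      · simp only [↓reduceIte] at hh ⊢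
        rw [K.phi_canon (by norm_num) (by omega), K.zero₁, one_mul]; rfl
    obtain ⟨i, hi, hi4, hie, hiv⟩ := key 1 (Or.inl rfl)
    obtain ⟨j, hj, hj4, hje, hjv⟩ := key 2 (Or.inr rfl)
    have hcq : ∀ {r k : ℕ}, r < 24 → k < 8 → c * K.uu (!t) r * c⁻¹ = K.uu t k → sMul q k = sMul k q := by
      intro r k hr hk he
      have h1 : Commute (K.uu (!t) p * K.uu t q) (K.uu t k) := by
        rw [← e, ← he, Commute.conj_iff]; exact K.uu_comm t hn hr
      have h2 : Commute (K.uu (!t) p) (K.uu t k) := by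
        have := K.uu_comm (!t) hp (show k < 24 by omega); rwa [Bool.not_not] at this
      have h3 : Commute (K.uu t q) (K.uu t k) := by
        have := (h2.inv_left).mul_left h1
        rwa [inv_mul_cancel_left] at this
      refine K.uu_inj t (sMul_lt hq (by omega)) (sMul_lt (by omega) hq) ?_
      rw [K.uu_mul t hq (by omega), K.uu_mul t (by omega) hq, h3.eq]
    have hcen : ∀ q < 24, ∀ k < 24, ∀ b : Bool, sMul q (sConj k (tw b 1)) = sMul (sConj k (tw b 1)) q →
        sMul q (sConj k (tw b 2)) = sMul (sConj k (tw b 2)) q → q = 0 ∨ q = 4 := by decide +kernel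
    have hk : (if t then x % 24 else x / 24) < 24 := by cases t <;> simp <;> omega
    have hq04 := hcen q hq _ hk b (hiv ▸ hcq (by norm_num) hi hie) (hjv ▸ hcq (by norm_num) hj hje)
    have h8 : ∀ n < 24, ∀ r < 24, sMul (sMul n n) (sMul n n) = 0 → r < 8 ∨ sMul (sMul r r) (sMul r r) ≠ 0 := by
      decide +kernel
    have h84 : ∀ n < 8, sMul (sMul n n) (sMul n n) = 0 := by decide +kernel
    have fin : ∀ r < 24, c * K.uu t n * c = K.uu (!t) r → ∃ r < 24, c * K.uu t n * c = K.uu (!t) r ∧ (n < 8 → r < 8) := by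
      intro r hr er
      refine ⟨r, hr, er, fun hn8 => (h8 n hn r hr (h84 n hn8)).resolve_right fun hne => hne ?_⟩
      refine K.uu_inj (!t) (sMul_lt (sMul_lt hr hr) (sMul_lt hr hr)) (by norm_num) ?_
      rw [K.uu_mul _ (sMul_lt hr hr) (sMul_lt hr hr), K.uu_mul _ hr hr, ← er, K.uu_zero, ← K.uu_zero t,
        ← h84 n hn8, K.uu_mul t (sMul_lt hn hn) (sMul_lt hn hn), K.uu_mul t hn hn]
      have k : ∀ y : G, c * y * c * (c * y * c) = c * (y * y) * c := fun y => by
        calc c * y * c * (c * y * c) = c * y * (c * c) * y * c := by group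
          _ = _ := by rw [hc2]; group
      rw [k, k]
      set w := K.uu t n * K.uu t n * (K.uu t n * K.uu t n)
      have hw : w = 1 := by
        rw [← K.uu_zero t, ← h84 n hn8, K.uu_mul t (sMul_lt hn hn) (sMul_lt hn hn), K.uu_mul t hn hn]
      rw [hw, mul_one, hc2]
    rw [hci] at e
    rcases hq04 with rfl | rfl
    · exact fin p hp (by rw [e, K.uu_zero, mul_one])
    · exact fin (sMul p 4) (sMul_lt hp (by norm_num)) (by
        rw [e, K.uu_four, K.uu_mul (!t) hp (by norm_num), K.uu_four])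
  have hcc : ∀ y : G, c * (c * y * c) * c = y := fun y => by
    calc c * (c * y * c) * c = (c * c) * y * (c * c) := by group
      _ = y := by rw [hc2, one_mul, mul_one]
  have hback : ∀ r < 24, ∃ n < 24, K.u₂ r = c * K.u₁ n * c ∧ (r < 8 → n < 8) := by
    intro r hr
    obtain ⟨n, hn, e, h8⟩ := side true r hr
    exact ⟨n, hn, by rw [show K.u₁ n = c * K.u₂ r * c from e.symm, hcc], h8⟩
  have hfwd : ∀ n < 24, ∃ r < 24, c * K.u₁ n * c = K.u₂ r ∧ (n < 8 → r < 8) := fun n hn => side false n hn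
  have hinj : ∀ {m n : ℕ}, m < 24 → n < 24 → c * K.u₁ m * c = c * K.u₁ n * c → m = n := fun hm hn h =>
    K.uu_inj false hm hn (mul_left_cancel (mul_right_cancel h))
  let K' : Comp z :=
  { u₁ := K.u₁
    u₂ := fun n => c * K.u₁ n * c
    mul₁ := K.mul₁
    mul₂ := fun {m n} hm hn => by
      rw [K.mul₁ hm hn]
      calc c * (K.u₁ m * K.u₁ n) * c = c * K.u₁ m * (c * c) * K.u₁ n * c := by rw [hc2]; group
        _ = _ := by group
    zero₁ := K.zero₁
    zero₂ := by rw [K.zero₁, mul_one, hc2]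
    four₁ := K.four₁
    four₂ := by rw [K.four₁, hc.eq, mul_assoc, hc2, mul_one]
    commute := fun {m n} hm hn => by
      obtain ⟨r, hr, e, -⟩ := hfwd n hn
      rw [e]; exact K.commute hm hr
    sep := fun {m n} hm hn h => by
      obtain ⟨r, hr, e, -⟩ := hfwd n hn
      rw [e] at h
      rcases K.sep hm hr h with ⟨rfl, rfl⟩ | ⟨rfl, rfl⟩
      · exact Or.inl ⟨rfl, hinj hn (by norm_num) (by rw [e, K.zero₂, K.zero₁, mul_one, hc2])⟩
      · exact Or.inr ⟨rfl, hinj hn (by norm_num) (by rw [e, K.four₂, K.four₁, hc.eq, mul_assoc, hc2, mul_one])⟩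
    cent₁ := K.cent₁
    cent₂ := fun {n} hn => (hc.mul_left (K.cent₁ hn)).mul_left hc
    norm := fun {d p q} hd hp hq => by
      obtain ⟨r, hr, e, -⟩ := hfwd q hq
      obtain ⟨p', hp', q', hq', h⟩ := K.norm hd hp hr
      obtain ⟨n, hn, e', -⟩ := hback q' hq'
      exact ⟨p', hp', n, hn, by rw [e, h, e']⟩
    odd := fun {d} hd ho => by
      obtain ⟨p, hp, q, hq, h⟩ := K.odd hd ho
      obtain ⟨n, hn, e', -⟩ := hback q hq
      exact ⟨p, hp, n, hn, by rw [h, e']⟩
    self := fun {d} hd h => K.self hd fun p hp q hq => by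
      obtain ⟨n, hn, e', h8⟩ := hback q (by omega)
      rw [e']; exact h p hp n (h8 hq)
    card := K.card
    fused := by
      obtain ⟨g, ⟨p, hp, q, hq, h⟩, hne⟩ := K.fused
      obtain ⟨n, hn, e', h8⟩ := hback q (by omega)
      exact ⟨g, ⟨p, hp, n, h8 hq, by rw [h, e']⟩, hne⟩
    inter := by
      have same : ∀ f : G → G → Prop, ∀ y, (∃ p < 8, ∃ q < 8, f y (K.u₁ p * (c * K.u₁ q * c))) ↔
          ∃ p < 8, ∃ q < 8, f y (K.u₁ p * K.u₂ q) := by
        intro f y
        constructor
        · rintro ⟨p, hp, q, hq, h⟩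
          obtain ⟨r, hr, e, h8⟩ := hfwd q (by omega)
          exact ⟨p, hp, r, h8 hq, e ▸ h⟩
        · rintro ⟨p, hp, q, hq, h⟩
          obtain ⟨n, hn, e, h8⟩ := hback q (by omega)
          exact ⟨p, hp, n, h8 hq, e ▸ h⟩
      intro g hg hne
      rw [← K.inter g ((same (fun y w => y = w) _).1 hg) hne]
      congr 1
      ext y
      exact and_congr (same (fun y w => y = w) y) (same (fun y w => y = g * w * g⁻¹) y) }
  exact ⟨⟨K', c, hc2, hc, fun {n} _ => rfl⟩⟩

end Cfsg.Lib.UFourThreeLocal
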