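import Cfsg.Agent.Lib.UFourThreeLocal.CentA

/-!
# The relations between the axis and the quaternion groups
-/

set_option autoImplicit false
set_option maxRecDepth 10000
set_option linter.unusedSectionVars false

namespace Cfsg.Lib.UFourThreeLocal

open Subgroup

attribute [local irreducible] elts mulH conjH invH okH pow16 pow3 pow9 commH eltsS sylS eCodes

/-- Three identities in an abelian group of exponent three. -/
theorem three_identities {W : Type*} [CommGroup W] {a b l : W} (ha : a ^ 3 = 1) (hb : b ^ 3 = 1)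
    (hl : l ^ 3 = 1) :
    ((((a * l)⁻¹ * b) * (a⁻¹ * l))⁻¹ * a = b⁻¹) ∧ ((((b * l)⁻¹ * a) * (b⁻¹ * l))⁻¹ * b = a⁻¹) ∧
      (((b * l)⁻¹ * a)⁻¹ * (b⁻¹ * l) = a⁻¹ * l * l) ∧ (a⁻¹ * (a⁻¹ * l) * (a⁻¹ * l) = l⁻¹) := by
  have e1 : (((a * l)⁻¹ * b) * (a⁻¹ * l))⁻¹ * a = b⁻¹ * a ^ 3 := by
    apply Additive.ofMul.injective
    simp only [ofMul_mul, ofMul_inv, ofMul_pow]
    abel
  have e2 : (((b * l)⁻¹ * a) * (b⁻¹ * l))⁻¹ * b = a⁻¹ * b ^ 3 := by
    apply Additive.ofMul.injective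
    simp only [ofMul_mul, ofMul_inv, ofMul_pow]
    abel
  have e3 : ((b * l)⁻¹ * a)⁻¹ * (b⁻¹ * l) = a⁻¹ * l * l := by
    apply Additive.ofMul.injective
    simp only [ofMul_mul, ofMul_inv]
    abel
  have e4 : a⁻¹ * (a⁻¹ * l) * (a⁻¹ * l) = l⁻¹ * l ^ 3 * (a ^ 3)⁻¹ := by
    apply Additive.ofMul.injective
    simp only [ofMul_mul, ofMul_inv, ofMul_pow]
    abel
  rw [ha, mul_one] at e1
  rw [hb, mul_one] at e2
  rw [hl, ha, inv_one, mul_one, mul_one] at e4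
  exact ⟨e1, e2, e3, e4⟩

namespace Loc

variable {G : Type*} [Group G] [Finite G] {z : G} (L : Loc z)

theorem zComm_commutator {u v : G} (hu : u ∈ L.zComm) (hv : v ∈ L.zComm) :
    ∃ c ∈ zpowers (L.ψ 192), u * v = c * (v * u) ∧ Commute c u ∧ Commute c v := by
  have h : (QuotientGroup.mk (⟨u, hu⟩ * ⟨v, hv⟩ * (⟨v, hv⟩ * ⟨u, hu⟩)⁻¹) : L.zComm ⧸ L.aSub) = 1 := by
    simp only [QuotientGroup.mk_mul, QuotientGroup.mk_inv]
    exact mul_inv_eq_one.2 (mul_comm _ _)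
  refine ⟨u * v * (v * u)⁻¹, mem_subgroupOf.1 ((QuotientGroup.eq_one_iff _).1 h), by group, ?_, ?_⟩
  all_goals
    obtain ⟨k, hk⟩ := mem_subgroupOf.1 ((QuotientGroup.eq_one_iff _).1 h)
    simp only [Subgroup.coe_mul, InvMemClass.coe_inv] at hk
    rw [← hk]
  · exact ((L.zComm_props.1 u hu).2.symm.zpow_left k)
  · exact ((L.zComm_props.1 v hv).2.symm.zpow_left k)

theorem zpowers_a {c : G} (hc : c ∈ zpowers (L.ψ 192)) : c = 1 ∨ c = L.ψ 192 ∨ c = (L.ψ 192)⁻¹ := by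
  obtain ⟨k, rfl⟩ := hc
  simp only
  have h3 : L.ψ 192 ^ (3 : ℤ) = 1 := by
    rw [show (3 : ℤ) = ((3 : ℕ) : ℤ) from rfl, zpow_natCast]; exact (L.tCodes_facts (by decide)).1
  rw [← Int.emod_add_mul_ediv k 3, zpow_add, zpow_mul, h3, one_zpow, mul_one]
  have h1 := Int.emod_nonneg k (show (3 : ℤ) ≠ 0 by norm_num)
  have h2 := Int.emod_lt_of_pos k (show (0 : ℤ) < 3 by norm_num)
  interval_cases (k % 3)
  · exact Or.inl (zpow_zero _)
  · exact Or.inr (Or.inl (zpow_one _))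
  · refine Or.inr (Or.inr (eq_inv_of_mul_eq_one_left ?_))
    rw [← zpow_add_one]
    exact h3

theorem psi_one_sq : L.ψ 1 * L.ψ 1 = z :=
  (L.mul_eq (ok_quat (by decide)) (ok_quat (by decide)) (show mulH 1 1 = 4 by with_unfolding_all decide +kernel)).trans
    L.z_eq

end Loc

namespace Axis

variable {G : Type*} [Group G] [Finite G] {z : G} {L : Loc z} {l : G} (X : Axis L l)
include X

theorem x_mem : L.ψ 1 * l * (L.ψ 1)⁻¹ ∈ L.zComm := (L.nrm_code (by decide)).zComm X.mem_zComm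

theorem two_zComm : L.ψ 1152 * l * (L.ψ 1152)⁻¹ ∈ L.zComm := (L.nrm_code (by decide)).zComm X.mem_zComm

theorem x_inv : z * (L.ψ 1 * l * (L.ψ 1)⁻¹) * z⁻¹ = (L.ψ 1 * l * (L.ψ 1)⁻¹)⁻¹ := by
  have h : Commute (L.ψ 1) z := L.cent (Loc.ok_quat (by decide))
  rw [show z * (L.ψ 1 * l * (L.ψ 1)⁻¹) * z⁻¹ = z * L.ψ 1 * l * (z * L.ψ 1)⁻¹ by group, ← h.eq,
    show L.ψ 1 * z * l * (L.ψ 1 * z)⁻¹ = L.ψ 1 * (z * l * z⁻¹) * (L.ψ 1)⁻¹ by group, X.inv_z]
  group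

theorem cross_comm :
    Commute l (L.ψ 1 * (L.ψ 1152 * l * (L.ψ 1152)⁻¹) * (L.ψ 1)⁻¹) ∧
    Commute (L.ψ 1152 * l * (L.ψ 1152)⁻¹) (L.ψ 1 * l * (L.ψ 1)⁻¹) := by
  set i := L.ψ 1 with hi
  set m := L.ψ 1152 with hm
  set l2 := m * l * m⁻¹ with hl2
  set y2 := i * l2 * i⁻¹ with hy2
  set x := i * l * i⁻¹ with hx
  obtain ⟨c, hca, hc, hcl, hcy⟩ :=
    L.zComm_commutator X.mem_zComm ((L.nrm_code (h := 1) (by decide)).zComm X.two_zComm)
  rw [← hi, ← hy2] at hc hcy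
  have hci : Commute i c := by
    obtain ⟨k, rfl⟩ := hca
    exact ((L.qSub_comm (q := i) ⟨1, by decide, rfl⟩).zpow_right k)
  have hcx : Commute c x := by
    have := (Commute.conj_iff i).2 hcl
    rwa [hci.eq, mul_inv_cancel_right, ← hx] at this
  have hcl2 : Commute c l2 := by
    have := (Commute.conj_iff i⁻¹).2 hcy
    rwa [inv_inv, hci.inv_left.eq, mul_assoc c, inv_mul_cancel, mul_one, hy2,
      show i⁻¹ * (i * l2 * i⁻¹) * i = l2 by group] at this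
  have e1 : l2 * x = c * (x * l2) := by
    have h1 : i * y2 * i⁻¹ = l2⁻¹ := by
      rw [hy2, show i * (i * l2 * i⁻¹) * i⁻¹ = (i * i) * l2 * (i * i)⁻¹ by group, hi, L.psi_one_sq, hl2, hm]
      exact X.two_inv
    have h2 : x * l2⁻¹ = c * (l2⁻¹ * x) := by
      calc x * l2⁻¹ = i * (l * y2) * i⁻¹ := by rw [← h1, hx]; group
        _ = i * c * i⁻¹ * (i * (y2 * l) * i⁻¹) := by rw [hc]; group
        _ = c * (l2⁻¹ * x) := by rw [hci.eq, mul_inv_cancel_right, ← h1, hx]; group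
    calc l2 * x = l2 * (x * l2⁻¹) * l2 := by group
      _ = l2 * c * (l2⁻¹ * (x * l2)) := by rw [h2]; group
      _ = c * (x * l2) := by rw [← hcl2.eq]; group
  have hmy : m * y2 * m⁻¹ = x := by
    have hmi : m * i * m⁻¹ = i⁻¹ := by
      rw [hm, hi, ← (L.inv (Loc.ok_quat (h := 1) (by decide))).2]
      exact L.conj_eq Loc.m_ok (Loc.ok_quat (by decide))
        (show conjH 1152 1 = invH 1 by with_unfolding_all decide +kernel)
    have hz : i⁻¹ = z⁻¹ * i := by rw [← L.psi_one_sq, ← hi]; group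
    calc m * y2 * m⁻¹ = (m * i * m⁻¹) * (m * l2 * m⁻¹) * (m * i * m⁻¹)⁻¹ := by rw [hy2]; group
      _ = z⁻¹ * i * l⁻¹ * (z⁻¹ * i)⁻¹ := by rw [hmi, hl2, hm, X.two_m, ← hz]
      _ = z⁻¹ * x⁻¹ * z := by rw [hx]; group
      _ = z⁻¹ * (z * x * z⁻¹) * z := by rw [hx, hi, X.x_inv]
      _ = x := by group
  have hmc : m * c * m⁻¹ = c⁻¹ := by
    obtain ⟨k, rfl⟩ := hca
    rcases (L.nrm_code (h := 1152) (by decide)).2 with e | e
    · exfalso
      have k' : conjH 1152 192 = 384 := by with_unfolding_all decide +kernel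
      rw [L.conj_eq Loc.m_ok (Loc.ok_quat (by decide)) k'] at e
      have := L.inj (Loc.tCodes_ok (by decide)) (Loc.tCodes_ok (by decide)) e
      omega
    · change m * L.ψ 192 ^ k * m⁻¹ = (L.ψ 192 ^ k)⁻¹
      rw [← conj_zpow, hm, e, inv_zpow]
  have e2 : l2 * x = c⁻¹ * (x * l2) := by
    calc l2 * x = m * (l * y2) * m⁻¹ := by rw [← hmy, hl2]; group
      _ = m * c * m⁻¹ * (m * (y2 * l) * m⁻¹) := by rw [hc]; group
      _ = c⁻¹ * (x * l2) := by rw [hmc, ← hmy, hl2]; group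
  have hcc : c = c⁻¹ := mul_right_cancel (e1.symm.trans e2)
  have hc1 : c = 1 := by
    rcases L.zpowers_a hca with e | e | e
    · exact e
    all_goals
      exfalso
      have h2 : L.ψ 192 * L.ψ 192 = 1 := by
        rw [e] at hcc
        try rw [inv_inv] at hcc
        first
          | exact eq_inv_iff_mul_eq_one.1 hcc
          | exact eq_inv_iff_mul_eq_one.1 hcc.symm
      rw [L.psi_sq (Loc.ok_quat (by decide))] at h2
      exact absurd h2 (by with_unfolding_all decide +kernel)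
  rw [hc1, one_mul] at e1 hc
  exact ⟨hc, e1⟩

theorem a2_x : ∃ c ∈ zpowers (L.ψ 192),
    l * (L.ψ 1 * l * (L.ψ 1)⁻¹) = c * (L.ψ 1 * l * (L.ψ 1)⁻¹ * l) ∧ Commute c l ∧
      Commute c (L.ψ 1 * l * (L.ψ 1)⁻¹) ∧
      L.ψ 8 * (L.ψ 1 * l * (L.ψ 1)⁻¹) * (L.ψ 8)⁻¹ = l * (L.ψ 1 * l * (L.ψ 1)⁻¹) * c := by
  set i := L.ψ 1 with hi
  set x := i * l * i⁻¹ with hx
  set b := L.ψ 8 with hb
  obtain ⟨c, hca, hc, hcl, hcx⟩ := L.zComm_commutator X.mem_zComm X.x_mem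
  obtain ⟨g, hga, hg⟩ := X.quotient_relation
  rw [← hi, ← hx] at hc hg hcx
  have hgall : ∀ {w : G}, Commute w (L.ψ 192) → Commute g w := fun {w} hw => by
    obtain ⟨k, rfl⟩ := hga; exact hw.symm.zpow_left k
  have hgl : Commute g l := hgall (L.zComm_props.1 l X.mem_zComm).2
  have hgi : Commute g i := hgall (L.qSub_comm ⟨1, by decide, rfl⟩)
  have hgx : Commute g x := hgall (L.zComm_props.1 x X.x_mem).2
  have hgb : Commute g b := hgall ((L.tCodes_facts (h := 8) (by decide)).2 192 (by decide))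
  have hbl : Commute b l := (X.comm_T (L.psi_mem_tSub (by decide))).symm
  have hconj : ∀ {q r : ℕ}, q < 8 → r < 8 → mulH 8 q = mulH r 8 →
      b * (L.ψ q * l * (L.ψ q)⁻¹) * b⁻¹ = L.ψ r * l * (L.ψ r)⁻¹ := by
    intro q r hq hr h
    have oq := (Loc.range_eight (List.mem_range.2 hq)).1
    have or' := (Loc.range_eight (List.mem_range.2 hr)).1
    have e : b * L.ψ q = L.ψ r * b := by
      rw [hb, ← L.mul (Loc.ok_quat (by decide)) oq, h, L.mul or' (Loc.ok_quat (by decide))]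
    calc b * (L.ψ q * l * (L.ψ q)⁻¹) * b⁻¹ = b * L.ψ q * l * (b * L.ψ q)⁻¹ := by group
      _ = L.ψ r * (b * l * b⁻¹) * (L.ψ r)⁻¹ := by rw [e]; group
      _ = L.ψ r * l * (L.ψ r)⁻¹ := by rw [hbl.eq, mul_inv_cancel_right]
  have h1 : b * x * b⁻¹ = l * x * g := by
    rw [← hg, hx, hi]
    exact hconj (by norm_num) (by norm_num) (by with_unfolding_all decide +kernel)
  have h2 : b * (l * x * g) * b⁻¹ = x * l⁻¹ * g := by
    have k3 : L.ψ 3 = i * L.ψ 2 := (L.mul_eq (Loc.ok_quat (by decide)) (Loc.ok_quat (by decide))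
      (show mulH 1 2 = 3 by with_unfolding_all decide +kernel)).symm
    calc b * (l * x * g) * b⁻¹ = L.ψ 3 * l * (L.ψ 3)⁻¹ := by
          rw [← hg]; exact hconj (by norm_num) (by norm_num) (by with_unfolding_all decide +kernel)
      _ = i * (L.ψ 2 * l * (L.ψ 2)⁻¹) * i⁻¹ := by rw [k3]; group
      _ = x * (i * x * i⁻¹) * (i * g * i⁻¹) := by rw [hg, hx]; group
      _ = x * l⁻¹ * g := by
          rw [← hgi.eq, mul_inv_cancel_right, hx, show i * (i * l * i⁻¹) * i⁻¹ = (i * i) * l * (i * i)⁻¹ by group,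
            hi, L.psi_one_sq, X.inv_z]
  have h3 : b * (l * x * g) * b⁻¹ = l * (l * x * g) * g := by
    calc b * (l * x * g) * b⁻¹ = (b * l * b⁻¹) * (b * x * b⁻¹) * (b * g * b⁻¹) := by group
      _ = l * (l * x * g) * g := by rw [hbl.eq, mul_inv_cancel_right, h1, ← hgb.eq, mul_inv_cancel_right]
  have hll : l * l = l⁻¹ := eq_inv_of_mul_eq_one_left (by simpa [pow_succ] using X.cube)
  have e : l * l * x * g = x * l⁻¹ := by
    have := h3.symm.trans h2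
    rw [← mul_assoc, ← mul_assoc] at this
    exact mul_right_cancel this
  rw [hll] at e
  have hxl : x * l⁻¹ = c * (l⁻¹ * x) := by
    calc x * l⁻¹ = l⁻¹ * (l * x) * l⁻¹ := by group
      _ = l⁻¹ * c * (x * l * l⁻¹) := by rw [hc]; group
      _ = c * (l⁻¹ * x) := by rw [← hcl.inv_right.eq]; group
  rw [hxl, (hcl.inv_right.mul_right hcx).eq] at e
  exact ⟨c, hca, hc, hcl, hcx, (mul_left_cancel e) ▸ h1⟩

theorem x_action {c : G} (hc : l * (L.ψ 1 * l * (L.ψ 1)⁻¹) = c * (L.ψ 1 * l * (L.ψ 1)⁻¹ * l))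
    (hcl : Commute c l) (hcx : Commute c (L.ψ 1 * l * (L.ψ 1)⁻¹))
    (hb : L.ψ 8 * (L.ψ 1 * l * (L.ψ 1)⁻¹) * (L.ψ 8)⁻¹ = l * (L.ψ 1 * l * (L.ψ 1)⁻¹) * c) :
    (L.ψ 1 * l * (L.ψ 1)⁻¹) * L.ψ 192 * (L.ψ 1 * l * (L.ψ 1)⁻¹)⁻¹ = L.ψ 192 ∧
    (L.ψ 1 * l * (L.ψ 1)⁻¹) * L.ψ 8 * (L.ψ 1 * l * (L.ψ 1)⁻¹)⁻¹ = (c * l)⁻¹ * L.ψ 8 ∧
    (L.ψ 1 * l * (L.ψ 1)⁻¹) * l * (L.ψ 1 * l * (L.ψ 1)⁻¹)⁻¹ = c⁻¹ * l := by
  set x := L.ψ 1 * l * (L.ψ 1)⁻¹
  set b := L.ψ 8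
  refine ⟨?_, ?_, ?_⟩
  · rw [(L.zComm_props.1 x X.x_mem).2.eq, mul_inv_cancel_right]
  · have : b * x = (c * l) * x * b := by
      calc b * x = b * x * b⁻¹ * b := by group
        _ = l * (x * c) * b := by rw [hb]; group
        _ = (c * l) * x * b := by rw [← hcx.eq, ← mul_assoc, ← hcl.eq]
    calc x * b * x⁻¹ = (c * l)⁻¹ * ((c * l) * x * b) * x⁻¹ := by group
      _ = (c * l)⁻¹ * b := by rw [← this]; group
  · calc x * l * x⁻¹ = c⁻¹ * (c * (x * l)) * x⁻¹ := by group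
      _ = c⁻¹ * l := by rw [← hc]; group

theorem swap_facts : L.ψ 576 * L.ψ 192 * (L.ψ 576)⁻¹ = L.ψ 8 ∧ L.ψ 576 * L.ψ 8 * (L.ψ 576)⁻¹ = L.ψ 192 ∧
    L.ψ 576 * l * (L.ψ 576)⁻¹ = l := by
  have o := Loc.ok_const (h := 576) (by decide)
  refine ⟨L.conj_eq o (Loc.ok_quat (by decide)) (by with_unfolding_all decide +kernel),
    L.conj_eq o (Loc.ok_quat (by decide)) (by with_unfolding_all decide +kernel), ?_⟩
  rw [X.comm_s.eq, mul_inv_cancel_right]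

theorem not_one {c : G} (hc : l * (L.ψ 1 * l * (L.ψ 1)⁻¹) = c * (L.ψ 1 * l * (L.ψ 1)⁻¹ * l))
    (hb : L.ψ 8 * (L.ψ 1 * l * (L.ψ 1)⁻¹) * (L.ψ 8)⁻¹ = l * (L.ψ 1 * l * (L.ψ 1)⁻¹) * c) : c ≠ 1 := by
  intro e
  obtain ⟨xa, xb, xl⟩ := X.x_action hc (e ▸ Commute.one_left _) (e ▸ Commute.one_left _) hb
  rw [e, one_mul] at xb
  rw [e, inv_one, one_mul] at xl
  obtain ⟨sa, sb, sl⟩ := X.swap_facts
  set x := L.ψ 1 * l * (L.ψ 1)⁻¹
  set s := L.ψ 576
  set a := L.ψ 192 with ha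
  set b := L.ψ 8 with hb'
  set x' := s * x * s⁻¹ with hx'
  have conjs : ∀ u : G, x' * (s * u * s⁻¹) * x'⁻¹ = s * (x * u * x⁻¹) * s⁻¹ := fun u => by rw [hx']; group
  have x'a : x' * a * x'⁻¹ = l⁻¹ * a := by
    have := conjs b
    rw [sb, xb, show s * (l⁻¹ * b) * s⁻¹ = (s * l * s⁻¹)⁻¹ * (s * b * s⁻¹) by group, sl, sb] at this
    exact this
  have x'b : x' * b * x'⁻¹ = b := by
    have := conjs a
    rwa [sa, xa, sa] at this
  have x'l : x' * l * x'⁻¹ = l := by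
    have := conjs l
    rwa [sl, xl, sl] at this
  set y := x * x'⁻¹ with hy
  have il : x'⁻¹ * l * x' = l := by nth_rewrite 1 [← x'l]; group
  have ia : x'⁻¹ * a * x' = l * a := by
    calc x'⁻¹ * a * x' = x'⁻¹ * (l * (x' * a * x'⁻¹)) * x' := by rw [x'a, mul_inv_cancel_left]
      _ = l * a := by rw [show x'⁻¹ * (l * (x' * a * x'⁻¹)) * x' = x'⁻¹ * l * x' * a by group, il]
  have ib : x'⁻¹ * b * x' = b := by nth_rewrite 1 [← x'b]; group
  have ya : y * a * y⁻¹ = l * a := by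
    rw [hy, show x * x'⁻¹ * a * (x * x'⁻¹)⁻¹ = x * (x'⁻¹ * a * x') * x⁻¹ by group, ia,
      show x * (l * a) * x⁻¹ = (x * l * x⁻¹) * (x * a * x⁻¹) by group, xl, xa]
  have yb : y * b * y⁻¹ = l⁻¹ * b := by
    rw [hy, show x * x'⁻¹ * b * (x * x'⁻¹)⁻¹ = x * (x'⁻¹ * b * x') * x⁻¹ by group, ib, xb]
  have yl : Commute y l := by
    refine mul_inv_eq_iff_eq_mul.1 (?_ : y * l * y⁻¹ = l)
    rw [hy, show x * x'⁻¹ * l * (x * x'⁻¹)⁻¹ = x * (x'⁻¹ * l * x') * x⁻¹ by group, il, xl]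
  have hd : L.ψ 200 = a * b := (L.mul_eq (Loc.ok_quat (by decide)) (Loc.ok_quat (by decide))
    (show mulH 192 8 = 200 by with_unfolding_all decide +kernel)).symm
  have hla : Commute l a := X.comm_T (L.psi_mem_tSub (by decide))
  have yd : Commute y (L.ψ 200) := by
    refine mul_inv_eq_iff_eq_mul.1 (?_ : y * L.ψ 200 * y⁻¹ = L.ψ 200)
    rw [hd, show y * (a * b) * y⁻¹ = (y * a * y⁻¹) * (y * b * y⁻¹) by group, ya, yb, hla.eq]
    group
  have haY : a ∈ L.ySub := (L.base_vertex (x := 200) (by simp)).T_le (L.psi_mem_tSub (by decide))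
  rcases X.cover y yd yl with h | h
  · rw [(X.y_comm h haY).eq, mul_inv_cancel_right] at ya
    exact X.ne (mul_eq_right.1 ya.symm)
  · have h1 := X.y_comm h haY
    have h2 : y * b * y⁻¹ = a := by
      calc y * b * y⁻¹ = y * (s * a * s⁻¹) * y⁻¹ := by rw [sa]
        _ = (y * s) * a * (y * s)⁻¹ := by group
        _ = a := by rw [h1.eq, mul_inv_cancel_right]
    rw [yb] at h2
    have hz : Commute (l⁻¹) z := by
      rw [show l⁻¹ = a * b⁻¹ by rw [← h2]; group]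
      exact (L.cent (Loc.ok_quat (by decide))).mul_left (L.cent (Loc.ok_quat (by decide))).inv_left
    exact X.ne (by simpa using X.eq_one_of_comm (k := 1) (by simpa using hz.inv_left))

theorem not_pos (hc : l * (L.ψ 1 * l * (L.ψ 1)⁻¹) = L.ψ 192 * (L.ψ 1 * l * (L.ψ 1)⁻¹ * l))
    (hb : L.ψ 8 * (L.ψ 1 * l * (L.ψ 1)⁻¹) * (L.ψ 8)⁻¹ = l * (L.ψ 1 * l * (L.ψ 1)⁻¹) * L.ψ 192) : False := by
  have haT : L.ψ 192 ∈ L.tSub := L.psi_mem_tSub (by decide)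
  have hbT : L.ψ 8 ∈ L.tSub := L.psi_mem_tSub (by decide)
  have B := L.base_vertex (x := 200) (by simp)
  obtain ⟨xa, xb, xl⟩ := X.x_action hc (X.comm_T haT).symm
    (L.zComm_props.1 _ X.x_mem).2.symm hb
  obtain ⟨sa, sb, sl⟩ := X.swap_facts
  have xl2 : (L.ψ 1 * l * (L.ψ 1)⁻¹) * (L.ψ 1152 * l * (L.ψ 1152)⁻¹) * (L.ψ 1 * l * (L.ψ 1)⁻¹)⁻¹ =
      L.ψ 1152 * l * (L.ψ 1152)⁻¹ := by rw [X.cross_comm.2.symm.eq, mul_inv_cancel_right]
  set x := L.ψ 1 * l * (L.ψ 1)⁻¹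
  set l2 := L.ψ 1152 * l * (L.ψ 1152)⁻¹ with hl2
  set s := L.ψ 576
  set a := L.ψ 192 with ha
  set b := L.ψ 8 with hb'
  set x' := s * x * s⁻¹ with hx'
  have conjs : ∀ u : G, x' * (s * u * s⁻¹) * x'⁻¹ = s * (x * u * x⁻¹) * s⁻¹ := fun u => by rw [hx']; group
  have x'a : x' * a * x'⁻¹ = (b * l)⁻¹ * a := by
    have := conjs b
    rwa [sb, xb, show s * ((a * l)⁻¹ * b) * s⁻¹ = ((s * a * s⁻¹) * (s * l * s⁻¹))⁻¹ * (s * b * s⁻¹) by group,
      sa, sl, sb] at this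
  have x'b : x' * b * x'⁻¹ = b := by
    have := conjs a
    rwa [sa, xa, sa] at this
  have x'l : x' * l * x'⁻¹ = b⁻¹ * l := by
    have := conjs l
    rwa [sl, xl, show s * (a⁻¹ * l) * s⁻¹ = (s * a * s⁻¹)⁻¹ * (s * l * s⁻¹) by group, sa, sl] at this
  have x'l2 : x' * l2 * x'⁻¹ = l2 := by
    have h := conjs l2
    rw [xl2, X.two_s, ← hl2] at h
    have h' := congrArg (fun u : G => u⁻¹) h
    simpa [mul_assoc] using h'
  set w := x * x' * x with hw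
  have conjw : ∀ u : G, w * u * w⁻¹ = x * (x' * (x * u * x⁻¹) * x'⁻¹) * x⁻¹ := fun u => by rw [hw]; group
  have hA := B.T_le haT
  have hB := B.T_le hbT
  have : IsMulCommutative L.ySub := ⟨⟨fun p q => Subtype.ext (X.y_comm p.2 q.2).eq⟩⟩
  let _ : CommGroup L.ySub := { (inferInstance : Group L.ySub) with mul_comm := mul_comm' }
  obtain ⟨i1, i2, i3, i4⟩ := three_identities (W := L.ySub) (a := ⟨a, hA⟩) (b := ⟨b, hB⟩) (l := ⟨l, X.mem⟩)
    (Subtype.ext (L.tCodes_facts (by decide)).1) (Subtype.ext (L.tCodes_facts (by decide)).1) (Subtype.ext X.cube)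
  replace i1 : ((a * l)⁻¹ * b * (a⁻¹ * l))⁻¹ * a = b⁻¹ := congrArg Subtype.val i1
  replace i2 : ((b * l)⁻¹ * a * (b⁻¹ * l))⁻¹ * b = a⁻¹ := congrArg Subtype.val i2
  replace i3 : ((b * l)⁻¹ * a)⁻¹ * (b⁻¹ * l) = a⁻¹ * l * l := congrArg Subtype.val i3
  replace i4 : a⁻¹ * (a⁻¹ * l) * (a⁻¹ * l) = l⁻¹ := congrArg Subtype.val i4
  have wa : w * a * w⁻¹ = b⁻¹ := by
    rw [conjw, xa, x'a, show x * ((b * l)⁻¹ * a) * x⁻¹ = ((x * b * x⁻¹) * (x * l * x⁻¹))⁻¹ * (x * a * x⁻¹) by group,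
      xa, xb, xl, i1]
  have wb : w * b * w⁻¹ = a⁻¹ := by
    rw [conjw, xb, show x' * ((a * l)⁻¹ * b) * x'⁻¹ = ((x' * a * x'⁻¹) * (x' * l * x'⁻¹))⁻¹ * (x' * b * x'⁻¹) by group,
      x'a, x'b, x'l, i2, show x * a⁻¹ * x⁻¹ = (x * a * x⁻¹)⁻¹ by group, xa]
  have wl : w * l * w⁻¹ = l⁻¹ := by
    rw [conjw, xl, show x' * (a⁻¹ * l) * x'⁻¹ = (x' * a * x'⁻¹)⁻¹ * (x' * l * x'⁻¹) by group, x'a, x'l, i3,
      show x * (a⁻¹ * l * l) * x⁻¹ = (x * a * x⁻¹)⁻¹ * (x * l * x⁻¹) * (x * l * x⁻¹) by group, xa, xl, i4]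
  have wl2 : w * l2 * w⁻¹ = l2 := by rw [conjw, xl2, x'l2, xl2]
  have za : z * a * z⁻¹ = a := by rw [← (L.tSub_comm_z haT).eq, mul_inv_cancel_right]
  have zb : z * b * z⁻¹ = b := by rw [← (L.tSub_comm_z hbT).eq, mul_inv_cancel_right]
  set z' := w * z * w⁻¹ with hz'
  have back : ∀ {u v v' : G}, w * v * w⁻¹ = u → z * v * z⁻¹ = v' → z' * u * z'⁻¹ = w * v' * w⁻¹ := by
    intro u v v' h h'
    rw [← h, ← h', hz']; group
  have inv' : ∀ {u v : G}, w * u * w⁻¹ = v⁻¹ → w * u⁻¹ * w⁻¹ = v := by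
    intro u v h
    rw [show w * u⁻¹ * w⁻¹ = (w * u * w⁻¹)⁻¹ by group, h, inv_inv]
  have z'a : z' * a * z'⁻¹ = a := by
    rw [back (inv' wb) (by rw [show z * b⁻¹ * z⁻¹ = (z * b * z⁻¹)⁻¹ by group, zb]), inv' wb]
  have z'b : z' * b * z'⁻¹ = b := by
    rw [back (inv' wa) (by rw [show z * a⁻¹ * z⁻¹ = (z * a * z⁻¹)⁻¹ by group, za]), inv' wa]
  have z'l : z' * l * z'⁻¹ = l⁻¹ := by
    rw [back (inv' wl) (show z * l⁻¹ * z⁻¹ = l by
      rw [show z * l⁻¹ * z⁻¹ = (z * l * z⁻¹)⁻¹ by group, X.inv_z, inv_inv]), wl]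
  have z'l2 : z' * l2 * z'⁻¹ = l2⁻¹ := by
    rw [back wl2 (v' := l2⁻¹) X.two_inv, show w * l2⁻¹ * w⁻¹ = (w * l2 * w⁻¹)⁻¹ by group, wl2]
  have hz : z⁻¹ = z := inv_eq_of_mul_eq_one_right L.z_sq
  set q := z' * z with hq
  have qfix : ∀ {u v : G}, z * u * z⁻¹ = v → z' * v * z'⁻¹ = u → Commute q u := by
    intro u v h h'
    refine mul_inv_eq_iff_eq_mul.1 (?_ : q * u * q⁻¹ = u)
    rw [hq, show z' * z * u * (z' * z)⁻¹ = z' * (z * u * z⁻¹) * z'⁻¹ by group, h, h']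
  have hqY : q ∈ L.ySub := by
    rw [← X.centralizer_eq, mem_centralizer_iff]
    have hle : L.ySub ≤ centralizer ({q} : Set G) := by
      rw [X.ySub_eq_closure, closure_le]
      intro u hu
      simp only [Set.mem_insert_iff, Set.mem_singleton_iff] at hu
      rcases hu with e | e | e | e <;> rw [e]
      · exact mem_centralizer_singleton_iff.2 (qfix za z'a).symm
      · exact mem_centralizer_singleton_iff.2 (qfix zb z'b).symm
      · exact mem_centralizer_singleton_iff.2 (qfix X.inv_z (by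
          rw [show z' * l⁻¹ * z'⁻¹ = (z' * l * z'⁻¹)⁻¹ by group, z'l, inv_inv])).symm
      · exact mem_centralizer_singleton_iff.2 (qfix X.two_inv (by
          rw [← hl2, show z' * l2⁻¹ * z'⁻¹ = (z' * l2 * z'⁻¹)⁻¹ by group, z'l2, inv_inv])).symm
    exact fun p hp => (mem_centralizer_singleton_iff.1 (hle hp))
  have hq3 : q ^ 3 = 1 := by
    obtain ⟨t, ht, k, n, -, -, e⟩ := X.coord hqY
    have h1 : Commute t (l ^ k * l2 ^ n) :=
      X.y_comm (B.T_le ht) (mul_mem (pow_mem X.mem _) (pow_mem X.two_mem _))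
    rw [e, h1.mul_pow, ((B.mem_T t).1 ht).1, (X.comm_two.pow_pow k n).mul_pow, ← pow_mul, ← pow_mul,
      mul_comm k, mul_comm n, pow_mul, pow_mul, X.cube, X.two_cube]
    simp
  have z'sq : z' * z' = 1 := by
    rw [hz', show w * z * w⁻¹ * (w * z * w⁻¹) = w * (z * z) * w⁻¹ by group, L.z_sq]; group
  have hzq : z * q = q⁻¹ * z := by
    rw [hq, mul_inv_rev, hz, inv_eq_of_mul_eq_one_right z'sq, mul_assoc z z']
  set h := q * w with hh
  have hhz : Commute h z := by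
    refine mul_inv_eq_iff_eq_mul.1 (?_ : h * z * h⁻¹ = z)
    rw [hh, show q * w * z * (q * w)⁻¹ = q * z' * q⁻¹ by rw [hz']; group,
      show z' = q * z by rw [hq, mul_assoc, L.z_sq, mul_one]]
    have h2 : z * q⁻¹ = q * z := by
      calc z * q⁻¹ = q * (q⁻¹ * z) * q⁻¹ := by group
        _ = q * (z * q) * q⁻¹ := by rw [hzq]
        _ = q * z := by group
    calc q * (q * z) * q⁻¹ = q * q * (z * q⁻¹) := by group
      _ = q ^ 3 * z := by rw [h2, pow_succ, pow_two]; group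
      _ = z := by rw [hq3, one_mul]
  have act : ∀ {u v : G}, w * u * w⁻¹ = v → v ∈ L.ySub → h * u * h⁻¹ = v := by
    intro u v e hv
    rw [hh, show q * w * u * (q * w)⁻¹ = q * (w * u * w⁻¹) * q⁻¹ by group, e, (X.y_comm hqY hv).eq,
      mul_inv_cancel_right]
  have ha1 := act wa (inv_mem hB)
  have hb1 := act wb (inv_mem hA)
  have hl1 := act wl (inv_mem X.mem)
  have hc' := L.code_ok hhz
  have o192 := Loc.ok_quat (h := 192) (by decide)
  have o8 := Loc.ok_quat (h := 8) (by decide)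
  have e1 : conjH (L.code hhz) 192 = 16 := by
    refine L.inj (L.conj hc' o192).1 (Loc.tCodes_ok (by decide)) ?_
    rw [(L.conj hc' o192).2, L.psi_code hhz, ha1, hb', ← (L.inv o8).2,
      show invH 8 = 16 by with_unfolding_all decide +kernel]
  have e2 : conjH (L.code hhz) 8 = 384 := by
    refine L.inj (L.conj hc' o8).1 (Loc.tCodes_ok (by decide)) ?_
    rw [(L.conj hc' o8).2, L.psi_code hhz, hb1, ha, ← (L.inv o192).2,
      show invH 192 = 384 by with_unfolding_all decide +kernel]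
  have k := elts_spec norm_tCodes hc'
  simp only [e1, e2, Nat.beq_refl, Bool.and_self, Bool.not_true, Bool.false_or, List.any_eq_true,
    Bool.or_eq_true, Nat.beq_eq] at k
  obtain ⟨t, ht, hk⟩ := k
  have osm : okH (mulH 576 1152) = true := L.ok (Loc.ok_const (by decide)) Loc.m_ok
  have htl : L.ψ t * l * (L.ψ t)⁻¹ = l := by
    rw [← (X.comm_T (L.psi_mem_tSub ht)).eq, mul_inv_cancel_right]
  have hsm : L.ψ (mulH 576 1152) * l * (L.ψ (mulH 576 1152))⁻¹ = l2⁻¹ := by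
    rw [L.mul (Loc.ok_const (by decide)) Loc.m_ok, hl2, ← X.two_s]; group
  have e3 := hl1
  rw [← L.psi_code hhz] at e3
  rcases hk with hk | hk <;> rw [hk] at e3
  · rw [L.mul osm (Loc.tCodes_ok ht),
      show L.ψ (mulH 576 1152) * L.ψ t * l * (L.ψ (mulH 576 1152) * L.ψ t)⁻¹ =
        L.ψ (mulH 576 1152) * (L.ψ t * l * (L.ψ t)⁻¹) * (L.ψ (mulH 576 1152))⁻¹ by group, htl, hsm,
      inv_inj] at e3
    obtain ⟨h', -⟩ := X.two_pow_one (k := 1) (n := 2) (by norm_num) (by norm_num)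
      (by rw [← hl2, e3, ← pow_add]; exact X.cube)
    omega
  · have o4 := Loc.ok_quat (h := 4) (by decide)
    rw [L.mul (L.ok osm o4) (Loc.tCodes_ok ht), L.mul osm o4,
      show L.ψ (mulH 576 1152) * L.ψ 4 * L.ψ t * l * (L.ψ (mulH 576 1152) * L.ψ 4 * L.ψ t)⁻¹ =
        L.ψ (mulH 576 1152) * (L.ψ 4 * (L.ψ t * l * (L.ψ t)⁻¹) * (L.ψ 4)⁻¹) * (L.ψ (mulH 576 1152))⁻¹ by group,
      htl, L.z_eq, X.inv_z,
      show L.ψ (mulH 576 1152) * l⁻¹ * (L.ψ (mulH 576 1152))⁻¹ =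
        (L.ψ (mulH 576 1152) * l * (L.ψ (mulH 576 1152))⁻¹)⁻¹ by group, hsm, inv_inv] at e3
    obtain ⟨h', -⟩ := X.two_pow_one (k := 1) (n := 1) (by norm_num) (by norm_num)
      (by rw [← hl2, e3, pow_one, pow_one, mul_inv_cancel])
    omega

/-- The relation of the commutator. -/
theorem relations : ∀ x : G, x = L.ψ 1 * l * (L.ψ 1)⁻¹ →
    l * x * l⁻¹ * x⁻¹ = (L.ψ 192)⁻¹ ∧ L.ψ 8 * x * (L.ψ 8)⁻¹ = l * x * (L.ψ 192)⁻¹ := by
  rintro x rfl
  obtain ⟨c, hca, hc, hcl, hcx, hb⟩ := X.a2_x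
  rcases L.zpowers_a hca with e | e | e
  · exact absurd e (X.not_one hc hb)
  · rw [e] at hc hb
    exact absurd (X.not_pos hc hb) id
  · refine ⟨?_, e ▸ hb⟩
    rw [hc, e]; group

end Axis

end Cfsg.Lib.UFourThreeLocal
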