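import Cfsg.Agent.Lib.UFourThreeLocal.Coord

/-!
# The checks that fix the two signs
-/

set_option autoImplicit false
set_option maxRecDepth 10000

namespace Cfsg.Lib.UFourThreeLocal

/-- The noncentral involutions of the centraliser of code 25 in the two-core. -/
def invA : List ℕ := [50, 54, 78, 74, 51, 55, 75, 79]

/-- What is known about the code of a lifted involution. -/
def goodCode (e₁ e₂ : Bool) (h : ℕ) : Bool :=
  Nat.ble 576 h && Nat.beq (mulP e₁ e₂ h h) 0 && Nat.beq (mulP e₁ e₂ h 25) (mulP e₁ e₂ 25 h) &&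
    ([24, 50].all fun q => meetU.any fun u => Nat.beq (mulP e₁ e₂ h q) (mulP e₁ e₂ (mulP e₁ e₂ u q) h)) &&
    invA.all fun a => !Nat.beq (mulP e₁ e₂ h a) (mulP e₁ e₂ (pMul a 25) h)

theorem reverse_check : ([false, true].all fun e₁ => [false, true].all fun e₂ => elts.all fun b =>
    !(Nat.ble 576 b && Nat.beq (mulP e₁ e₂ b b) 0 && Nat.beq (mulP e₁ e₂ b 25) (mulP e₁ e₂ 25 b)) ||
      [50, 78].all fun y => !Nat.beq (mulP e₁ e₂ b y) (mulP e₁ e₂ (pMul y 4) b)) = true := by decide +kernel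

theorem sign_check : ([false, true].all fun e₁ => [false, true].all fun e₂ =>
    let L := elts.filter (goodCode e₁ e₂)
    L.all fun h => L.all fun k =>
      !Nat.beq (mulP e₁ e₂ (mulP e₁ e₂ h k) (mulP e₁ e₂ h k)) 25 ||
        (e₁ && e₂ && ((Nat.beq (h / 576) 1 && Nat.beq (k / 576) 3) ||
          (Nat.beq (h / 576) 3 && Nat.beq (k / 576) 1)))) = true := by decide +kernel

end Cfsg.Lib.UFourThreeLocal
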