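import Cfsg.Agent.Lib.UFourThreeLocal.SignChecks

/-!
# The signs, and the class of the involutions
-/

set_option autoImplicit false
set_option maxRecDepth 10000

namespace Cfsg.Lib.UFourThreeLocal

open Subgroup

theorem okH_code {t x : ℕ} (ht : t < 4) (hx : okP x = true) : okH (576 * t + x) = true := by
  obtain ⟨h1, -, -, h4⟩ := okP_bounds hx
  rw [okH, Bool.and_eq_true, Nat.blt_eq, Nat.blt_eq, Nat.mul_add_mod, Nat.mod_eq_of_lt h1]
  exact ⟨by omega, h4⟩

theorem okH_bounds {h : ℕ} (hh : okH h = true) : h / 576 < 4 ∧ okP (h % 576) = true := by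
  rw [okH, Bool.and_eq_true, Nat.blt_eq, Nat.blt_eq] at hh
  refine ⟨by omega, ?_⟩
  rw [okP, Bool.and_eq_true, Nat.blt_eq, Nat.blt_eq]; omega

theorem okH_okP {x : ℕ} (hx : okP x = true) : okH x = true := by
  simpa using okH_code (t := 0) (by norm_num) hx

theorem reps_outer : ([1, 2, 3].all fun t => eltsP.all fun x =>
    [24, 48, 1, 2].any fun q => !Nat.beq (pMul (pMul x q) (pInv x)) (pAct t q)) = true := by decide +kernel

namespace CoordP

variable {G : Type*} [Group G] {z : G} (C : CoordP z)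

theorem psi_okP {x : ℕ} (hx : okP x = true) : C.psi x = C.K.phi x := by
  rw [psi, Nat.mod_eq_of_lt (okP_bounds hx).1, Nat.div_eq_of_lt (okP_bounds hx).1]
  simp [rep]

theorem psi_zero : C.psi 0 = 1 := by rw [C.psi_okP (by decide), C.K.phi_zero]

theorem psi_four : C.psi 4 = z := by rw [C.psi_okP (by decide), C.K.phi_four]

theorem rep_cent {t : ℕ} : Commute (C.rep t) z := ((C.s_cent.pow_left _).mul_left (C.m_cent.pow_left _))

theorem psi_cent {h : ℕ} (hh : okH h = true) : Commute (C.psi h) z :=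
  (C.K.phi_cent (okH_bounds hh).2).mul_left C.rep_cent

theorem rep_notMem {t x : ℕ} (ht : t < 4) (h0 : t ≠ 0) (hx : okP x = true) : C.K.phi x ≠ C.rep t := by
  intro e
  have hr := List.all_eq_true.1 reps_outer t (by simp; omega)
  have h := List.all_eq_true.1 hr x (mem_eltsP.2 hx)
  simp only [List.any_eq_true, Bool.not_eq_true'] at h
  obtain ⟨q, hq, hne⟩ := h
  have hl : ∀ q ∈ [24, 48, 1, 2], okP q = true := by decide +kernel
  have hqP : okP q = true := hl q hq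
  obtain ⟨hact, hok⟩ := C.rep_phi ht hqP
  obtain ⟨k1, k2⟩ := C.K.phi_mul hx hqP
  obtain ⟨k3, k4⟩ := C.K.phi_inv hx
  obtain ⟨k5, k6⟩ := C.K.phi_mul k1 k3
  have := C.K.phi_inj k5 hok (by rw [k6, k2, k4, ← hact, e])
  rw [this, Nat.beq_refl] at hne
  exact Bool.noConfusion hne

theorem psi_inj {h h' : ℕ} (hh : okH h = true) (hh' : okH h' = true) (e : C.psi h = C.psi h') : h = h' := by
  obtain ⟨ht, hx⟩ := okH_bounds hh
  obtain ⟨ht', hx'⟩ := okH_bounds hh'
  obtain ⟨hi, hie⟩ := C.K.phi_inv hx'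
  obtain ⟨hm, hme⟩ := C.K.phi_mul hi hx
  set T := h / 576
  set T' := h' / 576
  set r := pMul (pInv (h' % 576)) (h % 576)
  have key : C.K.phi r * C.rep T = C.rep T' := by
    rw [hme, hie]
    calc (C.K.phi (h' % 576))⁻¹ * C.K.phi (h % 576) * C.rep T = (C.K.phi (h' % 576))⁻¹ * C.psi h := by
          simp only [psi]; group; rfl
      _ = C.rep T' := by rw [e]; simp only [psi]; group; rfl
  -- divide by a representative on the right
  obtain ⟨U, hU, hU'⟩ : ∃ U < 4, (T % 2 + U % 2) % 2 + 2 * ((T / 2 + U / 2) % 2) = 0 :=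
    ⟨T, ht, by omega⟩
  have hf := C.rep_mul ht hU
  rw [hU', show C.rep 0 = 1 by simp [rep], mul_one] at hf
  have hg := C.rep_mul ht' hU
  have htail : ∀ a b, ∃ y, okP y = true ∧ C.K.phi y = C.tail a b := fun a b => by
    refine ⟨_, (C.K.phi_mul (x := zc (Nat.beq (a / 2 * (b / 2)) 1 && C.e₁))
      (y := zc (Nat.beq (a / 2 * (b % 2)) 1 && C.e₂)) ?_ ?_).1, (C.K.phi_mul ?_ ?_).2⟩ <;>
    · unfold zc; split <;> decide
  obtain ⟨y₁, hy₁, e₁⟩ := htail T U
  obtain ⟨y₂, hy₂, e₂⟩ := htail T' U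
  have key2 : C.K.phi r * C.K.phi y₁ =
      C.K.phi y₂ * C.rep ((T' % 2 + U % 2) % 2 + 2 * ((T' / 2 + U / 2) % 2)) := by
    rw [e₁, e₂, ← hf, ← hg, ← mul_assoc, key]
  set W := (T' % 2 + U % 2) % 2 + 2 * ((T' / 2 + U / 2) % 2)
  obtain ⟨k1, k2⟩ := C.K.phi_mul hm hy₁
  obtain ⟨k3, k4⟩ := C.K.phi_inv hy₂
  obtain ⟨k5, k6⟩ := C.K.phi_mul k3 k1
  have hW : W = 0 := by
    by_contra hne
    refine C.rep_notMem (by omega) hne k5 ?_
    rw [k6, k4, k2, key2]; group
  have hTT : T = T' := by omega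
  rw [hTT] at key
  have hr0 : r = 0 := C.K.phi_inj hm (by decide) (by rw [C.K.phi_zero]; exact mul_eq_right.1 key)
  have hxx : h % 576 = h' % 576 := C.K.phi_inj hx hx' (by
    have := congrArg C.K.phi hr0
    rw [hme, hie, C.K.phi_zero, inv_mul_eq_one] at this
    exact this.symm)
  omega

theorem psi_surj [Finite G] {c : G} (hc : Commute c z) : ∃ h, okH h = true ∧ C.psi h = c := by
  obtain ⟨L, hL, hnd, hlen⟩ : ∃ L : List ℕ, (∀ h ∈ L, okH h = true) ∧ L.Nodup ∧ L.length = 1152 :=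
    ⟨elts, fun h hh => mem_elts.1 hh, List.Nodup.filter _ List.nodup_range, length_elts⟩
  let f : Fin L.length → ↥(centralizer ({z} : Set G)) := fun i =>
    ⟨C.psi (L.get i), mem_centralizer_singleton_iff.2 (C.psi_cent (hL _ (L.get_mem i))).eq⟩
  have hinj : Function.Injective f := fun a b e => hnd.injective_get
    (C.psi_inj (hL _ (L.get_mem a)) (hL _ (L.get_mem b)) (congrArg Subtype.val e))
  have hbij : Function.Bijective f := (Nat.bijective_iff_injective_and_card f).2 ⟨hinj, by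
    rw [Nat.card_fin, hlen, C.K.card]⟩
  obtain ⟨i, e⟩ := hbij.2 ⟨c, mem_centralizer_singleton_iff.2 hc.eq⟩
  exact ⟨L.get i, hL _ (L.get_mem i), congrArg Subtype.val e⟩

/-- The code of a lifted involution. -/
theorem lift_code [Finite G] {g : G} (M : C.K.Meet g) {a : ℕ} (ha : a ∈ [50, 78]) :
    ∃ h, okH h = true ∧ C.psi h = C.K.lift g a ∧ goodCode C.e₁ C.e₂ h = true := by
  have hfac : ∀ a ∈ [50, 78], okQ a = true ∧ pMul a 25 = pMul 25 a ∧ a ∉ meetU ∧ pMul a a = 0 := by decide +kernel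
  obtain ⟨f1, f2, f3, f4⟩ := hfac a ha
  have L := M.lifted f1 f2 f3
  obtain ⟨h, hh, e⟩ := C.psi_surj L.cent
  refine ⟨h, hh, e, ?_⟩
  have hmul : ∀ {u v : ℕ}, okH u = true → okH v = true → C.psi (mulP C.e₁ C.e₂ u v) = C.psi u * C.psi v :=
    fun hu hv => (C.psi_mulP hu hv).1
  have hok : ∀ {u v : ℕ}, okH u = true → okH v = true → okH (mulP C.e₁ C.e₂ u v) = true :=
    fun hu hv => (C.psi_mulP hu hv).2
  have sq : C.K.lift g a * C.K.lift g a = 1 := by
    rw [Comp.lift, show g * C.K.phi a * g⁻¹ * (g * C.K.phi a * g⁻¹) = g * (C.K.phi a * C.K.phi a) * g⁻¹ by group,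
      ← (C.K.phi_mul (Comp.okQ_P f1) (Comp.okQ_P f1)).2, f4, C.K.phi_zero]
    group
  have p25 : C.psi 25 = C.K.phi 25 := C.psi_okP (by decide)
  have o25 : okH 25 = true := by decide
  simp only [goodCode, Bool.and_eq_true, List.all_eq_true, List.any_eq_true, Nat.beq_eq, Nat.ble_eq,
    Bool.not_eq_true']
  refine ⟨⟨⟨⟨?_, ?_⟩, ?_⟩, ?_⟩, ?_⟩
  · by_contra hlt
    obtain ⟨-, hp⟩ := okH_bounds hh
    rw [Nat.mod_eq_of_lt (by omega)] at hp
    exact L.out ⟨h, hp, by rw [← C.psi_okP hp, e]⟩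
  · exact C.psi_inj (hok hh hh) (by decide) (by rw [hmul hh hh, e, sq, C.psi_zero])
  · exact C.psi_inj (hok hh o25) (hok o25 hh) (by rw [hmul hh o25, hmul o25 hh, e, p25, L.fix.eq])
  · intro q hq
    have hqf : ∀ q ∈ [24, 50], okQ q = true ∧ pMul q 25 = pMul 25 q := by decide +kernel
    obtain ⟨q1, q2⟩ := hqf q hq
    obtain ⟨u, hu, hue⟩ := L.comm q q1 q2
    have huP : ∀ u ∈ meetU, okP u = true := by decide
    have oq := okH_okP (Comp.okQ_P q1)
    have ou := okH_okP (huP u hu)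
    refine ⟨u, hu, C.psi_inj (hok hh oq) (hok (hok ou oq) hh) ?_⟩
    rw [hmul hh oq, hmul (hok ou oq) hh, hmul ou oq, e, C.psi_okP (Comp.okQ_P q1), C.psi_okP (huP u hu), hue]
    group
  · intro b hb
    have hbf : ∀ b ∈ invA, okQ b = true ∧ pMul b 25 = pMul 25 b ∧ b ∉ meetU ∧ pMul b b = 0 ∧
        okP (pMul b 25) = true := by decide +kernel
    obtain ⟨b1, b2, b3, b4, b5⟩ := hbf b hb
    have ob := okH_okP (Comp.okQ_P b1)
    have ob5 := okH_okP b5
    rw [Bool.eq_false_iff]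
    intro hq
    have hy := congrArg C.psi (Nat.eq_of_beq_eq_true hq)
    rw [hmul hh ob, hmul ob5 hh, e, C.psi_okP (Comp.okQ_P b1), C.psi_okP b5,
      (C.K.phi_mul (Comp.okQ_P b1) (by decide)).2, ← M.fwd] at hy
    -- the same relation seen from the other side
    set B := g⁻¹ * C.K.phi b * g
    have hB : Commute B z := by
      have h25 : Commute (C.K.phi b) (C.K.phi 25) := by
        rw [commute_iff_eq, ← (C.K.phi_mul (Comp.okQ_P b1) (by decide)).2,
          ← (C.K.phi_mul (by decide) (Comp.okQ_P b1)).2, b2]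
      have h := (Commute.conj_iff g⁻¹).2 h25
      rwa [inv_inv, show g⁻¹ * C.K.phi 25 * g = z by rw [← M.fwd]; group] at h
    obtain ⟨k, hk, hke⟩ := C.psi_surj hB
    have hB2 : B * B = 1 := by
      simp only [B]
      rw [show g⁻¹ * C.K.phi b * g * (g⁻¹ * C.K.phi b * g) = g⁻¹ * (C.K.phi b * C.K.phi b) * g by group,
        ← (C.K.phi_mul (Comp.okQ_P b1) (Comp.okQ_P b1)).2, b4, C.K.phi_zero]
      group
    have hB25 : Commute B (C.K.phi 25) := by
      have h := (Commute.conj_iff g⁻¹).2 (C.K.phi_cent (Comp.okQ_P b1))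
      rwa [inv_inv, M.bwd] at h
    have hk576 : 576 ≤ k := by
      by_contra hlt
      obtain ⟨-, hp⟩ := okH_bounds hk
      rw [Nat.mod_eq_of_lt (by omega)] at hp
      have hkQ : okQ k = true := C.K.inQ_of_pow hp (by
        rw [← C.psi_okP hp, hke]
        simp only [pow_succ, pow_zero, one_mul, hB2])
      refine b3 (M.inter_eq b1 (C.K.inQ_iff.2 ⟨k, hkQ, ?_⟩))
      rw [← C.psi_okP hp, hke]
    have hrev := List.all_eq_true.1 (List.all_eq_true.1 (List.all_eq_true.1 reverse_check C.e₁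
      (by cases C.e₁ <;> simp)) C.e₂ (by cases C.e₂ <;> simp)) k (mem_elts.2 hk)
    have c1 : Nat.beq (mulP C.e₁ C.e₂ k k) 0 = true := by
      rw [Nat.beq_eq]
      exact C.psi_inj (hok hk hk) (by decide) (by rw [hmul hk hk, hke, hB2, C.psi_zero])
    have c2 : Nat.beq (mulP C.e₁ C.e₂ k 25) (mulP C.e₁ C.e₂ 25 k) = true := by
      rw [Nat.beq_eq]
      exact C.psi_inj (hok hk o25) (hok o25 hk) (by rw [hmul hk o25, hmul o25 hk, hke, p25, hB25.eq])
    have c0 : Nat.ble 576 k = true := by rw [Nat.ble_eq]; exact hk576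
    simp only [c0, c1, c2, Bool.and_self, Bool.not_true, Bool.false_or, List.all_eq_true, Bool.not_eq_true'] at hrev
    have hne := hrev a ha
    rw [Bool.eq_false_iff] at hne
    refine hne ?_
    rw [Nat.beq_eq]
    have oa := okH_okP (Comp.okQ_P f1)
    obtain ⟨a4, a4e⟩ := C.K.phi_mul (Comp.okQ_P f1) (show okP 4 = true by decide)
    refine C.psi_inj (hok hk oa) (hok (okH_okP a4) hk) ?_
    rw [hmul hk oa, hmul (okH_okP a4) hk, hke, C.psi_okP (Comp.okQ_P f1), C.psi_okP a4, a4e, C.K.phi_four]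
    -- move the equation by conjugation
    have e2 : C.K.phi a * B = B * z * C.K.phi a := by
      simp only [Comp.lift] at hy
      calc C.K.phi a * B = g⁻¹ * ((g * C.K.phi a * g⁻¹) * C.K.phi b) * g := by simp only [B]; group
        _ = g⁻¹ * (C.K.phi b * (g * z * g⁻¹) * (g * C.K.phi a * g⁻¹)) * g := by rw [hy]
        _ = _ := by simp only [B]; group
    have hBz := hB.eq
    calc B * C.K.phi a = B * (C.K.phi a * B) * B := by
          rw [show B * (C.K.phi a * B) * B = B * C.K.phi a * (B * B) by group, hB2, mul_one]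
      _ = B * (B * z * C.K.phi a) * B := by rw [e2]
      _ = (B * B) * (z * C.K.phi a) * B := by group
      _ = C.K.phi a * z * B := by rw [hB2, one_mul, ← (C.K.phi_cent (Comp.okQ_P f1)).eq]

theorem signs [Finite G] : (C.e₁ = true ∧ C.e₂ = true) ∧
    ∀ t, t = 1 ∨ t = 3 → ∃ h, okH h = true ∧ h / 576 = t ∧ mulP C.e₁ C.e₂ h h = 0 ∧ IsConj z (C.psi h) := by
  obtain ⟨g, M⟩ := C.K.exists_meet
  obtain ⟨h, hh, he, hgood⟩ := C.lift_code M (a := 50) (by simp)
  obtain ⟨k, hk, hke, kgood⟩ := C.lift_code M (a := 78) (by simp)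
  have o25 : okH 25 = true := by decide
  obtain ⟨hm, hmok⟩ := C.psi_mulP hh hk
  obtain ⟨hq, hqok⟩ := C.psi_mulP hmok hmok
  have e25 : mulP C.e₁ C.e₂ (mulP C.e₁ C.e₂ h k) (mulP C.e₁ C.e₂ h k) = 25 := by
    refine C.psi_inj hqok o25 ?_
    rw [hq, hm, he, hke, C.psi_okP (show okP 25 = true by decide), Comp.lift, Comp.lift, ← M.fwd]
    have e : C.K.phi 50 * C.K.phi 78 * (C.K.phi 50 * C.K.phi 78) = z := by
      rw [← (C.K.phi_mul (x := 50) (y := 78) (by decide) (by decide)).2,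
        ← (C.K.phi_mul (x := pMul 50 78) (y := pMul 50 78) (by decide +kernel) (by decide +kernel)).2,
        show pMul (pMul 50 78) (pMul 50 78) = 4 by decide +kernel, C.K.phi_four]
    conv_rhs => rw [← e]
    group
  have hm2 : ∀ {b : Bool}, b ∈ [false, true] := fun {b} => by cases b <;> simp
  have hs := List.all_eq_true.1 (List.all_eq_true.1 (List.all_eq_true.1 (List.all_eq_true.1 sign_check C.e₁ hm2)
    C.e₂ hm2) h (List.mem_filter.2 ⟨mem_elts.2 hh, hgood⟩)) k (List.mem_filter.2 ⟨mem_elts.2 hk, kgood⟩)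
  simp only [e25, Nat.beq_refl, Bool.not_true, Bool.false_or, Bool.and_eq_true, Bool.or_eq_true, Nat.beq_eq] at hs
  obtain ⟨⟨s1, s2⟩, hcases⟩ := hs
  refine ⟨⟨s1, s2⟩, ?_⟩
  have hinv : ∀ {h : ℕ}, goodCode C.e₁ C.e₂ h = true → mulP C.e₁ C.e₂ h h = 0 := by
    intro h hg
    simp only [goodCode, Bool.and_eq_true, Nat.beq_eq] at hg
    exact hg.1.1.1.2
  have hcj : ∀ {a : ℕ}, a ∈ [50, 78] → IsConj z (C.K.lift g a) := by
    intro a ha
    have key : ∀ a ∈ [50, 78], ∃ x ∈ eltsP, pMul (pMul x a) (pInv x) = 25 ∧ okP a = true := by decide +kernel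
    obtain ⟨x, hx, e, oa⟩ := key a ha
    rw [mem_eltsP] at hx
    have e' : C.K.phi 25 = C.K.phi x * C.K.phi a * (C.K.phi x)⁻¹ := by
      rw [← (C.K.phi_inv hx).2, ← (C.K.phi_mul hx oa).2,
        ← (C.K.phi_mul (C.K.phi_mul hx oa).1 (C.K.phi_inv hx).1).2, e]
    rw [← M.fwd] at e'
    refine isConj_iff.2 ⟨g * (C.K.phi x)⁻¹ * g, ?_⟩
    rw [Comp.lift, show g * (C.K.phi x)⁻¹ * g * z * (g * (C.K.phi x)⁻¹ * g)⁻¹ =
      g * ((C.K.phi x)⁻¹ * (g * z * g⁻¹) * C.K.phi x) * g⁻¹ by group, e']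
    group
  intro t ht
  rcases hcases with ⟨a, b⟩ | ⟨a, b⟩ <;> rcases ht with rfl | rfl
  · exact ⟨h, hh, a, hinv hgood, he ▸ hcj (by simp)⟩
  · exact ⟨k, hk, b, hinv kgood, hke ▸ hcj (by simp)⟩
  · exact ⟨k, hk, b, hinv kgood, hke ▸ hcj (by simp)⟩
  · exact ⟨h, hh, a, hinv hgood, he ▸ hcj (by simp)⟩

end CoordP

end Cfsg.Lib.UFourThreeLocal
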