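import Cfsg.Agent.Lib.UFourThreeLocal.Vertex

/-!
# Three commuting subgroups of order nine
-/

set_option autoImplicit false

namespace Cfsg.Lib.UFourThreeLocal

open Subgroup

/-- An element of a subgroup of odd order splits along an involution normalising it. -/
theorem split_odd {G : Type*} [Group G] {Y : Subgroup G} (hY : ∀ y ∈ Y, Odd (orderOf y)) {t : G}
    (ht : t * t = 1) (htY : ∀ y ∈ Y, t * y * t⁻¹ ∈ Y) {y : G} (hy : y ∈ Y) :
    ∃ r ∈ Y, ∃ c ∈ Y, y = r * c ∧ t * r * t⁻¹ = r⁻¹ ∧ Commute c t := by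
  have hti : t⁻¹ = t := inv_eq_of_mul_eq_one_right ht
  set u := y * (t * y⁻¹ * t⁻¹) with hu
  have huY : u ∈ Y := mul_mem hy (htY _ (inv_mem hy))
  obtain ⟨k, hk⟩ := hY u huY
  have h2 : u ^ (k + 1) * u ^ (k + 1) = u := by
    rw [← pow_add, show k + 1 + (k + 1) = orderOf u + 1 by omega, pow_succ, pow_orderOf_eq_one, one_mul]
  have hinv : t * u * t⁻¹ = u⁻¹ := by
    have hut : u = y * t * y⁻¹ * t := by rw [hu, hti]; group
    calc t * u * t⁻¹ = t * y * t * y⁻¹ * (t * t⁻¹) := by rw [hut]; group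
      _ = u⁻¹ := by rw [mul_inv_cancel, mul_one, hut, mul_inv_rev, mul_inv_rev, mul_inv_rev, inv_inv, hti]; group
  refine ⟨u ^ (k + 1), pow_mem huY _, (u ^ (k + 1))⁻¹ * y, mul_mem (inv_mem (pow_mem huY _)) hy,
    (mul_inv_cancel_left _ _).symm, by rw [← conj_pow, hinv, inv_pow], ?_⟩
  set r := u ^ (k + 1) with hr
  have hi : t * r * t⁻¹ = r⁻¹ := by rw [hr, ← conj_pow, hinv, inv_pow]
  have hty : t * y * t⁻¹ = (r * r)⁻¹ * y := by
    rw [h2, hu, mul_inv_rev, mul_inv_rev, mul_inv_rev, inv_inv, inv_inv]; group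
  have : t * (r⁻¹ * y) * t⁻¹ = r⁻¹ * y := by
    rw [show t * (r⁻¹ * y) * t⁻¹ = (t * r * t⁻¹)⁻¹ * (t * y * t⁻¹) by group, hi, hty]; group
  exact (mul_inv_eq_iff_eq_mul.1 this).symm

namespace Vertex

variable {G : Type*} [Group G] {d v u : G} {T Y Tu Yu Tw Yw : Subgroup G}

theorem conj_T (X : Vertex d v T Y) (hdu : Commute d u) (huv : Commute u v) {t : G} (ht : t ∈ T) :
    u * t * u⁻¹ ∈ T ∧ u⁻¹ * t * u ∈ T := by
  obtain ⟨h3, h1, h2⟩ := (X.mem_T t).1 ht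
  have key : ∀ g : G, Commute d g → Commute g v → g * t * g⁻¹ ∈ T := fun g hd hv => by
    refine (X.mem_T _).2 ⟨by rw [conj_pow, h3]; group, ?_, ?_⟩
    · have := (Commute.conj_iff g).2 h1
      rwa [show g * d * g⁻¹ = d by rw [← hd.eq]; group] at this
    · have := (Commute.conj_iff g).2 h2
      rwa [show g * v * g⁻¹ = v by rw [hv.eq]; group] at this
  exact ⟨key u hdu huv, by simpa using key u⁻¹ hdu.inv_right huv.inv_left⟩

theorem conj_Y (X : Vertex d v T Y) (hdu : Commute d u) (huv : Commute u v) {y : G} (hy : y ∈ Y) :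
    u * y * u⁻¹ ∈ Y := by
  obtain ⟨ho, hc⟩ := (X.mem_Y y).1 hy
  refine (X.mem_Y _).2 ⟨by rwa [Invol.orderOf_conj_eq], fun t ht => ?_⟩
  exact (commute_iff_conj u y t).2 (hc _ (X.conj_T hdu huv ht).2)

/-- The odd part of the centraliser is the product of three fixed-point subgroups. -/
theorem three (Xv : Vertex d v T Y) (Xu : Vertex d u Tu Yu) (Xw : Vertex d (v * u) Tw Yw)
    (huv : Commute u v) (hd : d ^ 3 = 1) {y : G} (hy : y ∈ Y) :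
    ∃ p ∈ Tw, p ∈ Y ∧ ∃ q ∈ Tu, q ∈ Y ∧ ∃ t ∈ T, y = p * q * t := by
  have hodd : ∀ y ∈ Y, Odd (orderOf y) := fun y hy => ((Xv.mem_Y y).1 hy).1
  have hdY : ∀ y ∈ Y, Commute y d := fun y hy => ((Xv.mem_Y y).1 hy).2 d (Xv.d_mem hd)
  have hv' : ∀ y ∈ Y, v * y * v⁻¹ ∈ Y := fun y => Xv.conj_Y Xv.comm_dv (Commute.refl v)
  have hu' : ∀ y ∈ Y, u * y * u⁻¹ ∈ Y := fun y => Xv.conj_Y Xu.comm_dv huv
  obtain ⟨r, hr, c0, hc0, rfl, hri, hc0v⟩ := split_odd hodd Xv.v_sq hv' hy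
  obtain ⟨r', hr', c, hc, rfl, hr'i, hcu⟩ := split_odd hodd Xu.v_sq hu' hr
  obtain ⟨r'', hr'', c1, hc1, rfl, hr''i, hc1v⟩ := split_odd hodd Xv.v_sq hv' hr'
  have hc0T := Xv.Y_v c0 hc0 hc0v
  have hc1T := Xv.Y_v c1 hc1 hc1v
  have hcT : c ∈ Tu := Xu.odd_T c (hodd c hc) (hdY c hc) hcu
  have hct : ∀ t ∈ T, ∀ y ∈ Y, Commute y t := fun t ht y hy => ((Xv.mem_Y y).1 hy).2 t ht
  set c1' := u * c1⁻¹ * u⁻¹ with hc1'
  have hc1'T : c1' ∈ T := (Xv.conj_T Xu.comm_dv huv (inv_mem hc1T)).1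
  set t2 := c1⁻¹ * c1' with ht2
  have ht2T : t2 ∈ T := mul_mem (inv_mem hc1T) hc1'T
  have e1 : u * r'' * u⁻¹ = r''⁻¹ * t2 := by
    calc u * r'' * u⁻¹ = u * (r'' * c1) * u⁻¹ * c1' := by rw [hc1']; group
      _ = c1⁻¹ * r''⁻¹ * c1' := by rw [hr'i, mul_inv_rev]
      _ = r''⁻¹ * t2 := by rw [(hct _ (inv_mem hc1T) _ (inv_mem hr'')).symm.eq, ht2, mul_assoc]
  have e2 : u * r''⁻¹ * u⁻¹ = r'' * t2 := by
    calc u * r''⁻¹ * u⁻¹ = u * (v * r'' * v⁻¹) * u⁻¹ := by rw [hr''i]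
      _ = v * (u * r'' * u⁻¹) * v⁻¹ := by
          rw [show u * (v * r'' * v⁻¹) * u⁻¹ = u * v * r'' * (u * v)⁻¹ by group, huv.eq]; group
      _ = v * r''⁻¹ * v⁻¹ * (v * t2 * v⁻¹) := by rw [e1]; group
      _ = r'' * t2 := by
          rw [show v * r''⁻¹ * v⁻¹ = (v * r'' * v⁻¹)⁻¹ by group, hr''i, inv_inv,
            ← ((Xv.mem_T t2).1 ht2T).2.2.eq]; group
  have ht : t2 = 1 := by
    have h3 : u * r''⁻¹ * u⁻¹ = (u * r'' * u⁻¹)⁻¹ := by group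
    rw [e1, e2, mul_inv_rev, inv_inv, ← (hct _ (inv_mem ht2T) _ hr'').eq, mul_right_inj] at h3
    have h2 : t2 ^ 2 = 1 := by rw [pow_two]; nth_rewrite 1 [h3]; group
    refine orderOf_eq_one_iff.1 ?_
    rcases (Nat.dvd_prime Nat.prime_two).1 (orderOf_dvd_of_pow_eq_one h2) with e | e
    · exact e
    · exact absurd (hodd t2 (Xv.T_le ht2T)) (by rw [e]; decide)
  rw [ht, mul_one] at e1
  have hw : Commute r'' (v * u) := by
    have : v * u * r'' * (v * u)⁻¹ = r'' := by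
      calc v * u * r'' * (v * u)⁻¹ = v * (u * r'' * u⁻¹) * v⁻¹ := by group
        _ = (v * r'' * v⁻¹)⁻¹ := by rw [e1]; group
        _ = r'' := by rw [hr''i, inv_inv]
    exact (mul_inv_eq_iff_eq_mul.1 this).symm
  refine ⟨r'', Xw.odd_T _ (hodd _ hr'') (hdY _ hr'') hw, hr'', c, hcT, hc, c1 * c0, mul_mem hc1T hc0T, ?_⟩
  rw [mul_assoc r'' c1 c, ← (hct c1 hc1T c hc).eq]; group

theorem full [Finite G] (Xu : Vertex d u Tu Yu) (hd : d ^ 3 = 1) (hd1 : d ≠ 1) (hdY : d ∈ Y) {q : G}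
    (hq : q ∈ Tu) (hqY : q ∈ Y) (hqd : q ∉ zpowers d) : Tu ≤ Y := by
  have hle : zpowers d ≤ Tu ⊓ Y := zpowers_le.2 ⟨Xu.d_mem hd, hdY⟩
  have h3 : Nat.card (zpowers d) = 3 := by
    have : Fact (Nat.Prime 3) := ⟨Nat.prime_three⟩
    rw [Nat.card_zpowers, orderOf_eq_prime hd hd1]
  have hlt : 3 < Nat.card (Tu ⊓ Y : Subgroup G) := by
    rw [← h3]
    refine lt_of_le_of_ne (Subgroup.card_le_of_le hle) fun e => hqd ?_
    rw [eq_of_le_of_card_ge hle e.ge]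
    exact ⟨hq, hqY⟩
  have hdvd : Nat.card (Tu ⊓ Y : Subgroup G) ∣ 3 ^ 2 :=
    (Subgroup.card_dvd_of_le inf_le_left).trans (by rw [Xu.card_T]; norm_num)
  obtain ⟨k, hk, e⟩ := (Nat.dvd_prime_pow Nat.prime_three).1 hdvd
  have hge : Nat.card Tu ≤ Nat.card (Tu ⊓ Y : Subgroup G) := by
    rw [Xu.card_T, e]
    rw [e] at hlt
    interval_cases k <;> simp_all
  exact inf_eq_left.1 (eq_of_le_of_card_ge inf_le_left hge)

theorem le_symm (X : Vertex d v T Y) (Xu : Vertex d u Tu Yu) (h : Tu ≤ Y) : T ≤ Yu := fun t ht =>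
  (Xu.mem_Y t).2 ⟨((X.mem_Y t).1 (X.T_le ht)).1, fun q hq => (((X.mem_Y q).1 (h hq)).2 t ht).symm⟩

/-- Without an edge to the third vertex the odd part lies in two subgroups. -/
theorem le_two [Finite G] (Xv : Vertex d v T Y) (Xu : Vertex d u Tu Yu) (Xw : Vertex d (v * u) Tw Yw)
    (huv : Commute u v) (hd : d ^ 3 = 1) (hd1 : d ≠ 1) (hw : ¬ Tw ≤ Y) : Y ≤ T ⊔ Tu := by
  intro y hy
  obtain ⟨p, hp, hpY, q, hq, -, t, ht, rfl⟩ := Xv.three Xu Xw huv hd hy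
  refine mul_mem (mul_mem ?_ (mem_sup_right hq)) (mem_sup_left ht)
  by_contra hc
  refine hw (Xw.full hd hd1 (Xv.T_le (Xv.d_mem hd)) hp hpY fun h => hc ?_)
  exact mem_sup_left ((zpowers_le.2 (Xv.d_mem hd)) h)

theorem neighbour [Finite G] (Xv : Vertex d v T Y) (Xu : Vertex d u Tu Yu) (Xw : Vertex d (v * u) Tw Yw)
    (huv : Commute u v) (hd : d ^ 3 = 1) (hd1 : d ≠ 1) (hne : Y ≠ T) : Tu ≤ Y ∨ Tw ≤ Y := by
  by_contra h
  obtain ⟨hu, hw⟩ := not_or.1 h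
  refine hne (le_antisymm (fun y hy => ?_) Xv.T_le)
  obtain ⟨p, hp, hpY, q, hq, hqY, t, ht, rfl⟩ := Xv.three Xu Xw huv hd hy
  refine mul_mem (mul_mem ?_ ?_) ht
  · by_contra hc
    exact hw (Xw.full hd hd1 (Xv.T_le (Xv.d_mem hd)) hp hpY fun h => hc (zpowers_le.2 (Xv.d_mem hd) h))
  · by_contra hc
    exact hu (Xu.full hd hd1 (Xv.T_le (Xv.d_mem hd)) hq hqY fun h => hc (zpowers_le.2 (Xv.d_mem hd) h))

/-- Two edges at a vertex force the third one. -/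
theorem close [Finite G] (Xv : Vertex d v T Y) (Xu : Vertex d u Tu Yu) (Xw : Vertex d (v * u) Tw Yw)
    (huv : Commute u v) (hd : d ^ 3 = 1) (hd1 : d ≠ 1) (hcard : Nat.card Yu = Nat.card Y)
    (hu : Tu ≤ Y) (hw : Tw ≤ Y) : Tw ≤ Yu := by
  by_contra hn
  have h' : Vertex d (u * v) Tw Yw := huv.eq ▸ Xw
  have hle := (Xu.le_two Xv h' huv.symm hd hd1 hn).trans (sup_le hu Xv.T_le)
  exact hn (eq_of_le_of_card_ge hle hcard.ge ▸ hw)

end Vertex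

end Cfsg.Lib.UFourThreeLocal
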