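import Cfsg.Agent.Lib.UFourThreeLocal.Code
import Cfsg.Agent.Lib.ReeType.Three

/-!
# The three-subgroups of order nine attached to the involutions centralising a diagonal element
-/

set_option autoImplicit false
set_option maxRecDepth 10000

namespace Cfsg.Lib.UFourThreeLocal

open Subgroup

attribute [local irreducible] elts mulH conjH invH okH pow16 pow3 pow9 commH eltsS sylS

/-- An involution `v` centralising `d`, with the subgroup `T` of order nine of their common
centraliser and the odd part `Y` of the centraliser of `T`. -/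
structure Vertex {G : Type*} [Group G] (d v : G) (T Y : Subgroup G) : Prop where
  v_sq : v * v = 1
  v_ne : v ≠ 1
  comm_dv : Commute d v
  mem_T : ∀ y : G, y ∈ T ↔ y ^ 3 = 1 ∧ Commute y d ∧ Commute y v
  card_T : Nat.card T = 9
  comm_T : ∀ a ∈ T, ∀ b ∈ T, Commute a b
  mem_Y : ∀ y : G, y ∈ Y ↔ Odd (orderOf y) ∧ ∀ t ∈ T, Commute y t
  cover : ∀ c : G, (∀ t ∈ T, Commute c t) → c ∈ Y ∨ c * v ∈ Y
  Y_v : ∀ y ∈ Y, Commute y v → y ∈ T
  odd_T : ∀ y : G, Odd (orderOf y) → Commute y d → Commute y v → y ∈ T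
  two_v : ∀ S : Subgroup G, IsPGroup 2 S → (∀ p ∈ S, Commute p d ∧ Commute p v) → Nat.card S ≤ 4

theorem commute_iff_conj {G : Type*} [Group G] (g a b : G) :
    Commute (g * a * g⁻¹) b ↔ Commute a (g⁻¹ * b * g) := by
  rw [← Commute.conj_iff g⁻¹]
  simp [mul_assoc]

theorem orderOf_conj' {G : Type*} [Group G] (g y : G) : orderOf (g⁻¹ * y * g) = orderOf y := by
  simpa using Invol.orderOf_conj_eq g⁻¹ y

theorem mem_map_conj {G : Type*} [Group G] (g : G) (T : Subgroup G) (y : G) :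
    y ∈ T.map (MulAut.conj g).toMonoidHom ↔ g⁻¹ * y * g ∈ T := by
  rw [MulEquiv.toMonoidHom_eq_coe, Subgroup.map_equiv_eq_comap_symm, Subgroup.mem_comap]
  simp

namespace Vertex

variable {G : Type*} [Group G] {d v : G} {T Y : Subgroup G} (X : Vertex d v T Y)
include X

theorem d_mem (hd : d ^ 3 = 1) : d ∈ T := (X.mem_T d).2 ⟨hd, Commute.refl d, X.comm_dv⟩

theorem T_le : T ≤ Y := fun t ht => (X.mem_Y t).2
  ⟨Odd.of_dvd_nat (by decide) (orderOf_dvd_of_pow_eq_one ((X.mem_T t).1 ht).1), X.comm_T t ht⟩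

theorem inv_unique (h : Y = T) {c : G} (hc : ∀ t ∈ T, Commute c t) (h2 : c * c = 1) (h1 : c ≠ 1) :
    c = v := by
  have hodd : ∀ y ∈ Y, y * y = 1 → y = 1 := fun y hy h2 => orderOf_eq_one_iff.1 (by
    rcases (Nat.dvd_prime Nat.prime_two).1 (orderOf_dvd_of_pow_eq_one (show y ^ 2 = 1 by rwa [pow_two]))
      with e | e
    · exact e
    · exact absurd ((X.mem_Y y).1 hy).1 (by rw [e]; decide))
  rcases X.cover c hc with hy | hy
  · exact absurd (hodd c hy h2) h1
  · have hv := ((X.mem_T _).1 (h ▸ hy)).2.2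
    have hcv : Commute c v := by
      have := hv.mul_left (Commute.refl v)
      rwa [mul_assoc, X.v_sq, mul_one] at this
    rw [mul_eq_one_iff_eq_inv.1 (hodd (c * v) hy (by rw [hcv.symm.mul_mul_mul_comm, h2, X.v_sq, one_mul])),
      inv_eq_of_mul_eq_one_right X.v_sq]

theorem map (g : G) : Vertex (g * d * g⁻¹) (g * v * g⁻¹) (T.map (MulAut.conj g).toMonoidHom)
    (Y.map (MulAut.conj g).toMonoidHom) := by
  have hT : ∀ y : G, y ∈ T.map (MulAut.conj g).toMonoidHom ↔ g⁻¹ * y * g ∈ T := mem_map_conj g T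
  have hY : ∀ y : G, y ∈ Y.map (MulAut.conj g).toMonoidHom ↔ g⁻¹ * y * g ∈ Y := mem_map_conj g Y
  have hc : ∀ y t : G, Commute y (g * t * g⁻¹) ↔ Commute (g⁻¹ * y * g) t := fun y t =>
    ⟨fun h => ((commute_iff_conj g t y).1 h.symm).symm, fun h => ((commute_iff_conj g t y).2 h.symm).symm⟩
  have hall : ∀ c : G, (∀ t ∈ T.map (MulAut.conj g).toMonoidHom, Commute c t) →
      ∀ t ∈ T, Commute (g⁻¹ * c * g) t := fun c h t ht =>
    (hc c t).1 (h _ ((hT _).2 (by simpa [mul_assoc] using ht)))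
  refine ⟨?_, ?_, ?_, ?_, ?_, ?_, ?_, ?_, ?_, ?_, ?_⟩
  · rw [show g * v * g⁻¹ * (g * v * g⁻¹) = g * (v * v) * g⁻¹ by group, X.v_sq]; group
  · rw [Ne, conj_eq_one_iff]; exact X.v_ne
  · exact (Commute.conj_iff g).2 X.comm_dv
  · intro y
    rw [hT, X.mem_T, hc, hc]
    refine and_congr_left' ?_
    rw [← orderOf_dvd_iff_pow_eq_one, ← orderOf_dvd_iff_pow_eq_one, orderOf_conj']
  · rw [← Nat.card_congr (T.equivMapOfInjective _ (MulAut.conj g).injective).toEquiv, X.card_T]
  · intro a ha b hb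
    have := X.comm_T _ ((hT a).1 ha) _ ((hT b).1 hb)
    rw [← Commute.conj_iff g⁻¹]
    simpa [mul_assoc] using this
  · intro y
    rw [hY, X.mem_Y, orderOf_conj']
    refine and_congr_right' ⟨fun h t ht => ?_, fun h => hall y h⟩
    have := (hc y (g⁻¹ * t * g)).2 (h _ ((hT t).1 ht))
    simpa [mul_assoc] using this
  · intro c h
    rw [hY, hY]
    rcases X.cover _ (hall c h) with h' | h'
    · exact Or.inl h'
    · exact Or.inr (by simpa [mul_assoc] using h')
  · intro y hy hv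
    rw [hT]
    exact X.Y_v _ ((hY y).1 hy) ((hc y v).1 hv)
  · intro y ho hd hv
    rw [hT]
    exact X.odd_T _ (by rwa [orderOf_conj']) ((hc y d).1 hd) ((hc y v).1 hv)
  · intro S hS h
    have := X.two_v (S.map (MulAut.conj g⁻¹).toMonoidHom) (hS.map _) fun p hp => by
      rw [mem_map_conj] at hp
      obtain ⟨h1, h2⟩ := h _ hp
      refine ⟨?_, ?_⟩
      · have := (hc _ d).1 h1; simpa [mul_assoc] using this
      · have := (hc _ v).1 h2; simpa [mul_assoc] using this
    rwa [← Nat.card_congr (S.equivMapOfInjective _ (MulAut.conj g⁻¹).injective).toEquiv] at this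

end Vertex

namespace Loc

variable {G : Type*} [Group G] {z : G} (L : Loc z)

theorem tCodes_ok {h : ℕ} (hh : h ∈ tCodes) : okH h = true := by
  have k := List.all_eq_true.1 tCodes_group h hh
  simp only [Bool.and_eq_true] at k
  exact k.1.1.1

theorem tCodes_facts {h : ℕ} (hh : h ∈ tCodes) : L.ψ h ^ 3 = 1 ∧ ∀ g ∈ tCodes, Commute (L.ψ h) (L.ψ g) := by
  have k := List.all_eq_true.1 tCodes_group h hh
  simp only [Bool.and_eq_true, Nat.beq_eq, List.all_eq_true] at k
  exact ⟨(L.psi_cube (tCodes_ok hh)).2 k.1.2, fun g hg => (L.psi_comm (tCodes_ok hh) (tCodes_ok hg)).2 (k.2 g hg).2⟩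

/-- The Sylow three-subgroup of the centraliser. -/
def tSub : Subgroup G :=
  L.listSub tCodes (fun _ h => tCodes_ok h) (by decide)
    (fun h hh g hg => by
      have k := List.all_eq_true.1 tCodes_group h hh
      simp only [Bool.and_eq_true, List.all_eq_true, List.elem_eq_mem, decide_eq_true_eq] at k
      exact (k.2 g hg).1)
    (fun h hh => by
      have k := List.all_eq_true.1 tCodes_group h hh
      simp only [Bool.and_eq_true, List.elem_eq_mem, decide_eq_true_eq] at k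
      exact k.1.1.2)

theorem mem_tSub {y : G} : y ∈ L.tSub ↔ ∃ h ∈ tCodes, L.ψ h = y := Iff.rfl

theorem psi_mem_tSub {h : ℕ} (hh : h ∈ tCodes) : L.ψ h ∈ L.tSub := ⟨h, hh, rfl⟩

/-- The odd part of the centraliser of the Sylow three-subgroup. -/
def ySub : Subgroup G := closure {y | Odd (orderOf y) ∧ ∀ t ∈ L.tSub, Commute y t}

theorem two_of_cent_tSub [Finite G] {S : Subgroup G} (hS : IsPGroup 2 S) (hzS : z ∈ S)
    (hc : ∀ p ∈ S, ∀ t ∈ L.tSub, Commute p t) : ∀ p ∈ S, p = 1 ∨ p = z := by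
  obtain ⟨c, hcS, hc2, hcc⟩ := exists_central hS (fun e => L.z_ne (by rw [e, mem_bot] at hzS; exact hzS))
  have key : ∀ p ∈ S, Commute p z → ∃ h, okH h = true ∧ L.ψ h = p ∧ commH 192 h = true ∧ commH 8 h = true :=
    fun p hp hpz => ⟨_, L.code_ok hpz, L.psi_code hpz,
      (L.psi_comm (tCodes_ok (by decide)) (L.code_ok hpz)).1
        (by rw [L.psi_code hpz]; exact (hc p hp _ (L.psi_mem_tSub (by decide))).symm),
      (L.psi_comm (tCodes_ok (by decide)) (L.code_ok hpz)).1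
        (by rw [L.psi_code hpz]; exact (hc p hp _ (L.psi_mem_tSub (by decide))).symm)⟩
  obtain ⟨h, hh, he, h1, h2⟩ := key c hcS (hcc z hzS)
  have hk := elts_spec cent_tCodes hh
  simp only [h1, h2, Bool.and_eq_true, Bool.or_eq_true, Bool.not_eq_true', Nat.beq_eq,
    Bool.and_self, not_true_eq_false, false_or, ← Bool.not_eq_true] at hk
  have hcz : c = z := by
    rcases hk.1.1 with (hk | hk) | hk
    · refine absurd ((L.psi_sq hh).1 ?_) hk
      rw [he]; simpa [hc2, pow_two] using pow_orderOf_eq_one c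
    · rw [hk, L.psi_zero] at he
      rw [← he, orderOf_one] at hc2
      omega
    · rw [← he, hk, L.z_eq]
  intro p hp
  have hpz : Commute p z := hcz ▸ (hcc p hp).symm
  obtain ⟨h, hh, he, h1, h2⟩ := key p hp hpz
  have hk := elts_spec cent_tCodes hh
  simp only [h1, h2, Bool.and_eq_true, Bool.or_eq_true, Bool.not_eq_true', Bool.and_self, Bool.true_eq_false,
    false_or, List.elem_eq_mem, decide_eq_true_eq] at hk
  have hone : ∀ q ∈ S, q ∈ L.tSub → q = 1 := by
    rintro q hq ⟨t, ht, rfl⟩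
    obtain ⟨k, hk'⟩ := hS ⟨_, hq⟩
    have e1 := congrArg Subtype.val hk'
    simp only [SubmonoidClass.coe_pow, OneMemClass.coe_one] at e1
    rw [← orderOf_eq_one_iff]
    exact Nat.eq_one_of_dvd_coprimes ((Nat.coprime_primes Nat.prime_two Nat.prime_three).2 (by decide) |>.pow_left k)
      (orderOf_dvd_of_pow_eq_one e1) (orderOf_dvd_of_pow_eq_one (L.tCodes_facts ht).1)
  rcases hk.1.2 with hk' | hk'
  · exact Or.inl (hone p hp ⟨h, hk', he⟩)
  · right
    have := hone (p * z) (mul_mem hp hzS) ⟨_, hk', by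
      rw [L.mul hh (by with_unfolding_all decide), he, L.z_eq]⟩
    rw [← mul_inv_eq_one, inv_eq_of_mul_eq_one_right L.z_sq, this]

theorem tSub_comm_z {t : G} (ht : t ∈ L.tSub) : Commute t z := by
  obtain ⟨h, hh, rfl⟩ := ht
  exact L.cent (tCodes_ok hh)

theorem ySub_props [Finite G] : (∀ y ∈ L.ySub, Odd (orderOf y) ∧ ∀ t ∈ L.tSub, Commute y t) ∧
    ∀ c : G, (∀ t ∈ L.tSub, Commute c t) → c ∈ L.ySub ∨ c * z ∈ L.ySub := by
  have : Fact (Nat.Prime 2) := ⟨Nat.prime_two⟩
  set C := centralizer (L.tSub : Set G)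
  have memC : ∀ c : G, c ∈ C ↔ ∀ t ∈ L.tSub, Commute c t := fun c => by
    rw [mem_centralizer_iff]; exact ⟨fun h t ht => (h t ht).symm, fun h t ht => (h t ht).symm⟩
  let z' : C := ⟨z, (memC z).2 fun t ht => (L.tSub_comm_z ht).symm⟩
  have ho : orderOf z' = 2 := by rw [← Subgroup.orderOf_coe]; exact L.order_z
  obtain ⟨P, hP⟩ := (IsPGroup.of_card (n := 1) (by rw [Nat.card_zpowers, ho, pow_one]) :
    IsPGroup 2 (zpowers z')).exists_le_sylow
  have hPz : (P : Subgroup C) = zpowers z' := by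
    refine le_antisymm (fun p hp => ?_) hP
    rcases L.two_of_cent_tSub (P.2.map C.subtype) ⟨z', hP (mem_zpowers z'), rfl⟩
      (by rintro - ⟨q, -, rfl⟩; exact (memC _).1 q.2) _ ⟨p, hp, rfl⟩ with e | e
    · rw [show p = 1 from Subtype.ext e]; exact one_mem _
    · rw [show p = z' from Subtype.ext e]; exact mem_zpowers _
  obtain ⟨M, -, hMi, hMo, hM⟩ := ReeType.exists_odd_complement P hPz ho
  have hzM : z' ∉ M := fun h => by
    have h1 := Odd.of_dvd_nat hMo (ho ▸ M.orderOf_dvd_natCard h)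
    rw [Nat.odd_iff] at h1
    omega
  have hle : L.ySub ≤ M.map C.subtype := (closure_le _).2 fun y ⟨hy, hc⟩ =>
    ⟨⟨y, (memC y).2 hc⟩, hM _ (by rwa [← Subgroup.orderOf_coe]), rfl⟩
  have hin : ∀ m ∈ M, (m : G) ∈ L.ySub := fun m hm => subset_closure
    ⟨by rw [Subgroup.orderOf_coe]; exact Odd.of_dvd_nat hMo (M.orderOf_dvd_natCard hm), (memC _).1 m.2⟩
  refine ⟨fun y hy => ?_, fun c hc => ?_⟩
  · obtain ⟨m, hm, rfl⟩ := hle hy
    exact ⟨by rw [Subgroup.subtype_apply, Subgroup.orderOf_coe]; exact Odd.of_dvd_nat hMo (M.orderOf_dvd_natCard hm),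
      (memC _).1 m.2⟩
  · by_cases h : (⟨c, (memC c).2 hc⟩ : C) ∈ M
    · exact Or.inl (hin _ h)
    · exact Or.inr (hin (⟨c, (memC c).2 hc⟩ * z') (((mul_mem_iff_of_index_two hMi).2 (iff_of_false h hzM))))

theorem base_vertex [Finite G] {x : ℕ} (hx : x ∈ [200, 208]) : Vertex (L.ψ x) z L.tSub L.ySub := by
  have hxo : okH x = true := by
    simp only [List.mem_cons, List.not_mem_nil, or_false] at hx
    rcases hx with rfl | rfl <;> exact tCodes_ok (by decide)
  have kx := List.all_eq_true.1 diag_cent x hx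
  simp only [Bool.and_eq_true, Nat.beq_eq, List.all_eq_true] at kx
  obtain ⟨⟨k36, kT⟩, kh⟩ := kx
  have kh' : ∀ {h : ℕ}, okH h = true → commH x h = true → (pow9 h = 0 → h ∈ tCodes) ∧ (pow3 h = 0 → h ∈ tCodes) := by
    intro h hh hc
    have k := kh h (mem_elts.2 hh)
    simp only [hc, Bool.and_eq_true, Bool.or_eq_true, Bool.not_eq_true', not_true_eq_false, Bool.true_eq_false, false_or,
      ← Bool.not_eq_true, Nat.beq_eq, List.elem_eq_mem, decide_eq_true_eq] at k
    exact ⟨fun e => k.1.resolve_left (not_not.2 e), fun e => k.2.resolve_left (not_not.2 e)⟩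
  have hcard : Nat.card (centralizer ({L.ψ x, z} : Set G)) = 36 := by
    rw [L.card_codes _ (elts.filter (commH x)) (nodup_elts.filter _)
      (fun h hh => mem_elts.1 (List.mem_filter.1 hh).1) fun g => ?_, k36]
    rw [mem_centralizer_iff]
    simp only [Set.mem_insert_iff, Set.mem_singleton_iff, forall_eq_or_imp, forall_eq, List.mem_filter]
    refine ⟨fun ⟨h1, h2⟩ => ?_, ?_⟩
    · have hgz : Commute g z := (Eq.symm h2 : g * z = z * g)
      refine ⟨L.code hgz, ⟨mem_elts.2 (L.code_ok hgz), ?_⟩, L.psi_code hgz⟩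
      exact (L.psi_comm hxo (L.code_ok hgz)).1 (by rw [L.psi_code hgz]; exact h1)
    · rintro ⟨h, ⟨h1, h2⟩, rfl⟩
      exact ⟨(L.psi_comm hxo (mem_elts.1 h1)).2 h2, (L.cent (mem_elts.1 h1)).symm.eq⟩
  have hin : ∀ y : G, Commute y (L.ψ x) → Commute y z → y ∈ centralizer ({L.ψ x, z} : Set G) := by
    intro y h1 h2
    rw [mem_centralizer_iff]
    simp only [Set.mem_insert_iff, Set.mem_singleton_iff, forall_eq_or_imp, forall_eq]
    exact ⟨h1.symm.eq, h2.symm.eq⟩
  have hodd : ∀ y : G, Odd (orderOf y) → Commute y (L.ψ x) → Commute y z → y ∈ L.tSub := by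
    intro y ho h1 h2
    have hd : orderOf y ∣ 9 := by
      have h36 := (centralizer ({L.ψ x, z} : Set G)).orderOf_dvd_natCard (hin y h1 h2)
      rw [hcard, show (36 : ℕ) = 4 * 9 from rfl] at h36
      exact (Nat.Coprime.pow_right 2 (Nat.coprime_two_right.2 ho)).dvd_of_dvd_mul_left h36
    have h9 := orderOf_dvd_iff_pow_eq_one.1 hd
    rw [← L.psi_code h2, L.psi_nine (L.code_ok h2)] at h9
    refine ⟨_, (kh' (L.code_ok h2) ?_).1 h9, L.psi_code h2⟩
    exact (L.psi_comm hxo (L.code_ok h2)).1 (by rw [L.psi_code h2]; exact h1.symm)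
  obtain ⟨hY1, hY2⟩ := L.ySub_props
  have hxT : L.ψ x ∈ L.tSub := L.psi_mem_tSub (by
    simp only [List.mem_cons, List.not_mem_nil, or_false] at hx
    rcases hx with rfl | rfl <;> decide)
  refine ⟨L.z_sq, L.z_ne, L.cent hxo, fun y => ?_, ?_, ?_, fun y => ?_, hY2, ?_, hodd, ?_⟩
  · constructor
    · rintro ⟨h, hh, rfl⟩
      exact ⟨(L.tCodes_facts hh).1, ((L.psi_comm hxo (tCodes_ok hh)).2 (kT h hh).1).symm, L.cent (tCodes_ok hh)⟩
    · rintro ⟨h3, h1, h2⟩
      exact hodd y (Odd.of_dvd_nat (by decide) (orderOf_dvd_of_pow_eq_one h3)) h1 h2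
  · exact L.card_codes L.tSub tCodes (by decide) (fun _ h => tCodes_ok h) fun _ => Iff.rfl
  · rintro - ⟨h, hh, rfl⟩ - ⟨g, hg, rfl⟩
    exact (L.tCodes_facts hh).2 g hg
  · exact ⟨hY1 y, fun h => subset_closure h⟩
  · intro y hy hv
    exact hodd y (hY1 y hy).1 ((hY1 y hy).2 _ hxT) hv
  · intro S hS h
    have hle : S ≤ centralizer ({L.ψ x, z} : Set G) := fun p hp => hin p (h p hp).1 (h p hp).2
    have hd := Subgroup.card_dvd_of_le hle
    rw [hcard] at hd
    have : Fact (Nat.Prime 2) := ⟨Nat.prime_two⟩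
    obtain ⟨k, hk⟩ := hS.exists_card_eq
    rw [hk] at hd ⊢
    have hk2 : k ≤ 2 := by
      by_contra hc
      have h8 : 2 ^ 3 ∣ 36 := (pow_dvd_pow 2 (show 3 ≤ k by omega)).trans hd
      norm_num at h8
    calc 2 ^ k ≤ 2 ^ 2 := Nat.pow_le_pow_right (by norm_num) hk2
      _ = 4 := rfl

end Loc

end Cfsg.Lib.UFourThreeLocal
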